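import Cfsg.Agent.Wreath.CFour
import Cfsg.Agent.Transfer.ThompsonTransfer

/-!
# The wreath pattern, (C5): a homomorphism `G → ±1` with `t ↦ -1`
-/

set_option autoImplicit false

namespace Cfsg.Agent.Wreath.CFive

open Subgroup Cfsg.Agent.Wreath.End Cfsg.Agent.StdEven.Syl Cfsg.Agent.Wreath.CommonDef

variable {G : Type*} [Group G]

/-- The sign homomorphism of a normal subgroup of index 2. -/
theorem exists_hom {N : Subgroup G} (hN : N.Normal) (hi : N.index = 2) :
    ∃ f : G →* ℤˣ, ∀ g, f g = 1 ↔ g ∈ N := by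
  classical
  have hmul : ∀ a b : G, a * b ∈ N ↔ (a ∈ N ↔ b ∈ N) := fun a b => Subgroup.mul_mem_iff_of_index_two hi
  let f : G →* ℤˣ :=
    { toFun := fun g => if g ∈ N then 1 else -1
      map_one' := by rw [if_pos N.one_mem]
      map_mul' := by
        intro a b
        by_cases ha : a ∈ N <;> by_cases hb : b ∈ N <;> simp [hmul, ha, hb] }
  refine ⟨f, fun g => ?_⟩
  show (if g ∈ N then (1 : ℤˣ) else -1) = 1 ↔ g ∈ N
  by_cases hg : g ∈ N
  · rw [if_pos hg]; simp [hg]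
  · rw [if_neg hg]
    constructor
    · intro h1
      exact absurd h1 (by decide)
    · intro h1; exact absurd h1 hg

variable {t u : G} {A M₁ M₂ : Subgroup G} {h : Inp t u A M₁ M₂}

theorem relIndex_two {S S₀ : Subgroup G} [Finite G] (c : Com h S S₀) : S₀.relIndex S = 2 := by
  show (S₀.subgroupOf S).index = 2
  rw [Subgroup.index_eq_two_iff]
  refine ⟨⟨t, c.tS⟩, fun b => ?_⟩
  have h1 := c.idx b b.2
  show Xor' ((b : G) * t ∈ S₀) ((b : G) ∈ S₀)
  rcases h1 with h1 | h1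
  · right
    refine ⟨h1, fun h2 => c.t_notMem ?_⟩
    have h3 := S₀.mul_mem (S₀.inv_mem h1) h2
    rwa [inv_mul_cancel_left] at h3
  · left
    refine ⟨h1, fun h2 => c.t_notMem ?_⟩
    have h3 := S₀.mul_mem (S₀.inv_mem h2) h1
    rwa [inv_mul_cancel_left] at h3

/-- **(C4)** in the form of `Common`. -/
theorem noT [Finite G] {S : Subgroup G} (c : Common h S) (g : G) (hg : g * t * g⁻¹ ∈ S) :
    (g * t * g⁻¹) * u * (g * t * g⁻¹)⁻¹ ≠ u := by
  intro e
  apply (Com.of c).noT g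
  exact ⟨hg, mem_centralizer_singleton_iff.mpr (mul_inv_eq_iff_eq_mul.mp e)⟩

/-- **(C5)** -/
theorem exists_f [Finite G] {S : Subgroup G} (c : Common h S) : ∃ f : G →* ℤˣ, f t ≠ 1 := by
  have d := Com.of c
  obtain ⟨P, hP⟩ := d.syl.exists_sylow
  have h1 := relIndex_two d
  rcases Cfsg.Agent.Transfer.ThompsonTransfer.thompson_transfer P (S ⊓ centralizer {u})
    (by rw [hP]; exact inf_le_left) (by rw [hP]; exact h1) t (by rw [pow_two, h.t_sq]) with ⟨N, hN, hi, htN⟩ | ⟨g, hg⟩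
  · obtain ⟨f, hf⟩ := exists_hom hN hi
    exact ⟨f, fun e => htN ((hf t).mp e)⟩
  · exact absurd hg (d.noT g)

end Cfsg.Agent.Wreath.CFive
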