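import Cfsg.Agent.Wreath.Common
import Cfsg.Agent.StdEven.Syl
import Cfsg.Agent.SmallSimple.SylowMaxInter

/-!
# The end of the wreath pattern (S1739): (C1)

No conjugate of `t` lies in `J`; elements of a 2-group `S₁ ≥ J⟨t⟩` commuting with `u` and normalising `M₁M₁ᵗ` lie in `J`.
-/

set_option autoImplicit false

namespace Cfsg.Agent.Wreath.COne

open Subgroup
open Cfsg.Agent.Wreath.End

variable {G : Type*} [Group G] {t u : G} {A M₁ M₂ : Subgroup G}

section
variable (h : Inp t u A M₁ M₂)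

include h

/-- `t` centralises no 2-group conjugate to `J`. -/
theorem no_cent {g : G} (hg : ∀ j ∈ h.J, j * (g * t * g⁻¹) = (g * t * g⁻¹) * j) : False := by
  let T : Subgroup G := h.J.map (MulAut.conj g⁻¹).toMonoidHom
  have hTp : IsPGroup 2 T := h.isPGroup_J.map _
  have hcard : Nat.card T = 2 ^ 14 := by
    rw [← h.card_J]
    exact (Nat.card_congr (Subgroup.equivMapOfInjective _ _ (MulAut.conj g⁻¹).injective).toEquiv).symm
  have h7 := h.w7 T hTp (by
    rintro x ⟨j, hj, rfl⟩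
    have h1 := hg j hj
    simp only [MulEquiv.coe_toMonoidHom, MulAut.conj_apply, inv_inv]
    calc g⁻¹ * j * g * t = g⁻¹ * (j * (g * t * g⁻¹)) * g := by group
      _ = g⁻¹ * ((g * t * g⁻¹) * j) * g := by rw [h1]
      _ = t * (g⁻¹ * j * g) := by group)
  rw [hcard] at h7
  norm_num at h7

theorem J_pr_u {b : G} (hb : b = u ∨ b = 1) {c : G} (hc : c = u ∨ c = 1) {j : G} (hj : j ∈ h.J) :
    j * pr t b c = pr t b c * j := by
  obtain ⟨x, hx, y, hy, rfl⟩ := h.mem_J.1 hj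
  have hbA : b ∈ A := by rcases hb with rfl | rfl; exacts [h.u_mem_A, A.one_mem]
  have hcA : c ∈ A := by rcases hc with rfl | rfl; exacts [h.u_mem_A, A.one_mem]
  rw [h.pr_mul hx hy hbA hcA, h.pr_mul hbA hcA hx hy]
  have e1 : x * b = b * x := by
    rcases hb with rfl | rfl
    · exact h.facts.u_cent x hx
    · simp
  have e2 : y * c = c * y := by
    rcases hc with rfl | rfl
    · exact h.facts.u_cent y hy
    · simp
  rw [e1, e2]

/-- an involution `a` of `A` is conjugate to `u` by an element commuting with `Aᵗ`; for `a = 1` trivially. -/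
theorem exists_k {a : G} (ha : a ∈ A) (haa : a * a = 1) :
    ∃ k : G, (∀ b ∈ A, k * (t * b * t) = (t * b * t) * k) ∧ (k * a * k⁻¹ = u ∨ k * a * k⁻¹ = 1) ∧
      (k * a * k⁻¹ = 1 → a = 1) := by
  by_cases h1 : a = 1
  · refine ⟨1, fun b _ => by simp, Or.inr (by simp [h1]), fun _ => h1⟩
  · obtain ⟨k, h2, h3, -⟩ := h.w5 a ha haa h1
    exact ⟨k, h2, Or.inl h3, fun h4 => absurd (h3.symm.trans h4) h.facts.u_ne⟩

/-- Every element of `J` of order at most 2 is conjugate to one of `1, u, v, uv`. -/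
theorem exists_conj {x : G} (hx : x ∈ h.J) (hxx : x * x = 1) :
    ∃ k b c : G, (b = u ∨ b = 1) ∧ (c = u ∨ c = 1) ∧ k * x * k⁻¹ = pr t b c := by
  obtain ⟨a, ha, b, hb, rfl⟩ := h.mem_J.1 hx
  rw [h.pr_mul ha hb ha hb] at hxx
  obtain ⟨ha2, hb2⟩ := h.pr_eq_one (A.mul_mem ha ha) (A.mul_mem hb hb) hxx
  obtain ⟨k, hk1, hk2, -⟩ := exists_k h ha ha2
  obtain ⟨l, hl1, hl2, -⟩ := exists_k h hb hb2
  refine ⟨(t * l * t) * k, k * a * k⁻¹, l * b * l⁻¹, hk2, hl2, ?_⟩
  have hkaA : k * a * k⁻¹ ∈ A := by rcases hk2 with e | e <;> rw [e]; exacts [h.u_mem_A, A.one_mem]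
  -- `t l t` commutes with `A`
  have hl3 : (t * l * t) * (k * a * k⁻¹) = (k * a * k⁻¹) * (t * l * t) := by
    have e := hl1 _ hkaA
    have e2 : t * (l * (t * (k * a * k⁻¹) * t)) * t = t * ((t * (k * a * k⁻¹) * t) * l) * t := by rw [e]
    rw [h.cj_mul l, h.cj_mul _ l, h.cj_cj] at e2
    exact e2
  have h4 : k * pr t a b * k⁻¹ = pr t (k * a * k⁻¹) b := by
    unfold pr
    calc k * (a * (t * b * t)) * k⁻¹ = k * a * k⁻¹ * (k * (t * b * t)) * k⁻¹ := by group
      _ = k * a * k⁻¹ * ((t * b * t) * k) * k⁻¹ := by rw [hk1 b hb]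
      _ = _ := by group
  calc (t * l * t) * k * pr t a b * ((t * l * t) * k)⁻¹
      = (t * l * t) * (k * pr t a b * k⁻¹) * (t * l * t)⁻¹ := by group
    _ = (t * l * t) * ((k * a * k⁻¹) * (t * b * t)) * (t * l * t)⁻¹ := by rw [h4]; rfl
    _ = ((t * l * t) * (k * a * k⁻¹)) * (t * b * t) * (t * l * t)⁻¹ := by group
    _ = (k * a * k⁻¹) * ((t * l * t) * (t * b * t) * (t * l * t)⁻¹) := by rw [hl3]; group
    _ = (k * a * k⁻¹) * ((t * l * t) * (t * b * t) * (t * l⁻¹ * t)) := by rw [h.cj_inv]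
    _ = (k * a * k⁻¹) * (t * (l * b * l⁻¹) * t) := by rw [h.cj_mul, h.cj_mul]

/-- **(C1)(a)** No conjugate of `t` lies in `J`. -/
theorem t_not_conj (g : G) : g * t * g⁻¹ ∉ h.J := by
  intro hg
  obtain ⟨k, b, c, hb, hc, he⟩ := exists_conj h hg (by
    calc g * t * g⁻¹ * (g * t * g⁻¹) = g * (t * t) * g⁻¹ := by group
      _ = 1 := by rw [h.t_sq]; group)
  refine no_cent h (g := k * g) fun j hj => ?_
  have e : k * g * t * (k * g)⁻¹ = pr t b c := by rw [← he]; group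
  rw [e]
  exact J_pr_u h hb hc hj

/-- `t` does not fix `u`. -/
theorem tu_ne : t * u * t ≠ u := fun e => h.facts.u_ne (h.disj u h.u_mem_A (by rw [e]; exact h.u_mem_A))

/-- The group `J⟨t⟩`. -/
def K : Subgroup G where
  carrier := {g | g ∈ h.J ∨ g * t ∈ h.J}
  one_mem' := Or.inl h.J.one_mem
  mul_mem' := by
    have hsw : ∀ j ∈ h.J, t * j * t ∈ h.J := fun j hj => by
      obtain ⟨a, ha, b, hb, rfl⟩ := h.mem_J.1 hj
      rw [h.pr_swap ha hb]
      exact h.pr_mem_J hb ha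
    rintro x y (hx | hx) (hy | hy)
    · exact Or.inl (h.J.mul_mem hx hy)
    · exact Or.inr (by rw [mul_assoc]; exact h.J.mul_mem hx hy)
    · right
      have e : x * y * t = (x * t) * (t * y * t) := by
        calc x * y * t = x * 1 * y * t := by group
          _ = x * (t * t) * y * t := by rw [h.t_sq]
          _ = _ := by group
      rw [e]
      exact h.J.mul_mem hx (hsw y hy)
    · left
      have e : x * y = (x * t) * (t * (y * t) * t) := by
        calc x * y = x * 1 * y * 1 := by group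
          _ = x * (t * t) * y * (t * t) := by rw [h.t_sq]
          _ = _ := by group
      rw [e]
      exact h.J.mul_mem hx (hsw _ hy)
  inv_mem' := by
    have hsw : ∀ j ∈ h.J, t * j * t ∈ h.J := fun j hj => by
      obtain ⟨a, ha, b, hb, rfl⟩ := h.mem_J.1 hj
      rw [h.pr_swap ha hb]
      exact h.pr_mem_J hb ha
    rintro x (hx | hx)
    · exact Or.inl (h.J.inv_mem hx)
    · right
      have h1 := hsw _ (h.J.inv_mem hx)
      have e : t * (x * t)⁻¹ * t = x⁻¹ * t := by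
        rw [mul_inv_rev, h.t_inv]
        calc t * (t * x⁻¹) * t = (t * t) * x⁻¹ * t := by group
          _ = _ := by rw [h.t_sq, one_mul]
      rwa [e] at h1

theorem mem_K {g : G} : g ∈ K h ↔ g ∈ h.J ∨ g * t ∈ h.J := Iff.rfl

theorem J_le_K : h.J ≤ K h := fun _ hg => Or.inl hg

theorem t_mem_K : t ∈ K h := Or.inr (by rw [h.t_sq]; exact h.J.one_mem)

/-- An element of the coset `Jt` of order 2 is conjugate to `t` by an element of `A`. -/
theorem exists_conj_t {j : G} (hj : j ∈ h.J) (hjt : (j * t) * (j * t) = 1) : ∃ a ∈ A, a * t * a⁻¹ = j * t := by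
  obtain ⟨a, ha, b, hb, rfl⟩ := h.mem_J.1 hj
  have e1 : pr t a b * pr t b a = 1 := by
    rw [← h.pr_swap ha hb]
    calc pr t a b * (t * pr t a b * t) = (pr t a b * t) * (pr t a b * t) := by group
      _ = 1 := hjt
  rw [h.pr_mul ha hb hb ha] at e1
  obtain ⟨e2, -⟩ := h.pr_eq_one (A.mul_mem ha hb) (A.mul_mem hb ha) e1
  refine ⟨a, ha, ?_⟩
  have e3 : b = a⁻¹ := (inv_eq_of_mul_eq_one_right e2).symm
  unfold pr
  rw [e3]
  calc a * t * a⁻¹ = a * (t * a⁻¹ * 1) := by group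
    _ = a * (t * a⁻¹ * (t * t)) := by rw [h.t_sq]
    _ = _ := by group

/-- The diagonal subgroup. -/
def D : Subgroup G where
  carrier := {g | ∃ a ∈ A, g = pr t a a}
  one_mem' := ⟨1, A.one_mem, h.pr_one_one.symm⟩
  mul_mem' := by
    rintro x y ⟨a, ha, rfl⟩ ⟨b, hb, rfl⟩
    exact ⟨a * b, A.mul_mem ha hb, h.pr_mul ha ha hb hb⟩
  inv_mem' := by
    rintro x ⟨a, ha, rfl⟩
    exact ⟨a⁻¹, A.inv_mem ha, h.pr_inv ha ha⟩

theorem mem_D {g : G} : g ∈ D h ↔ ∃ a ∈ A, g = pr t a a := Iff.rfl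

theorem D_le_J : D h ≤ h.J := by
  rintro g ⟨a, ha, rfl⟩
  exact h.pr_mem_J ha ha

theorem card_D : Nat.card (D h) = 128 := by
  rw [← h.facts.card]
  symm
  refine Nat.card_congr (Equiv.ofBijective (fun a : A => (⟨pr t a a, a, a.2, rfl⟩ : D h)) ⟨?_, ?_⟩)
  · intro a b hab
    have := congrArg Subtype.val hab
    exact Subtype.ext (h.pr_inj a.2 a.2 b.2 b.2 this).1
  · rintro ⟨g, a, ha, rfl⟩
    exact ⟨⟨a, ha⟩, rfl⟩

theorem D_comm {g : G} (hg : g ∈ D h) : g * t = t * g := by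
  obtain ⟨a, ha, rfl⟩ := hg
  have e := h.pr_swap ha ha
  calc pr t a a * t = t * pr t a a * t * t := by rw [e]
    _ = t * pr t a a * (t * t) := by group
    _ = t * pr t a a := by rw [h.t_sq, mul_one]

/-- A group of order at most `2⁸` containing `D` and `t` lies in `J⟨t⟩`. -/
theorem le_K_of_card [Finite G] {C : Subgroup G} (hC : Nat.card C ≤ 2 ^ 8) (hD : D h ≤ C) (ht : t ∈ C) {y : G} (hy : y ∈ C) :
    y ∈ K h := by
  have h1 : Nat.card ((D h).subgroupOf C) * ((D h).subgroupOf C).index = Nat.card C :=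
    Subgroup.card_mul_index _
  have h2 : Nat.card ((D h).subgroupOf C) = 128 := by
    rw [← card_D h]; exact Nat.card_congr (Subgroup.subgroupOfEquivOfLe hD).toEquiv
  have h3 : ((D h).subgroupOf C).index ≤ 2 := by
    rw [h2] at h1
    norm_num at hC
    omega
  have h4 : ((D h).subgroupOf C).index ≠ 1 := by
    intro h5
    rw [Subgroup.index_eq_one, Subgroup.subgroupOf_eq_top] at h5
    exact h.t_not_mem (D_le_J h (h5 ht))
  have h5 : ((D h).subgroupOf C).index ≠ 0 := Subgroup.index_ne_zero_of_finite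
  have h6 : ((D h).subgroupOf C).index = 2 := by omega
  by_cases h7 : y ∈ D h
  · exact Or.inl (D_le_J h h7)
  · right
    apply D_le_J h
    have h8 := Subgroup.mul_mem_iff_of_index_two h6 (a := (⟨y, hy⟩ : C)) (b := (⟨t, ht⟩ : C))
    simp only [Subgroup.mem_subgroupOf, Subgroup.coe_mul] at h8
    rw [h8]
    exact ⟨fun h9 => absurd h9 h7, fun h9 => absurd (D_le_J h h9) h.t_not_mem⟩

/-- **(C1)(b)** Elements of a 2-group `S₁ ≥ J⟨t⟩` commuting with `u` and normalising `M₁M₁ᵗ` lie in `J`. -/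
theorem norm_Q [Finite G] {S₁ : Subgroup G} (hS : IsPGroup 2 S₁) (ht : t ∈ S₁) (hJ : h.J ≤ S₁)
    {x : G} (hx : x ∈ S₁) (hu : x * u * x⁻¹ = u)
    (hQ : ∀ q ∈ h.PR M₁ M₁, x * q * x⁻¹ ∈ h.PR M₁ M₁) : x ∈ h.J := by
  have : Fact (Nat.Prime 2) := ⟨Nat.prime_two⟩
  have hQJ : ∀ j ∈ h.J, ∀ q ∈ h.PR M₁ M₁, j * q * j⁻¹ ∈ h.PR M₁ M₁ := by
    intro j hj q hq
    obtain ⟨a, ha, b, hb, rfl⟩ := h.mem_J.1 hj
    obtain ⟨m, hm, n, hn', rfl⟩ := (h.mem_PR h.facts.le₁ h.facts.le₁).1 hq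
    rw [h.pr_conj ha hb (h.facts.le₁ hm) (h.facts.le₁ hn')]
    exact h.pr_mem_PR h.facts.le₁ h.facts.le₁ (h.facts.norm₁ a ha m hm) (h.facts.norm₁ b hb n hn')
  have hQt : ∀ q ∈ h.PR M₁ M₁, t * q * t⁻¹ ∈ h.PR M₁ M₁ := by
    intro q hq
    obtain ⟨m, hm, n, hn', rfl⟩ := (h.mem_PR h.facts.le₁ h.facts.le₁).1 hq
    rw [h.t_inv, h.pr_swap (h.facts.le₁ hm) (h.facts.le₁ hn')]
    exact h.pr_mem_PR h.facts.le₁ h.facts.le₁ hn' hm
  let T : Subgroup G := S₁ ⊓ normalizer (h.PR M₁ M₁ : Set G)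
  have hTp : IsPGroup 2 T := hS.to_le inf_le_left
  have hTQ : ∀ y ∈ T, ∀ q ∈ h.PR M₁ M₁, y * q * y⁻¹ ∈ h.PR M₁ M₁ := fun y hy q hq =>
    (mem_normalizer_iff.1 hy.2 q).1 hq
  have hJT : h.J ≤ T := fun j hj => ⟨hJ hj, Cfsg.Agent.StdEven.Syl.mem_normalizer_of_conj_le (hQJ j hj)⟩
  have htT : t ∈ T := ⟨ht, Cfsg.Agent.StdEven.Syl.mem_normalizer_of_conj_le hQt⟩
  have hKT : K h ≤ T := by
    rintro g (hg | hg)
    · exact hJT hg
    · have e : g = g * t * t := by rw [mul_assoc, h.t_sq, mul_one]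
      rw [e]
      exact T.mul_mem (hJT hg) htT
  -- elements of `T` commuting with `t` are in `J⟨t⟩`
  have hC : ∀ y ∈ T, y * t = t * y → y ∈ K h := by
    intro y hy hyt
    let C : Subgroup G := T ⊓ centralizer {t}
    have hCt : ∀ x ∈ C, x * t = t * x := fun x hx => mem_centralizer_singleton_iff.1 hx.2
    have h1 : Nat.card C ≤ 2 ^ 8 := by
      refine h.w6 C (hTp.to_le inf_le_left) hCt ?_
      intro x hx m hm
      have h2 := hTQ x hx.1 (pr t m m) (h.pr_mem_PR h.facts.le₁ h.facts.le₁ hm hm)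
      obtain ⟨a, ha, b, hb, he⟩ := (h.mem_PR h.facts.le₁ h.facts.le₁).1 h2
      have hxt := hCt x hx
      have h3 : t * (x * pr t m m * x⁻¹) * t = x * pr t m m * x⁻¹ := by
        have e1 : t * x = x * t := hxt.symm
        have e2 : x⁻¹ * t = t * x⁻¹ := by
          calc x⁻¹ * t = x⁻¹ * (t * x) * x⁻¹ := by group
            _ = x⁻¹ * (x * t) * x⁻¹ := by rw [e1]
            _ = _ := by group
        calc t * (x * pr t m m * x⁻¹) * t = (t * x) * pr t m m * (x⁻¹ * t) := by group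
          _ = (x * t) * pr t m m * (t * x⁻¹) := by rw [e1, e2]
          _ = x * (t * pr t m m * t) * x⁻¹ := by group
          _ = _ := by rw [h.pr_swap (h.facts.le₁ hm) (h.facts.le₁ hm)]
      rw [he, h.pr_swap (h.facts.le₁ ha) (h.facts.le₁ hb)] at h3
      obtain ⟨e3, -⟩ := h.pr_inj (h.facts.le₁ hb) (h.facts.le₁ ha) (h.facts.le₁ ha) (h.facts.le₁ hb) h3
      subst e3
      exact ⟨b, hb, he⟩
    refine le_K_of_card h h1 ?_ ?_ ⟨hy, mem_centralizer_singleton_iff.2 hyt⟩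
    · intro g hg
      exact ⟨hJT (D_le_J h hg), mem_centralizer_singleton_iff.2 (D_comm h hg)⟩
    · exact ⟨htT, mem_centralizer_singleton_iff.2 rfl⟩
  -- `T = J⟨t⟩`
  have hTK : T ≤ K h := by
    by_contra hcon
    have hlt : K h < T := lt_of_le_of_ne hKT (fun e => hcon e.ge)
    have h1 := Cfsg.Agent.SmallSimple.SylowMaxInter.lt_inf_normalizer hTp hlt
    obtain ⟨y, hy, hyK⟩ := SetLike.exists_of_lt h1
    apply hyK
    have h2 : y * t * y⁻¹ ∈ K h := (mem_normalizer_iff.1 hy.2 t).1 (t_mem_K h)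
    rcases h2 with h3 | h3
    · exact absurd h3 (t_not_conj h y)
    · have h4 : (y * t * y⁻¹ * t) * t = y * t * y⁻¹ := by rw [mul_assoc, h.t_sq, mul_one]
      obtain ⟨a, ha, h5⟩ := exists_conj_t h h3 (by
        rw [h4]
        calc y * t * y⁻¹ * (y * t * y⁻¹) = y * (t * t) * y⁻¹ := by group
          _ = 1 := by rw [h.t_sq]; group)
      rw [h4] at h5
      have haT : a ∈ T := hJT (h.A_le_J ha)
      have h6 : a⁻¹ * y ∈ K h := by
        refine hC _ (T.mul_mem (T.inv_mem haT) hy.1) ?_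
        calc a⁻¹ * y * t = a⁻¹ * (y * t * y⁻¹) * y := by group
          _ = a⁻¹ * (a * t * a⁻¹) * y := by rw [h5]
          _ = t * (a⁻¹ * y) := by group
      have h7 : y = a * (a⁻¹ * y) := by group
      rw [h7]
      exact (K h).mul_mem (J_le_K h (h.A_le_J ha)) h6
  rcases hTK ⟨hx, Cfsg.Agent.StdEven.Syl.mem_normalizer_of_conj_le hQ⟩ with h1 | h1
  · exact h1
  · exfalso
    apply tu_ne h
    have h2 := J_pr_u h (Or.inl rfl) (Or.inr rfl) h1
    rw [h.pr_one_right] at h2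
    have h3 : x * t * u * (x * t)⁻¹ = u := by rw [h2]; group
    have h4 : x * (t * u * t) * x⁻¹ = u := by
      calc x * (t * u * t) * x⁻¹ = x * t * u * (t⁻¹ * x⁻¹) := by rw [h.t_inv]; group
        _ = x * t * u * (x * t)⁻¹ := by group
        _ = u := h3
    calc t * u * t = x⁻¹ * (x * (t * u * t) * x⁻¹) * x := by group
      _ = x⁻¹ * (x * u * x⁻¹) * x := by rw [h4, hu]
      _ = u := by group

end

end Cfsg.Agent.Wreath.COne
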