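import Mathlib

/-!
# The 2-group `A = 2⁴ : D₈ ≤ 2⁴ : A₇` (Sylow 2-subgroup of McL)

`AData.Facts A M₁ M₂ u` is the list of the facts on this group of order `2⁷` which are used in the end of the
treatment of the wreath pattern (S1739).  They all are properties of the isomorphism type of `A`.
-/

set_option autoImplicit false

namespace Cfsg.Agent.Wreath.AData

open Subgroup

/-- Facts on the Sylow 2-subgroup `A` of `2⁴ : A₇`: `M₁`, `M₂` are its two elementary abelian subgroups of order 16,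
`u` generates its centre. -/
structure Facts {G : Type*} [Group G] (A M₁ M₂ : Subgroup G) (u : G) : Prop where
  card : Nat.card A = 128
  le₁ : M₁ ≤ A
  le₂ : M₂ ≤ A
  ne : M₁ ≠ M₂
  card₁ : Nat.card M₁ = 16
  card₂ : Nat.card M₂ = 16
  sq₁ : ∀ x ∈ M₁, x * x = 1
  sq₂ : ∀ x ∈ M₂, x * x = 1
  norm₁ : ∀ a ∈ A, ∀ m ∈ M₁, a * m * a⁻¹ ∈ M₁
  norm₂ : ∀ a ∈ A, ∀ m ∈ M₂, a * m * a⁻¹ ∈ M₂
  /-- `M₁` and `M₂` are the only elementary abelian subgroups of order `≥ 16` -/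
  only : ∀ F : Subgroup G, F ≤ A → (∀ x ∈ F, x * x = 1) → 16 ≤ Nat.card F → F = M₁ ∨ F = M₂
  cardV : Nat.card (M₁ ⊓ M₂ : Subgroup G) = 4
  cardP : Nat.card (M₁ ⊔ M₂ : Subgroup G) = 64
  inv : ∀ x ∈ M₁ ⊔ M₂, x * x = 1 → x ∈ M₁ ∨ x ∈ M₂
  centV : ∀ a ∈ A, (∀ x ∈ M₁ ⊓ M₂, a * x = x * a) → a ∈ M₁ ⊔ M₂
  comV : ⁅M₁ ⊔ M₂, M₁ ⊔ M₂⁆ = M₁ ⊓ M₂
  u_mem : u ∈ M₁ ⊓ M₂
  u_ne : u ≠ 1
  u_cent : ∀ a ∈ A, a * u = u * a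
  center : ∀ c ∈ A, (∀ a ∈ A, c * a = a * c) → c = 1 ∨ c = u
  /-- elements outside `P = M₁ M₂` centralise only `u` in `V` -/
  centu : ∀ a ∈ A, a ∉ M₁ ⊔ M₂ → ∀ x ∈ M₁ ⊓ M₂, a * x = x * a → x = 1 ∨ x = u
  /-- only the elements of `V` have all commutators with `P` in `⟨u⟩` -/
  pv : ∀ m ∈ M₁ ⊔ M₂, (∀ p ∈ M₁ ⊔ M₂, m * p * m⁻¹ * p⁻¹ = 1 ∨ m * p * m⁻¹ * p⁻¹ = u) → m ∈ M₁ ⊓ M₂
  gen : A ≤ closure {x | x ∈ A ∧ x * x = 1}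
  small₁ : ∀ a ∈ A, a ∉ M₁ → Nat.card (M₁ ⊓ centralizer {a} : Subgroup G) ≤ 4
  small₂ : ∀ a ∈ A, a ∉ M₂ → Nat.card (M₂ ⊓ centralizer {a} : Subgroup G) ≤ 4
  /-- (P1) an involution swapping `M₁` and `M₂` is `A`-conjugate to its product with `u` -/
  swap₁ : ∀ y : G, y * y = 1 → (∀ a ∈ A, y * a * y⁻¹ ∈ A) → (∀ x ∈ M₁, y * x * y⁻¹ ∈ M₂) →
    ∃ a ∈ A, y * a * y⁻¹ = a * u
  /-- (P1') -/
  swap₂ : ∀ y : G, y * y = 1 → (∀ a ∈ A, y * a * y⁻¹ ∈ A) → (∀ x ∈ M₁, y * x * y⁻¹ ∈ M₂) →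
    u ∈ ⁅A ⊓ centralizer {y}, A ⊓ centralizer {y}⁆
  /-- (P3) -/
  swap₃ : ∀ y : G, y * y = 1 → (∀ a ∈ A, y * a * y⁻¹ ∈ A) → (∀ x ∈ M₁, y * x * y⁻¹ ∈ M₂) →
    Nat.card (A ⊓ centralizer {y} : Subgroup G) ≤ 16
  /-- an element normalising `A` and `M₁` acts on `M₁` as an element of `A`, or as the product of one
  with a transvection -/
  fix₁ : ∀ y : G, (∀ a ∈ A, y * a * y⁻¹ ∈ A) → (∀ x ∈ M₁, y * x * y⁻¹ ∈ M₁) →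
    (∃ a ∈ A, ∀ x ∈ M₁, y * x * y⁻¹ = a * x * a⁻¹) ∨
    ∃ a ∈ A, ∃ c ∈ M₁, (∀ x ∈ M₁, (y * a) * x * (y * a)⁻¹ = x ∨ (y * a) * x * (y * a)⁻¹ = x * c) ∧
      ∃ x ∈ M₁, (y * a) * x * (y * a)⁻¹ ≠ x
  fix₂ : ∀ y : G, (∀ a ∈ A, y * a * y⁻¹ ∈ A) → (∀ x ∈ M₂, y * x * y⁻¹ ∈ M₂) →
    (∃ a ∈ A, ∀ x ∈ M₂, y * x * y⁻¹ = a * x * a⁻¹) ∨
    ∃ a ∈ A, ∃ c ∈ M₂, (∀ x ∈ M₂, (y * a) * x * (y * a)⁻¹ = x ∨ (y * a) * x * (y * a)⁻¹ = x * c) ∧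
      ∃ x ∈ M₂, (y * a) * x * (y * a)⁻¹ ≠ x

end Cfsg.Agent.Wreath.AData
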