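import Mathlib
import Cfsg.Agent.Wreath.AData

/-!
# `AData.Facts` is invariant under isomorphisms of the ambient group
-/

set_option autoImplicit false

namespace Cfsg.Agent.Wreath.ADataMap

open Subgroup

variable {G G' : Type*} [Group G] [Group G']

theorem mem_map_iff (e : G ≃* G') {K : Subgroup G} {x : G} : e x ∈ K.map e.toMonoidHom ↔ x ∈ K := by
  constructor
  · rintro ⟨y, hy, h⟩
    have h' : e y = e x := h
    exact e.injective h' ▸ hy
  · intro h; exact ⟨x, h, rfl⟩

theorem cent_map (e : G ≃* G') (K : Subgroup G) (a : G) :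
    K.map e.toMonoidHom ⊓ centralizer {e a} = (K ⊓ centralizer {a}).map e.toMonoidHom := by
  ext y
  obtain ⟨x, rfl⟩ := e.surjective y
  rw [mem_inf, mem_map_iff, mem_map_iff, mem_inf, mem_centralizer_singleton_iff, mem_centralizer_singleton_iff,
    ← map_mul, ← map_mul]
  exact and_congr_right fun _ => ⟨fun h => e.injective h, fun h => congrArg e h⟩

theorem card_map (e : G ≃* G') (K : Subgroup G) : Nat.card (K.map e.toMonoidHom) = Nat.card K :=
  Subgroup.card_map_of_injective e.injective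

/-- **Transport.** -/
theorem facts_map (e : G ≃* G') {A M₁ M₂ : Subgroup G} {u : G} (F : AData.Facts A M₁ M₂ u) :
    AData.Facts (A.map e.toMonoidHom) (M₁.map e.toMonoidHom) (M₂.map e.toMonoidHom) (e u) := by
  have hinf : M₁.map e.toMonoidHom ⊓ M₂.map e.toMonoidHom = (M₁ ⊓ M₂).map e.toMonoidHom :=
    (Subgroup.map_inf _ _ _ e.injective).symm
  have hsup : M₁.map e.toMonoidHom ⊔ M₂.map e.toMonoidHom = (M₁ ⊔ M₂).map e.toMonoidHom :=
    (Subgroup.map_sup _ _ _).symm
  have hcj : ∀ {K L : Subgroup G} {y : G}, (∀ x ∈ K.map e.toMonoidHom, e y * x * (e y)⁻¹ ∈ L.map e.toMonoidHom) →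
      ∀ x ∈ K, y * x * y⁻¹ ∈ L := by
    intro K L y h x hx
    have h1 := h (e x) ((mem_map_iff e).2 hx)
    rw [← map_inv, ← map_mul, ← map_mul] at h1
    exact (mem_map_iff e).1 h1
  refine
    { card := by rw [card_map]; exact F.card
      le₁ := Subgroup.map_mono F.le₁
      le₂ := Subgroup.map_mono F.le₂
      ne := fun h => F.ne (Subgroup.map_injective e.injective h)
      card₁ := by rw [card_map]; exact F.card₁
      card₂ := by rw [card_map]; exact F.card₂
      sq₁ := ?_
      sq₂ := ?_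
      norm₁ := ?_
      norm₂ := ?_
      only := ?_
      cardV := by rw [hinf, card_map]; exact F.cardV
      cardP := by rw [hsup, card_map]; exact F.cardP
      inv := ?_
      centV := ?_
      comV := by rw [hsup, hinf, ← F.comV, Subgroup.map_commutator]
      u_mem := by rw [hinf]; exact (mem_map_iff e).2 F.u_mem
      u_ne := fun h => F.u_ne (e.injective (h.trans (map_one e).symm))
      u_cent := ?_
      center := ?_
      centu := ?_
      pv := ?_
      gen := ?_
      small₁ := ?_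
      small₂ := ?_
      swap₁ := ?_
      swap₂ := ?_
      swap₃ := ?_
      fix₁ := ?_
      fix₂ := ?_ }
  · rintro _ ⟨x, hx, rfl⟩
    rw [← map_mul, F.sq₁ x hx, map_one]
  · rintro _ ⟨x, hx, rfl⟩
    rw [← map_mul, F.sq₂ x hx, map_one]
  · rintro _ ⟨a, ha, rfl⟩ _ ⟨m, hm, rfl⟩
    rw [← map_inv, ← map_mul, ← map_mul]
    exact (mem_map_iff e).2 (F.norm₁ a ha m hm)
  · rintro _ ⟨a, ha, rfl⟩ _ ⟨m, hm, rfl⟩
    rw [← map_inv, ← map_mul, ← map_mul]
    exact (mem_map_iff e).2 (F.norm₂ a ha m hm)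
  · intro K hK hsq hcard
    have hKe : K = (K.comap e.toMonoidHom).map e.toMonoidHom :=
      (Subgroup.map_comap_eq_self_of_surjective e.surjective K).symm
    have h1 := F.only (K.comap e.toMonoidHom)
      (by
        intro x hx
        exact (mem_map_iff e).1 (hK hx))
      (by
        intro x hx
        apply e.injective
        rw [map_mul, map_one]
        exact hsq _ hx)
      (by rw [← card_map e, ← hKe]; exact hcard)
    rcases h1 with h1 | h1
    · left; rw [hKe, h1]
    · right; rw [hKe, h1]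
  · rw [hsup]
    rintro _ ⟨x, hx, rfl⟩ h
    have h' : x * x = 1 := by
      apply e.injective
      rw [map_mul, map_one]
      exact h
    rcases F.inv x hx h' with h1 | h1
    · exact Or.inl ((mem_map_iff e).2 h1)
    · exact Or.inr ((mem_map_iff e).2 h1)
  · rw [hinf, hsup]
    rintro _ ⟨a, ha, rfl⟩ h
    refine (mem_map_iff e).2 (F.centV a ha fun x hx => ?_)
    apply e.injective
    rw [map_mul, map_mul]
    exact h (e x) ((mem_map_iff e).2 hx)
  · rintro _ ⟨a, ha, rfl⟩
    show e a * e u = e u * e a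
    rw [← map_mul, F.u_cent a ha, map_mul]
  · rintro _ ⟨c, hc, rfl⟩ h
    rcases F.center c hc (fun a ha => by
      apply e.injective
      rw [map_mul, map_mul]
      exact h (e a) ((mem_map_iff e).2 ha)) with h1 | h1
    · left; show e c = 1; rw [h1, map_one]
    · right; show e c = e u; rw [h1]
  · rw [hsup, hinf]
    rintro _ ⟨a, ha, rfl⟩ hn _ ⟨x, hx, rfl⟩ h
    rcases F.centu a ha (fun h' => hn ((mem_map_iff e).2 h')) x hx (by
      apply e.injective
      rw [map_mul, map_mul]
      exact h) with h1 | h1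
    · left; show e x = 1; rw [h1, map_one]
    · right; show e x = e u; rw [h1]
  · rw [hsup, hinf]
    rintro _ ⟨m, hm, rfl⟩ h
    refine (mem_map_iff e).2 (F.pv m hm fun p hp => ?_)
    have h1 : e m * e p * (e m)⁻¹ * (e p)⁻¹ = 1 ∨ e m * e p * (e m)⁻¹ * (e p)⁻¹ = e u :=
      h (e p) ((mem_map_iff e).2 hp)
    rw [← map_inv, ← map_inv, ← map_mul, ← map_mul, ← map_mul, ← map_one e] at h1
    exact h1.imp (fun h => e.injective h) (fun h => e.injective h)
  · rw [Subgroup.map_le_iff_le_comap]
    refine F.gen.trans ((closure_le _).2 ?_)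
    rintro x ⟨hx, hxx⟩
    show e x ∈ Subgroup.closure _
    refine Subgroup.subset_closure ⟨(mem_map_iff e).2 hx, ?_⟩
    rw [← map_mul, hxx, map_one]
  · rintro _ ⟨a, ha, rfl⟩ hn
    show Nat.card (M₁.map e.toMonoidHom ⊓ centralizer {e a} : Subgroup G') ≤ 4
    rw [cent_map, card_map]
    exact F.small₁ a ha (fun h => hn ((mem_map_iff e).2 h))
  · rintro _ ⟨a, ha, rfl⟩ hn
    show Nat.card (M₂.map e.toMonoidHom ⊓ centralizer {e a} : Subgroup G') ≤ 4
    rw [cent_map, card_map]
    exact F.small₂ a ha (fun h => hn ((mem_map_iff e).2 h))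
  · intro y hyy hyA hy
    obtain ⟨y, rfl⟩ := e.surjective y
    obtain ⟨a, ha, h⟩ := F.swap₁ y (e.injective (by rw [map_mul, map_one]; exact hyy)) (hcj hyA) (hcj hy)
    refine ⟨e a, (mem_map_iff e).2 ha, ?_⟩
    rw [← map_inv, ← map_mul, ← map_mul, h, map_mul]
  · intro y hyy hyA hy
    obtain ⟨y, rfl⟩ := e.surjective y
    have h := F.swap₂ y (e.injective (by rw [map_mul, map_one]; exact hyy)) (hcj hyA) (hcj hy)
    rw [cent_map, ← Subgroup.map_commutator]
    exact (mem_map_iff e).2 h
  · intro y hyy hyA hy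
    obtain ⟨y, rfl⟩ := e.surjective y
    have h := F.swap₃ y (e.injective (by rw [map_mul, map_one]; exact hyy)) (hcj hyA) (hcj hy)
    rw [cent_map, card_map]
    exact h
  · intro y hyA hy
    obtain ⟨y, rfl⟩ := e.surjective y
    rcases F.fix₁ y (hcj hyA) (hcj hy) with ⟨a, ha, h⟩ | ⟨a, ha, c, hc, h, x, hx, hne⟩
    · left
      refine ⟨e a, (mem_map_iff e).2 ha, ?_⟩
      rintro _ ⟨x, hx, rfl⟩
      show e y * e x * (e y)⁻¹ = e a * e x * (e a)⁻¹
      rw [← map_inv, ← map_inv, ← map_mul, ← map_mul, ← map_mul, ← map_mul, h x hx]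
    · right
      refine ⟨e a, (mem_map_iff e).2 ha, e c, (mem_map_iff e).2 hc, ?_, e x, (mem_map_iff e).2 hx, ?_⟩
      · rintro _ ⟨z, hz, rfl⟩
        show (e y * e a) * e z * (e y * e a)⁻¹ = e z ∨ (e y * e a) * e z * (e y * e a)⁻¹ = e z * e c
        rw [← map_mul, ← map_inv, ← map_mul, ← map_mul, ← map_mul]
        rcases h z hz with h1 | h1
        · left; rw [h1]
        · right; rw [h1]
      · rw [← map_mul, ← map_inv, ← map_mul, ← map_mul]
        exact fun h' => hne (e.injective h')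
  · intro y hyA hy
    obtain ⟨y, rfl⟩ := e.surjective y
    rcases F.fix₂ y (hcj hyA) (hcj hy) with ⟨a, ha, h⟩ | ⟨a, ha, c, hc, h, x, hx, hne⟩
    · left
      refine ⟨e a, (mem_map_iff e).2 ha, ?_⟩
      rintro _ ⟨x, hx, rfl⟩
      show e y * e x * (e y)⁻¹ = e a * e x * (e a)⁻¹
      rw [← map_inv, ← map_inv, ← map_mul, ← map_mul, ← map_mul, ← map_mul, h x hx]
    · right
      refine ⟨e a, (mem_map_iff e).2 ha, e c, (mem_map_iff e).2 hc, ?_, e x, (mem_map_iff e).2 hx, ?_⟩
      · rintro _ ⟨z, hz, rfl⟩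
        show (e y * e a) * e z * (e y * e a)⁻¹ = e z ∨ (e y * e a) * e z * (e y * e a)⁻¹ = e z * e c
        rw [← map_mul, ← map_inv, ← map_mul, ← map_mul, ← map_mul]
        rcases h z hz with h1 | h1
        · left; rw [h1]
        · right; rw [h1]
      · rw [← map_mul, ← map_inv, ← map_mul, ← map_mul]
        exact fun h' => hne (e.injective h')

end Cfsg.Agent.Wreath.ADataMap
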