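import Mathlib
import Cfsg.Agent.SporRec.NineTwo.Abs
import Cfsg.Agent.TypeM.LemQG

/-!
# (D3) of the end of Theorem W (S1739): abstract lemmas

`Split C₀ Z m`: `Z` is a central elementary abelian 2-subgroup of `C₀` of odd index `m`; `c ↦ c ^ m` is the
projection of `C₀ = Z × O(C₀)` onto `Z`.
-/

set_option autoImplicit false

namespace Cfsg.Agent.Wreath.DThreeCoc

open Subgroup Cfsg.Agent.SporRec.NineTwo.Abs

variable {G : Type*} [Group G]

/-- `C₀ = Z × O(C₀)`. -/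
structure Split (C₀ Z : Subgroup G) (m : ℕ) : Prop where
  le : Z ≤ C₀
  cen : ∀ z ∈ Z, ∀ c ∈ C₀, z * c = c * z
  sq : ∀ z ∈ Z, z * z = 1
  odd : Odd m
  pow : ∀ c ∈ C₀, c ^ m ∈ Z
  mul : ∀ c ∈ C₀, ∀ c' ∈ C₀, (c * c') ^ m = c ^ m * c' ^ m

theorem exists_split [Finite G] {C₀ Z : Subgroup G} (le : Z ≤ C₀) (cen : ∀ z ∈ Z, ∀ c ∈ C₀, z * c = c * z)
    (sq : ∀ z ∈ Z, z * z = 1) (two : ∀ c ∈ C₀, (∃ n : ℕ, c ^ 2 ^ n = 1) → c ∈ Z) : ∃ m, Split C₀ Z m := by
  have hZc : Z.subgroupOf C₀ ≤ center C₀ := by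
    intro z hz
    rw [mem_center_iff]
    intro c
    apply Subtype.ext
    exact (cen z (mem_subgroupOf.1 hz) c c.2).symm
  have hnormal : (Z.subgroupOf C₀).Normal := ⟨fun z hz c => by
    have h1 := mem_center_iff.1 (hZc hz) c
    rw [h1, mul_inv_cancel_right]; exact hz⟩
  refine ⟨(Z.subgroupOf C₀).index, le, cen, sq, ?_, ?_, ?_⟩
  · rw [← Nat.not_even_iff_odd, even_iff_two_dvd]
    refine TypeM.odd_index (Z.subgroupOf C₀) ?_
    rintro x ⟨n, hn⟩
    rw [mem_subgroupOf]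
    exact two x x.2 ⟨n, by simpa using congrArg Subtype.val hn⟩
  · intro c hc
    have h1 := Subgroup.pow_index_mem (Z.subgroupOf C₀) (⟨c, hc⟩ : C₀)
    simpa [mem_subgroupOf] using h1
  · intro c hc c' hc'
    have h1 := TypeM.mul_pow_index (Z.subgroupOf C₀) hZc (⟨c, hc⟩ : C₀) ⟨c', hc'⟩
    simpa using congrArg Subtype.val h1

/-- odd powers in an elementary abelian 2-group -/
theorem pow_odd {z : G} (hz : z * z = 1) {m : ℕ} (hm : Odd m) : z ^ m = z := by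
  obtain ⟨r, rfl⟩ := hm
  rw [pow_succ, pow_mul, pow_two, hz, one_pow, one_mul]

/-- **The averaging lemma**: an element `x` commuting with `P₀` (of odd index in `N`), normalised by `N` modulo
`C₀ = Z × O(C₀)`, can be corrected by an element of `Z` such that it is normalised modulo `O(C₀)`. -/
theorem exists_fix [Finite G] {C₀ Z : Subgroup G} {m : ℕ} (S : Split C₀ Z m) {N P₀ : Subgroup G} (hP : P₀ ≤ N)
    (hodd : Odd (P₀.relIndex N)) (hNC : ∀ n ∈ N, ∀ c ∈ C₀, n * c * n⁻¹ ∈ C₀)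
    (hNZ : ∀ n ∈ N, ∀ z ∈ Z, n * z * n⁻¹ ∈ Z) {x : G} (hx : ∀ n ∈ N, x⁻¹ * (n * x * n⁻¹) ∈ C₀)
    (hxP : ∀ b ∈ P₀, b * x = x * b) :
    ∃ f ∈ Z, (∀ b ∈ P₀, b * f = f * b) ∧ ∀ n ∈ N, ((x * f)⁻¹ * (n * (x * f) * n⁻¹)) ^ m = 1 := by
  classical
  let _ : CommGroup Z := { (inferInstance : Group Z) with
    mul_comm := fun a b => Subtype.ext (S.cen a a.2 b (S.le b.2)) }
  let δ : N → Z := fun n => ⟨(x⁻¹ * ((n : G) * x * (n : G)⁻¹)) ^ m, S.pow _ (hx n n.2)⟩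
  let cj : N → (Z →* Z) := fun n => MonoidHom.mk' (fun z => ⟨(n : G) * z * (n : G)⁻¹, hNZ n n.2 z z.2⟩) (by
    intro a b
    apply Subtype.ext
    show (n : G) * (a * b) * (n : G)⁻¹ = (n : G) * a * (n : G)⁻¹ * ((n : G) * b * (n : G)⁻¹)
    group)
  have hδmul : ∀ n' n : N, δ (n' * n) = δ n' * cj n' (δ n) := by
    intro n' n
    apply Subtype.ext
    show (x⁻¹ * (((n' : G) * n) * x * ((n' : G) * n)⁻¹)) ^ m =
      (x⁻¹ * ((n' : G) * x * (n' : G)⁻¹)) ^ m * ((n' : G) * (x⁻¹ * ((n : G) * x * (n : G)⁻¹)) ^ m * (n' : G)⁻¹)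
    have e1 : x⁻¹ * (((n' : G) * n) * x * ((n' : G) * n)⁻¹) =
        (x⁻¹ * ((n' : G) * x * (n' : G)⁻¹)) * ((n' : G) * (x⁻¹ * ((n : G) * x * (n : G)⁻¹)) * (n' : G)⁻¹) := by
      group
    rw [e1, S.mul _ (hx n' n'.2) _ (hNC n' n'.2 _ (hx n n.2)), conj_pow]
  have hδinv : ∀ (n : N) (b : P₀.subgroupOf N), δ (n * b) = δ n := by
    intro n b
    apply Subtype.ext
    show (x⁻¹ * (((n : G) * (b : N)) * x * ((n : G) * (b : N))⁻¹)) ^ m = (x⁻¹ * ((n : G) * x * (n : G)⁻¹)) ^ m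
    have hb := hxP ((b : N) : G) (mem_subgroupOf.1 b.2)
    have e1 : ((n : G) * (b : N)) * x * ((n : G) * (b : N))⁻¹ = (n : G) * x * (n : G)⁻¹ := by
      calc ((n : G) * (b : N)) * x * ((n : G) * (b : N))⁻¹ = (n : G) * (((b : N) : G) * x) * ((b : N) : G)⁻¹ * (n : G)⁻¹ := by
            group
        _ = (n : G) * x * (n : G)⁻¹ := by rw [hb]; group
    rw [e1]
  let δb : N ⧸ (P₀.subgroupOf N) → Z := Quotient.lift δ (by
    intro a b hab
    have h1 : a⁻¹ * b ∈ P₀.subgroupOf N := QuotientGroup.leftRel_apply.1 hab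
    have h2 := hδinv a ⟨a⁻¹ * b, h1⟩
    rw [← h2]
    congr 1
    group)
  have hδb : ∀ n : N, δb (QuotientGroup.mk n) = δ n := fun n => rfl
  have : Fintype (N ⧸ (P₀.subgroupOf N)) := Fintype.ofFinite _
  let f : Z := ∏ q : N ⧸ (P₀.subgroupOf N), δb q
  have hδsq : ∀ n : N, δ n * δ n = 1 := fun n => Subtype.ext (S.sq _ (δ n).2)
  have key : ∀ n' : N, f = δ n' * cj n' f := by
    intro n'
    have h1 : f = ∏ q : N ⧸ (P₀.subgroupOf N), δb (n' • q) :=
      (Fintype.prod_equiv (MulAction.toPerm n') (fun q => δb (n' • q)) δb (fun q => rfl)).symm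
    have h2 : ∀ q : N ⧸ (P₀.subgroupOf N), δb (n' • q) = δ n' * cj n' (δb q) := by
      intro q
      induction q using QuotientGroup.induction_on with
      | _ n => exact hδmul n' n
    rw [Finset.prod_congr rfl (fun q _ => h2 q), Finset.prod_mul_distrib, Finset.prod_const, ← map_prod] at h1
    have h3 : (Finset.univ : Finset (N ⧸ (P₀.subgroupOf N))).card = P₀.relIndex N := by
      rw [Finset.card_univ, ← Nat.card_eq_fintype_card]; rfl
    rw [h3] at h1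
    have h4 : δ n' ^ P₀.relIndex N = δ n' := by
      obtain ⟨r, hr⟩ := hodd
      rw [hr, pow_succ, pow_mul, pow_two, hδsq, one_pow, one_mul]
    rw [h4] at h1
    exact h1
  refine ⟨f, f.2, ?_, ?_⟩
  · intro b hb
    have h1 := key ⟨b, hP hb⟩
    have h2 : δ ⟨b, hP hb⟩ = 1 := by
      apply Subtype.ext
      show (x⁻¹ * (b * x * b⁻¹)) ^ m = 1
      have : x⁻¹ * (b * x * b⁻¹) = 1 := by rw [hxP b hb]; group
      rw [this, one_pow]
    rw [h2, one_mul] at h1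
    have h3 : (f : G) = b * f * b⁻¹ := congrArg Subtype.val h1
    exact (eq_mul_inv_iff_mul_eq.1 h3).symm
  · intro n hn
    have h1 := key ⟨n, hn⟩
    have h1' : (f : G) = (x⁻¹ * (n * x * n⁻¹)) ^ m * (n * f * n⁻¹) := congrArg Subtype.val h1
    have hnf := hNZ n hn f f.2
    have e1 : (x * f)⁻¹ * (n * (x * f) * n⁻¹) = (f : G)⁻¹ * ((x⁻¹ * (n * x * n⁻¹)) * (n * f * n⁻¹)) := by group
    rw [e1, S.mul _ (S.le (Z.inv_mem f.2)) _ (C₀.mul_mem (hx n hn) (S.le hnf)), S.mul _ (hx n hn) _ (S.le hnf),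
      pow_odd (S.sq _ (Z.inv_mem f.2)) S.odd, pow_odd (S.sq _ hnf) S.odd, ← h1', inv_mul_cancel]

/-- The square of a corrected `x` is centralised by `N`. -/
theorem fix_sq {C₀ Z : Subgroup G} {m : ℕ} (S : Split C₀ Z m) {x n : G} (hc : x⁻¹ * (n * x * n⁻¹) ∈ C₀)
    (hm : (x⁻¹ * (n * x * n⁻¹)) ^ m = 1) (hxC : ∀ c ∈ C₀, x⁻¹ * c * x ∈ C₀) (hxx : x * x ∈ Z)
    (hn : n * (x * x) * n⁻¹ ∈ Z) : n * (x * x) * n⁻¹ = x * x := by
  set c := x⁻¹ * (n * x * n⁻¹) with hcdef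
  have e1 : n * (x * x) * n⁻¹ = (x * x) * ((x⁻¹ * c * x) * c) := by
    rw [hcdef]; group
  have h1 : (n * (x * x) * n⁻¹) ^ m = ((x * x) * ((x⁻¹ * c * x) * c)) ^ m := by rw [e1]
  rw [S.mul _ (S.le hxx) _ (C₀.mul_mem (hxC c hc) hc), S.mul _ (hxC c hc) _ hc, hm, mul_one,
    pow_odd (S.sq _ hn) S.odd, pow_odd (S.sq _ hxx) S.odd] at h1
  have h2 : (x⁻¹ * c * x) ^ m = 1 := by
    have h3 : (x⁻¹ * c * x⁻¹⁻¹) ^ m = x⁻¹ * c ^ m * x⁻¹⁻¹ := conj_pow
    rw [inv_inv] at h3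
    rw [h3, hm]; group
  rw [h2, mul_one] at h1
  exact h1

/-- Half of an element of odd order. -/
theorem exists_half {c : G} {m : ℕ} (hm : Odd m) (hc : c ^ m = 1) : ∃ k : ℕ, c ^ k * c ^ k = c := by
  obtain ⟨r, rfl⟩ := hm
  refine ⟨r + 1, ?_⟩
  have e : r + 1 + (r + 1) = (2 * r + 1) + 1 := by omega
  rw [← pow_add, e, pow_succ, hc, one_mul]

/-- If `n y n⁻¹ = y c` with `c` of odd order and `y` an involution, `n` can be corrected by a power of `c` such that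
it commutes with `y`. -/
theorem exists_comm {y n c : G} {m : ℕ} (hm : Odd m) (hc : c ^ m = 1) (hy : y * y = 1)
    (hn : n * y * n⁻¹ = y * c) : ∃ k : ℕ, (c ^ k * n) * y = y * (c ^ k * n) := by
  obtain ⟨k, hk⟩ := exists_half hm hc
  have hyi : y⁻¹ = y := inv_eq_of_mul_eq_one_left hy
  have h1 : y * c * (y * c) = 1 := by
    rw [← hn]
    calc n * y * n⁻¹ * (n * y * n⁻¹) = n * (y * y) * n⁻¹ := by group
      _ = 1 := by rw [hy]; group
  have h2 : y * c * y⁻¹ = c⁻¹ := by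
    rw [hyi]
    exact eq_inv_of_mul_eq_one_left (by rw [mul_assoc]; exact h1)
  have h3 : y * c ^ k * y⁻¹ = (c ^ k)⁻¹ := by rw [← conj_pow, h2, inv_pow]
  refine ⟨k, ?_⟩
  have h4 : n * y = y * c * n := by rw [← hn]; group
  have h5 : y * c ^ k = (c ^ k)⁻¹ * y := by rw [← h3]; group
  calc c ^ k * n * y = c ^ k * (n * y) := by group
    _ = c ^ k * y * c * n := by rw [h4]; group
    _ = c ^ k * y * (c ^ k * c ^ k) * n := by rw [hk]
    _ = c ^ k * (y * c ^ k) * c ^ k * n := by group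
    _ = y * (c ^ k * n) := by rw [h5]; group

/-- Two involutions whose product has odd order are conjugate under a power of the product. -/
theorem exists_conj_pow {a b : G} {m : ℕ} (hm : Odd m) (hab : (a * b) ^ m = 1) (ha : a * a = 1) (hb : b * b = 1) :
    ∃ k : ℕ, ((a * b) ^ k)⁻¹ * a * (a * b) ^ k = b := by
  obtain ⟨k, hk⟩ := exists_half hm hab
  have hai : a⁻¹ = a := inv_eq_of_mul_eq_one_left ha
  have hbi : b⁻¹ = b := inv_eq_of_mul_eq_one_left hb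
  have h2 : a * (a * b) * a⁻¹ = (a * b)⁻¹ := by
    rw [mul_inv_rev, hai, hbi]
    calc a * (a * b) * a = (a * a) * b * a := by group
      _ = b * a := by rw [ha, one_mul]
  have h3 : a * (a * b) ^ k * a⁻¹ = ((a * b) ^ k)⁻¹ := by rw [← conj_pow, h2, inv_pow]
  refine ⟨k, ?_⟩
  calc ((a * b) ^ k)⁻¹ * a * (a * b) ^ k = (a * (a * b) ^ k * a⁻¹) * a * (a * b) ^ k := by rw [h3]
    _ = a * ((a * b) ^ k * (a * b) ^ k) := by group
    _ = a * (a * b) := by rw [hk]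
    _ = b := by rw [← mul_assoc, ha, one_mul]

/-- If `P₀` contains all 2-elements of `N` normalising it, its index in `N` is odd. -/
theorem odd_relIndex [Finite G] {N P₀ : Subgroup G} (hP : P₀ ≤ N) (hp : IsPGroup 2 P₀)
    (hN : ∀ g ∈ N, (∃ k : ℕ, g ^ 2 ^ k = 1) → (∀ y ∈ P₀, g * y * g⁻¹ ∈ P₀) → g ∈ P₀) : Odd (P₀.relIndex N) := by
  have hp' : IsPGroup 2 (P₀.subgroupOf N) := hp.of_equiv (subgroupOfEquivOfLe hP).symm
  obtain ⟨T, hT⟩ := hp'.exists_le_sylow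
  have hTP : (T : Subgroup N) = P₀.subgroupOf N := by
    refine le_antisymm ?_ hT
    have hTmap : IsPGroup 2 ((T : Subgroup N).map N.subtype) := T.2.map _
    obtain ⟨g, hg, h⟩ := exists_conj_le (p := 2) hP hp hN (Q := (T : Subgroup N).map N.subtype)
      (map_subtype_le _) hTmap
    have hcard : Nat.card T ≤ Nat.card (P₀.subgroupOf N) := by
      have h1 : ((T : Subgroup N).map N.subtype).map (MulAut.conj g).toMonoidHom ≤ P₀ := by
        rintro _ ⟨q, hq, rfl⟩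
        exact h q hq
      have h2 := Subgroup.card_le_of_le h1
      rw [Subgroup.card_map_of_injective (MulAut.conj g).injective,
        Subgroup.card_map_of_injective N.subtype_injective] at h2
      rw [Nat.card_congr (subgroupOfEquivOfLe hP).toEquiv]
      exact h2
    exact (Subgroup.eq_of_le_of_card_ge hT hcard).ge
  rw [← Nat.not_even_iff_odd, even_iff_two_dvd]
  have := T.not_dvd_index
  rw [hTP] at this
  exact this

end Cfsg.Agent.Wreath.DThreeCoc
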