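import Mathlib
import Cfsg.Agent.Wreath.DThreeCoc
import Cfsg.Agent.Wreath.AData
import Cfsg.Agent.TypeM.WThreeAbs

/-!
# (D3) of the end of Theorem W (S1739): one side

`A`, `B` commute; `N i = N_{C(A)}(F i)`, where `F₁`, `F₂` are the two elementary abelian subgroups of order 16 of `B`.
-/

set_option autoImplicit false

namespace Cfsg.Agent.Wreath.DThreeSide

open Subgroup Cfsg.Agent.SporRec.NineTwo.Abs Cfsg.Agent.Wreath.DThreeCoc
open Cfsg.Agent.TypeM.WThreeAbs (mem_norm card_double isPGroup_zpowers)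

variable {G : Type*} [Group G]

/-- `N_{C(A)}(F)` -/
def NN (A F : Subgroup G) : Subgroup G := centralizer (A : Set G) ⊓ normalizer (F : Set G)

theorem NN_comm {A F : Subgroup G} {n : G} (hn : n ∈ NN A F) {a : G} (ha : a ∈ A) : a * n = n * a :=
  mem_centralizer_iff.1 hn.1 a ha

theorem NN_conj {A F : Subgroup G} {n : G} (hn : n ∈ NN A F) {x : G} (hx : x ∈ F) : n * x * n⁻¹ ∈ F :=
  (mem_normalizer_iff.1 hn.2 x).1 hx

theorem mem_NN [Finite G] {A F : Subgroup G} {n : G} (h1 : ∀ a ∈ A, a * n = n * a) (h2 : ∀ x ∈ F, n * x * n⁻¹ ∈ F) :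
    n ∈ NN A F := ⟨mem_centralizer_iff.2 h1, mem_norm h2⟩

/-- One elementary abelian group `F` of order 16 in `B`, with the action of `N = N_{C(A)}(F)`. -/
structure One (A B F : Subgroup G) (u : G) : Prop where
  AB : ∀ a ∈ A, ∀ b ∈ B, a * b = b * a
  uA : u ∈ A
  uc : ∀ a ∈ A, a * u = u * a
  uu : u * u = 1
  FB : F ≤ B
  card : Nat.card F = 16
  sq : ∀ x ∈ F, x * x = 1
  Bp : IsPGroup 2 B
  BF : ∀ b ∈ B, ∀ x ∈ F, b * x * b⁻¹ ∈ F
  small : ∀ b ∈ B, b ∉ F → Nat.card (F ⊓ centralizer {b} : Subgroup G) ≤ 4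
  /-- `B⟨u⟩` is a Sylow 2-subgroup of `N` -/
  syl : ∀ g ∈ NN A F, (∃ k : ℕ, g ^ 2 ^ k = 1) → (∀ y ∈ B ⊔ zpowers u, g * y * g⁻¹ ∈ B ⊔ zpowers u) →
    g ∈ B ⊔ zpowers u
  /-- `N` is 2-transitive on `F#` -/
  trans : ∀ a ∈ F, ∀ b ∈ F, ∀ a' ∈ F, ∀ b' ∈ F, a ≠ 1 → b ≠ 1 → a' ≠ 1 → b' ≠ 1 → a ≠ b → a' ≠ b' →
    ∃ n ∈ NN A F, n * a * n⁻¹ = a' ∧ n * b * n⁻¹ = b'

theorem exists_ne4 [Finite G] {F : Subgroup G} (h : 4 < Nat.card F) (a b c d : G) :
    ∃ r ∈ F, r ≠ a ∧ r ≠ b ∧ r ≠ c ∧ r ≠ d := by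
  by_contra hcon
  push Not at hcon
  have hsub : (F : Set G) ⊆ {a, b, c, d} := by
    intro x hx
    by_cases h1 : x = a
    · simp [h1]
    by_cases h2 : x = b
    · simp [h2]
    by_cases h3 : x = c
    · simp [h3]
    · simp [hcon x hx h1 h2 h3]
  have h1 : Set.ncard (F : Set G) ≤ Set.ncard ({a, b, c, d} : Set G) := Set.ncard_le_ncard hsub (Set.toFinite _)
  have h2 : Set.ncard ({a, b, c, d} : Set G) ≤ 4 := by
    have e1 := Set.ncard_insert_le a {b, c, d}
    have e2 := Set.ncard_insert_le b {c, d}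
    have e3 := Set.ncard_insert_le c {d}
    have e4 := Set.ncard_singleton d
    omega
  have h3 : Set.ncard (F : Set G) = Nat.card F := (Nat.card_coe_set_eq _).symm
  omega

namespace One

variable {A B F : Subgroup G} {u : G} (H : One A B F u)

include H

theorem comm {x y : G} (hx : x ∈ F) (hy : y ∈ F) : x * y = y * x := by
  have h1 := H.sq _ (F.mul_mem hx hy)
  have h2 := H.sq x hx
  have h3 := H.sq y hy
  calc x * y = (x * x) * (x * y) * (y * y) := by rw [h2, h3, one_mul, mul_one]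
    _ = x * (x * (x * y) * y) * y := by group
    _ = x * ((x * x) * (y * y)) * y := by simp only [mul_assoc]
    _ = x * (x * y * (x * y)) * y := by rw [h1, h2, h3, one_mul]
    _ = (x * x) * (y * x) * (y * y) := by simp only [mul_assoc]
    _ = y * x := by rw [h2, h3, one_mul, mul_one]

theorem uB {b : G} (hb : b ∈ B) : u * b = b * u := H.AB u H.uA b hb

/-- elements of `B⟨u⟩` -/
theorem mem_P {y : G} : y ∈ B ⊔ zpowers u ↔ y ∈ B ∨ y * u ∈ B := by
  constructor
  · intro hy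
    let K : Subgroup G :=
      { carrier := {y | y ∈ B ∨ y * u ∈ B}
        one_mem' := Or.inl B.one_mem
        mul_mem' := by
          rintro x y (hx | hx) (hy | hy)
          · exact Or.inl (B.mul_mem hx hy)
          · exact Or.inr (by rw [mul_assoc]; exact B.mul_mem hx hy)
          · right
            have h1 := B.mul_mem hx hy
            rwa [mul_assoc, H.uB hy, ← mul_assoc] at h1
          · left
            have h1 := B.mul_mem hx hy
            have h2 := H.uB hy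
            have e : x * u * (y * u) = x * (u * (y * u)) := by group
            rw [e, h2, mul_assoc y, H.uu, mul_one] at h1
            exact h1
        inv_mem' := by
          rintro x (hx | hx)
          · exact Or.inl (B.inv_mem hx)
          · right
            have h1 := H.uB (B.inv_mem hx)
            have h2 : x⁻¹ * u = (x * u)⁻¹ := by
              have h3 : x⁻¹ = u * (x * u)⁻¹ := by group
              rw [h3, h1, mul_assoc, H.uu, mul_one]
            rw [h2]
            exact B.inv_mem hx }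
    have hle : B ⊔ zpowers u ≤ K := by
      refine sup_le (fun x hx => Or.inl hx) ?_
      rw [zpowers_le]
      exact Or.inr (by rw [H.uu]; exact B.one_mem)
    exact hle hy
  · rintro (hy | hy)
    · exact le_sup_left (a := B) hy
    · have e : y = y * u * u := by rw [mul_assoc, H.uu, mul_one]
      rw [e]
      exact Subgroup.mul_mem _ (le_sup_left (a := B) hy) (le_sup_right (a := B) (mem_zpowers u))

theorem u_comm_B {y : G} (hy : y ∈ B ⊔ zpowers u) : u * y = y * u := by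
  rcases H.mem_P.1 hy with h | h
  · exact H.uB h
  · have h1 := H.uB h
    have e : y = y * u * u := by rw [mul_assoc, H.uu, mul_one]
    calc u * y = u * (y * u) * u := by rw [mul_assoc, ← e]
      _ = y * u * u * u := by rw [h1]
      _ = y * u := by rw [mul_assoc (y * u), H.uu, mul_one]

theorem P_p : IsPGroup 2 (B ⊔ zpowers u : Subgroup G) := by
  refine H.Bp.to_sup_of_normal_left' (isPGroup_zpowers ⟨1, by rw [pow_one, pow_two, H.uu]⟩) ?_
  rw [zpowers_le, mem_normalizer_iff]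
  intro x
  constructor
  · intro hx
    rw [H.uB hx, mul_inv_cancel_right]; exact hx
  · intro hx
    have h1 := H.uB hx
    have h5 : u * (u * x * u⁻¹) * u⁻¹ = x := by
      have h3 : u⁻¹ = u := inv_eq_of_mul_eq_one_left H.uu
      calc u * (u * x * u⁻¹) * u⁻¹ = (u * u) * x * (u⁻¹ * u⁻¹) := by group
        _ = x := by rw [h3, H.uu, one_mul, mul_one]
    rw [← h5, h1, mul_inv_cancel_right]
    exact hx

variable [Finite G]

theorem P_le : B ⊔ zpowers u ≤ NN A F := by
  refine sup_le ?_ ?_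
  · intro b hb
    exact mem_NN (fun a ha => H.AB a ha b hb) (fun x hx => H.BF b hb x hx)
  · rw [zpowers_le]
    refine mem_NN H.uc (fun x hx => ?_)
    rw [H.uB (H.FB hx), mul_inv_cancel_right]
    exact hx

/-- every 2-element of `N` is conjugate into `B⟨u⟩` -/
theorem exists_conj {g : G} (hg : g ∈ NN A F) (h2 : ∃ k : ℕ, g ^ 2 ^ k = 1) :
    ∃ n ∈ NN A F, n * g * n⁻¹ ∈ B ⊔ zpowers u := by
  obtain ⟨n, hn, h⟩ := exists_conj_le (p := 2) H.P_le H.P_p H.syl (Q := zpowers g)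
    (by rw [zpowers_le]; exact hg) (isPGroup_zpowers h2)
  exact ⟨n, hn, h g (mem_zpowers g)⟩

omit [Finite G] in
/-- a product of an element of `B⟨u⟩` acts on `F` as an element of `B` -/
theorem exists_act {y : G} (hy : y ∈ B ⊔ zpowers u) :
    ∃ b ∈ B, (y = b ∨ y = b * u) ∧ ∀ x ∈ F, y * x * y⁻¹ = b * x * b⁻¹ := by
  rcases H.mem_P.1 hy with h | h
  · exact ⟨y, h, Or.inl rfl, fun x _ => rfl⟩
  · refine ⟨y * u, h, Or.inr (by rw [mul_assoc, H.uu, mul_one]), fun x hx => ?_⟩
    have h1 := H.uB (H.FB hx)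
    calc y * x * y⁻¹ = y * (x * u) * u⁻¹ * y⁻¹ := by group
      _ = y * u * x * (y * u)⁻¹ := by rw [← h1]; group

omit [Finite G] in
/-- an element of `B` with `|F : C_F(b)| ≤ 2` is in `F` -/
theorem mem_of_transv {b : G} (hb : b ∈ B) {c : G} (h : ∀ x ∈ F, b * x * b⁻¹ = x ∨ b * x * b⁻¹ = x * c) : b ∈ F := by
  by_contra hbF
  have hs := H.small b hb hbF
  by_cases hall : ∀ x ∈ F, b * x * b⁻¹ = x
  · have h1 : F ⊓ centralizer {b} = F := by
      rw [inf_eq_left]
      intro x hx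
      exact mem_centralizer_singleton_iff.2 (mul_inv_eq_iff_eq_mul.1 (hall x hx)).symm
    rw [h1, H.card] at hs
    norm_num at hs
  · push Not at hall
    obtain ⟨k, hk, hk1⟩ := hall
    have hkc : b * k * b⁻¹ = k * c := (h k hk).resolve_left hk1
    have hd : Nat.card F = 2 * Nat.card (F ⊓ centralizer {b} : Subgroup G) := by
      refine card_double (s := k) inf_le_left hk (fun h' => hk1 ?_) ?_
      · have := mem_centralizer_singleton_iff.1 h'.2
        rw [← this, mul_inv_cancel_right]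
      · intro x hx
        rcases h x hx with h1 | h1
        · left
          exact ⟨hx, mem_centralizer_singleton_iff.2 (mul_inv_eq_iff_eq_mul.1 h1).symm⟩
        · right
          refine ⟨F.mul_mem hx hk, mem_centralizer_singleton_iff.2 ?_⟩
          have h2 : b * (x * k) * b⁻¹ = x * k := by
            have hcF : c ∈ F := by
              have h3 := H.BF b hb k hk
              rw [hkc] at h3
              exact (F.mul_mem_cancel_left hk).1 h3
            calc b * (x * k) * b⁻¹ = (b * x * b⁻¹) * (b * k * b⁻¹) := by group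
              _ = x * (c * k) * c := by rw [h1, hkc]; group
              _ = x * k * (c * c) := by rw [H.comm hcF hk]; group
              _ = x * k := by rw [H.sq c hcF, mul_one]
          exact (mul_inv_eq_iff_eq_mul.1 h2).symm
    rw [H.card] at hd
    omega

/-- 2-elements of `C(A) ∩ C(F)` lie in `F⟨u⟩`. -/
theorem two_mem {c : G} (hcA : c ∈ centralizer (A : Set G)) (hcF : ∀ x ∈ F, c * x = x * c)
    (h2 : ∃ k : ℕ, c ^ 2 ^ k = 1) : c ∈ F ⊔ zpowers u := by
  have hcN : c ∈ NN A F := mem_NN (fun a ha => mem_centralizer_iff.1 hcA a ha) (fun x hx => by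
    rw [hcF x hx, mul_inv_cancel_right]; exact hx)
  obtain ⟨n, hn, h⟩ := H.exists_conj hcN h2
  obtain ⟨b, hb, hbu, hact⟩ := H.exists_act h
  have hncF : ∀ x ∈ F, n * c * n⁻¹ * x * (n * c * n⁻¹)⁻¹ = x := by
    intro x hx
    have h1 : n⁻¹ * x * n⁻¹⁻¹ ∈ F := NN_conj ((NN A F).inv_mem hn) hx
    have h2 := hcF _ h1
    calc n * c * n⁻¹ * x * (n * c * n⁻¹)⁻¹ = n * (c * (n⁻¹ * x * n⁻¹⁻¹)) * c⁻¹ * n⁻¹ := by group
      _ = x := by rw [h2]; group
  have hbF : b ∈ F := H.mem_of_transv hb (c := 1) (fun x hx => Or.inl (by rw [← hact x hx, hncF x hx]))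
  have hnu : n * u * n⁻¹ = u := by
    have := NN_comm hn H.uA
    rw [← this, mul_inv_cancel_right]
  have hnmem : ∀ y ∈ F ⊔ zpowers u, n⁻¹ * y * n ∈ F ⊔ zpowers u := by
    have hle : (F ⊔ zpowers u).map (MulAut.conj n⁻¹).toMonoidHom ≤ F ⊔ zpowers u := by
      rw [Subgroup.map_sup, sup_le_iff]
      constructor
      · rintro _ ⟨x, hx, rfl⟩
        exact le_sup_left (a := F) (NN_conj ((NN A F).inv_mem hn) hx)
      · rw [MonoidHom.map_zpowers, zpowers_le]
        have e : (MulAut.conj n⁻¹).toMonoidHom u = u := by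
          show n⁻¹ * u * n⁻¹⁻¹ = u
          calc n⁻¹ * u * n⁻¹⁻¹ = n⁻¹ * (n * u * n⁻¹) * n := by rw [hnu, inv_inv]
            _ = u := by group
        rw [e]
        exact le_sup_right (a := F) (mem_zpowers u)
    intro y hy
    have := hle ⟨y, hy, rfl⟩
    have e : (MulAut.conj n⁻¹).toMonoidHom y = n⁻¹ * y * n := by
      show n⁻¹ * y * n⁻¹⁻¹ = _
      rw [inv_inv]
    rwa [e] at this
  have hmem : n * c * n⁻¹ ∈ F ⊔ zpowers u := by
    rcases hbu with h1 | h1
    · rw [h1]; exact le_sup_left (a := F) hbF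
    · rw [h1]
      exact Subgroup.mul_mem _ (le_sup_left (a := F) hbF) (le_sup_right (a := F) (mem_zpowers u))
  have := hnmem _ hmem
  have e : n⁻¹ * (n * c * n⁻¹) * n = c := by group
  rwa [e] at this

/-- **(3.2), no transvection**: an element normalising `A` and `F` does not act on `F` as a transvection. -/
theorem no_transv {y : G} (hyA : ∀ a ∈ A, y⁻¹ * a * y ∈ A) (hyF : ∀ x ∈ F, y * x * y⁻¹ ∈ F) {c : G} (hc : c ∈ F)
    (h : ∀ x ∈ F, y * x * y⁻¹ = x ∨ y * x * y⁻¹ = x * c) : ∀ x ∈ F, y * x * y⁻¹ = x := by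
  by_contra hcon
  push Not at hcon
  obtain ⟨k, hk, hk1⟩ := hcon
  have hkc : y * k * y⁻¹ = k * c := (h k hk).resolve_left hk1
  have hc1 : c ≠ 1 := by
    rintro rfl
    exact hk1 (by rw [hkc, mul_one])
  have hyc : y * c * y⁻¹ = c := by
    rcases h c hc with h1 | h1
    · exact h1
    · exfalso
      rw [H.sq c hc] at h1
      exact hc1 (conj_eq_one_iff.1 h1)
  -- an element `r` outside `{1, c, k, kc}`
  obtain ⟨r, hr, hr1, hrc, hrk, hrkc⟩ : ∃ r ∈ F, r ≠ 1 ∧ r ≠ c ∧ r ≠ k ∧ r ≠ k * c := by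
    exact exists_ne4 (by rw [H.card]; norm_num) _ _ _ _
  obtain ⟨g0, hg0, hg01, hg0c, hgfix⟩ : ∃ h' ∈ F, h' ≠ 1 ∧ h' ≠ c ∧ y * h' * y⁻¹ = h' := by
    rcases h r hr with h1 | h1
    · exact ⟨r, hr, hr1, hrc, h1⟩
    · refine ⟨k * r, F.mul_mem hk hr, ?_, ?_, ?_⟩
      · intro h2
        apply hrk
        calc r = k * (k * r) := by rw [← mul_assoc, H.sq k hk, one_mul]
          _ = k := by rw [h2, mul_one]
      · intro h2
        apply hrkc
        calc r = k * (k * r) := by rw [← mul_assoc, H.sq k hk, one_mul]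
          _ = k * c := by rw [h2]
      · calc y * (k * r) * y⁻¹ = (y * k * y⁻¹) * (y * r * y⁻¹) := by group
          _ = k * (c * r) * c := by rw [hkc, h1]; group
          _ = k * r * (c * c) := by rw [H.comm hc hr]; group
          _ = k * r := by rw [H.sq c hc, mul_one]
  have hk1' : k ≠ 1 := by
    rintro rfl
    exact hk1 (by group)
  have hck : c ≠ k := fun h' => hk1 (h' ▸ hyc)
  obtain ⟨n, hn, hnc, hnh⟩ := H.trans c hc g0 hg0 c hc k hk hc1 hg01 hc1 hk1' (Ne.symm hg0c) hck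
  -- `g = n⁻¹ y n y⁻¹ ∈ N`
  have hyA' : y⁻¹ ∈ normalizer (A : Set G) := mem_norm (fun a ha => by
    rw [inv_inv]; exact hyA a ha)
  have hyA2 : y ∈ normalizer (A : Set G) := by
    have := (normalizer (A : Set G)).inv_mem hyA'
    rwa [inv_inv] at this
  have hyF2 : y ∈ normalizer (F : Set G) := mem_norm hyF
  have hcent : ∀ z ∈ centralizer (A : Set G), y * z * y⁻¹ ∈ centralizer (A : Set G) := by
    intro z hz
    rw [mem_centralizer_iff] at hz ⊢
    intro a ha
    have h1 := hz _ (hyA a ha)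
    calc a * (y * z * y⁻¹) = y * ((y⁻¹ * a * y) * z) * y⁻¹ := by group
      _ = y * z * y⁻¹ * a := by rw [h1]; group
  set g := n⁻¹ * (y * n * y⁻¹) with hgdef
  have hgN : g ∈ NN A F := by
    refine ⟨Subgroup.mul_mem _ (Subgroup.inv_mem _ hn.1) (hcent n hn.1), ?_⟩
    exact Subgroup.mul_mem _ (Subgroup.inv_mem _ hn.2)
      (Subgroup.mul_mem _ (Subgroup.mul_mem _ hyF2 hn.2) (Subgroup.inv_mem _ hyF2))
  have hyinv : ∀ x ∈ F, y⁻¹ * x * y = x ∨ y⁻¹ * x * y = x * c := by
    intro x hx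
    have h1 : y⁻¹ * x * y ∈ F := by
      have := (mem_normalizer_iff.1 ((normalizer (F : Set G)).inv_mem hyF2) x).1 hx
      rwa [inv_inv] at this
    rcases h _ h1 with h2 | h2
    · left
      have e : y * (y⁻¹ * x * y) * y⁻¹ = x := by group
      rw [e] at h2
      exact h2.symm
    · right
      have e : y * (y⁻¹ * x * y) * y⁻¹ = x := by group
      rw [e] at h2
      calc y⁻¹ * x * y = (y⁻¹ * x * y) * (c * c) := by rw [H.sq c hc, mul_one]
        _ = (y⁻¹ * x * y * c) * c := by group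
        _ = x * c := by rw [← h2]
  have hninv : n⁻¹ * c * n = c := by
    calc n⁻¹ * c * n = n⁻¹ * (n * c * n⁻¹) * n := by rw [hnc]
      _ = c := by group
  have hg : ∀ x ∈ F, g * x * g⁻¹ = x ∨ g * x * g⁻¹ = x * c := by
    intro x hx
    -- `g x g⁻¹ = n⁻¹ (y (n (y⁻¹ x y) n⁻¹) y⁻¹) n`
    have e : g * x * g⁻¹ = n⁻¹ * (y * (n * (y⁻¹ * x * y) * n⁻¹) * y⁻¹) * n := by rw [hgdef]; group
    have hstep : ∀ z ∈ F, n⁻¹ * (y * (n * z * n⁻¹) * y⁻¹) * n = z ∨ n⁻¹ * (y * (n * z * n⁻¹) * y⁻¹) * n = z * c := by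
      intro z hz
      rcases h _ (NN_conj hn hz) with h1 | h1
      · left; rw [h1]; group
      · right
        rw [h1]
        calc n⁻¹ * (n * z * n⁻¹ * c) * n = z * (n⁻¹ * c * n) := by group
          _ = z * c := by rw [hninv]
    rw [e]
    rcases hyinv x hx with h1 | h1
    · rw [h1]; exact hstep x hx
    · rw [h1]
      rcases hstep _ (F.mul_mem hx hc) with h2 | h2
      · right; exact h2
      · left
        rw [h2, mul_assoc, H.sq c hc, mul_one]
  have hgmove : g * g0 * g⁻¹ ≠ g0 := by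
    have e : g * g0 * g⁻¹ = n⁻¹ * (y * (n * (y⁻¹ * g0 * y) * n⁻¹) * y⁻¹) * n := by rw [hgdef]; group
    have h1 : y⁻¹ * g0 * y = g0 := by
      calc y⁻¹ * g0 * y = y⁻¹ * (y * g0 * y⁻¹) * y := by rw [hgfix]
        _ = g0 := by group
    rw [e, h1, hnh, hkc]
    intro h2
    have h3 : n⁻¹ * (k * c) * n = (n⁻¹ * k * n) * (n⁻¹ * c * n) := by group
    have h4 : n⁻¹ * k * n = g0 := by rw [← hnh]; group
    rw [h3, h4, hninv] at h2
    exact hc1 (mul_eq_left.1 h2)
  -- the 2-part of `g`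
  have hg2 : ∀ x ∈ F, (g * g) * x * (g * g)⁻¹ = x := by
    intro x hx
    have e : (g * g) * x * (g * g)⁻¹ = g * (g * x * g⁻¹) * g⁻¹ := by group
    have hgc : g * c * g⁻¹ = c := by
      rcases hg c hc with h1 | h1
      · exact h1
      · exfalso
        rw [H.sq c hc] at h1
        exact hc1 (conj_eq_one_iff.1 h1)
    rw [e]
    rcases hg x hx with h1 | h1
    · rw [h1, h1]
    · calc g * (g * x * g⁻¹) * g⁻¹ = g * (x * c) * g⁻¹ := by rw [h1]
        _ = (g * x * g⁻¹) * (g * c * g⁻¹) := by group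
        _ = x := by rw [h1, hgc, mul_assoc, H.sq c hc, mul_one]
  obtain ⟨e2, m, hm, hem⟩ := Nat.exists_eq_two_pow_mul_odd (n := orderOf g) (orderOf_pos g).ne'
  obtain ⟨q, rfl⟩ := hm
  have hact : ∀ x ∈ F, g ^ (2 * q + 1) * x * (g ^ (2 * q + 1))⁻¹ = g * x * g⁻¹ := by
    intro x hx
    have h1 : ∀ j : ℕ, (g * g) ^ j * x * ((g * g) ^ j)⁻¹ = x := by
      intro j
      induction j with
      | zero => simp
      | succ j ih =>
        calc (g * g) ^ (j + 1) * x * ((g * g) ^ (j + 1))⁻¹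
            = (g * g) ^ j * ((g * g) * x * (g * g)⁻¹) * ((g * g) ^ j)⁻¹ := by rw [pow_succ]; group
          _ = x := by rw [hg2 x hx, ih]
    have e : g ^ (2 * q + 1) = g * (g * g) ^ q := by rw [pow_succ', pow_mul, pow_two]
    calc g ^ (2 * q + 1) * x * (g ^ (2 * q + 1))⁻¹ = g * ((g * g) ^ q * x * ((g * g) ^ q)⁻¹) * g⁻¹ := by rw [e]; group
      _ = g * x * g⁻¹ := by rw [h1 q]
  obtain ⟨n2, hn2, hmem⟩ := H.exists_conj ((NN A F).pow_mem hgN (2 * q + 1))
    ⟨e2, by rw [← pow_mul, mul_comm, ← hem, pow_orderOf_eq_one]⟩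
  obtain ⟨b, hb, _, hbact⟩ := H.exists_act hmem
  have hb' : ∀ x ∈ F, b * x * b⁻¹ = n2 * (g * (n2⁻¹ * x * n2) * g⁻¹) * n2⁻¹ := by
    intro x hx
    have hx' : n2⁻¹ * x * n2 ∈ F := by
      have := NN_conj ((NN A F).inv_mem hn2) hx
      rwa [inv_inv] at this
    rw [← hbact x hx, ← hact _ hx']
    group
  have hbF : b ∈ F := by
    refine H.mem_of_transv hb (c := n2 * c * n2⁻¹) (fun x hx => ?_)
    have hx' : n2⁻¹ * x * n2 ∈ F := by
      have := NN_conj ((NN A F).inv_mem hn2) hx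
      rwa [inv_inv] at this
    rw [hb' x hx]
    rcases hg _ hx' with h1 | h1
    · left; rw [h1]; group
    · right; rw [h1]; group
  -- `b` acts trivially
  have h1 := hb' (n2 * g0 * n2⁻¹) (NN_conj hn2 hg0)
  rw [H.comm hbF (NN_conj hn2 hg0), mul_inv_cancel_right] at h1
  apply hgmove
  have h2 : n2⁻¹ * (n2 * g0 * n2⁻¹) * n2 = g0 := by group
  rw [h2] at h1
  calc g * g0 * g⁻¹ = n2⁻¹ * (n2 * (g * g0 * g⁻¹) * n2⁻¹) * n2 := by group
    _ = n2⁻¹ * (n2 * g0 * n2⁻¹) * n2 := by rw [← h1]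
    _ = g0 := by group

end One

end Cfsg.Agent.Wreath.DThreeSide
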