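import Mathlib
import Cfsg.Agent.Wreath.DThreeSide

/-!
# (D3) of the end of Theorem W (S1739), step (3.2)

An element normalising `A`, `B`, `F₁`, `F₂` can be changed by elements of `B` such that it centralises `B`.
-/

set_option autoImplicit false

namespace Cfsg.Agent.Wreath.DThreeCent

open Subgroup Cfsg.Agent.Wreath.DThreeSide
open Cfsg.Agent.TypeM.WThreeAbs (mem_norm card_double)

variable {G : Type*} [Group G] [Finite G]

/-- Both elementary abelian groups of `B`. -/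
structure Two (A B F₁ F₂ : Subgroup G) (u v : G) : Prop where
  h₁ : One A B F₁ u
  h₂ : One A B F₂ u
  fB : AData.Facts B F₁ F₂ v
  /-- (W9) -/
  w9 : ∃ k, k ∈ NN A F₁ ∧ k ∈ NN A F₂ ∧ k * v * k⁻¹ ≠ v
  /-- (W5b) -/
  w5b : ∀ b ∈ B, b * b = 1 → ∃ n ∈ NN A F₁, n * b * n⁻¹ ∈ F₂

variable {A B F₁ F₂ : Subgroup G} {u v : G}

/-- elements of `F₁ ⊔ F₂` are products -/
theorem mem_sup_mul (H : Two A B F₁ F₂ u v) {p : G} (hp : p ∈ F₁ ⊔ F₂) : ∃ f ∈ F₁, ∃ f' ∈ F₂, p = f * f' := by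
  have hle : F₂ ≤ normalizer (F₁ : Set G) := fun x hx => mem_norm (fun y hy => H.h₁.BF x (H.h₂.FB hx) y hy)
  have h1 : p ∈ ((F₁ ⊔ F₂ : Subgroup G) : Set G) := hp
  rw [coe_mul_of_right_le_normalizer_left F₁ F₂ hle] at h1
  obtain ⟨f, hf, f', hf', h⟩ := h1
  exact ⟨f, hf, f', hf', h.symm⟩

omit [Finite G] in
theorem sup_le_B (H : Two A B F₁ F₂ u v) : F₁ ⊔ F₂ ≤ B := sup_le H.h₁.FB H.h₂.FB

omit [Finite G] in
/-- an element commuting with `F₁` and `F₂` commutes with `F₁ ⊔ F₂` -/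
theorem comm_sup {s : G} (h1 : ∀ x ∈ F₁, s * x = x * s) (h2 : ∀ x ∈ F₂, s * x = x * s) {p : G} (hp : p ∈ F₁ ⊔ F₂) :
    s * p = p * s := by
  have hle : F₁ ⊔ F₂ ≤ centralizer {s} := by
    refine sup_le ?_ ?_
    · intro x hx; exact mem_centralizer_singleton_iff.2 (h1 x hx).symm
    · intro x hx; exact mem_centralizer_singleton_iff.2 (h2 x hx).symm
  exact (mem_centralizer_singleton_iff.1 (hle hp)).symm

omit [Finite G] in
/-- `C_B(F) = F` -/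
theorem mem_of_comm {F : Subgroup G} (H : One A B F u) {b : G} (hb : b ∈ B) (h : ∀ x ∈ F, b * x = x * b) : b ∈ F :=
  H.mem_of_transv hb (c := 1) fun x hx => Or.inl (by rw [h x hx, mul_inv_cancel_right])

/-- the elements of a four-group -/
theorem four {V : Subgroup G} (hV : Nat.card V = 4) (sq : ∀ x ∈ V, x * x = 1) {x v y : G} (hx : x ∈ V) (hv : v ∈ V)
    (hy : y ∈ V) (hx1 : x ≠ 1) (hv1 : v ≠ 1) (hxv : x ≠ v) : y = 1 ∨ y = v ∨ y = x ∨ y = x * v := by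
  have hvi : v⁻¹ = v := inv_eq_of_mul_eq_one_left (sq v hv)
  have n1 : (1 : G) ∉ ({v, x, x * v} : Set G) := by
    simp only [Set.mem_insert_iff, Set.mem_singleton_iff, not_or]
    refine ⟨hv1.symm, hx1.symm, fun h => hxv ?_⟩
    rw [← hvi]; exact eq_inv_of_mul_eq_one_left h.symm
  have n2 : v ∉ ({x, x * v} : Set G) := by
    simp only [Set.mem_insert_iff, Set.mem_singleton_iff, not_or]
    refine ⟨hxv.symm, fun h => hx1 ?_⟩
    have h' : 1 * v = x * v := by rw [one_mul]; exact h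
    exact (mul_right_cancel h').symm
  have n3 : x ∉ ({x * v} : Set G) := by
    simp only [Set.mem_singleton_iff]
    intro h
    have h' : x * 1 = x * v := by rw [mul_one]; exact h
    exact hv1 (mul_left_cancel h').symm
  have hc : Set.ncard ({1, v, x, x * v} : Set G) = 4 := by
    rw [Set.ncard_insert_of_notMem n1, Set.ncard_insert_of_notMem n2, Set.ncard_insert_of_notMem n3,
      Set.ncard_singleton]
  have hsub : ({1, v, x, x * v} : Set G) ⊆ (V : Set G) := by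
    intro z hz
    simp only [Set.mem_insert_iff, Set.mem_singleton_iff] at hz
    rcases hz with rfl | rfl | rfl | rfl
    · exact V.one_mem
    · exact hv
    · exact hx
    · exact V.mul_mem hx hv
  have heq := Set.eq_of_subset_of_ncard_le hsub (by
    rw [hc, ← Nat.card_coe_set_eq]
    exact hV.le) (Set.toFinite _)
  have hy' : y ∈ ({1, v, x, x * v} : Set G) := by rw [heq]; exact hy
  simpa using hy'

/-- **(3.2)** -/
theorem exists_centralising (H : Two A B F₁ F₂ u v) {s : G} (hsA : ∀ a ∈ A, s⁻¹ * a * s ∈ A)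
    (hsB : ∀ b ∈ B, s * b * s⁻¹ ∈ B) (hs₁ : ∀ x ∈ F₁, s * x * s⁻¹ ∈ F₁) (hs₂ : ∀ x ∈ F₂, s * x * s⁻¹ ∈ F₂) :
    ∃ j₁ ∈ B, ∃ j₂ ∈ B, ∀ b ∈ B, (j₁ * s * j₂) * b = b * (j₁ * s * j₂) := by
  have fB := H.fB
  have hAB := H.h₁.AB
  have nor : ∀ j ∈ B, ∀ x ∈ F₁, j * x * j⁻¹ ∈ F₁ := H.h₁.BF
  have nor' : ∀ j ∈ B, ∀ x ∈ F₂, j * x * j⁻¹ ∈ F₂ := H.h₂.BF
  -- (i) on `F₁`
  obtain ⟨a₁, ha₁, h1⟩ : ∃ a ∈ B, ∀ x ∈ F₁, s * x * s⁻¹ = a * x * a⁻¹ := by
    rcases fB.fix₁ s hsB hs₁ with h | ⟨a, ha, c, hc, h, x, hx, hne⟩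
    · exact h
    · exfalso
      refine hne (H.h₁.no_transv (y := s * a) ?_ ?_ hc h x hx)
      · intro a' ha'
        have h1 := hAB _ (hsA a' ha') a ha
        have e : (s * a)⁻¹ * a' * (s * a) = a⁻¹ * ((s⁻¹ * a' * s) * a) := by group
        rw [e, h1, inv_mul_cancel_left]
        exact hsA a' ha'
      · intro x hx
        have e : s * a * x * (s * a)⁻¹ = s * (a * x * a⁻¹) * s⁻¹ := by group
        rw [e]; exact hs₁ _ (nor a ha x hx)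
  set s₁ := a₁⁻¹ * s with hs1
  have hc₁ : ∀ x ∈ F₁, s₁ * x * s₁⁻¹ = x := by
    intro x hx
    calc s₁ * x * s₁⁻¹ = a₁⁻¹ * (s * x * s⁻¹) * a₁ := by rw [hs1]; group
      _ = x := by rw [h1 x hx]; group
  have hs₁A : ∀ a ∈ A, s₁⁻¹ * a * s₁ ∈ A := by
    intro a ha
    have h2 := hAB a ha _ (B.inv_mem ha₁)
    have e : s₁⁻¹ * a * s₁ = s⁻¹ * (a₁ * (a * a₁⁻¹)) * s := by rw [hs1]; group
    rw [e, h2, mul_inv_cancel_left]
    exact hsA a ha
  have hs₁B : ∀ b ∈ B, s₁ * b * s₁⁻¹ ∈ B := by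
    intro b hb
    have e : s₁ * b * s₁⁻¹ = a₁⁻¹ * (s * b * s⁻¹) * a₁ := by rw [hs1]; group
    rw [e]
    exact B.mul_mem (B.mul_mem (B.inv_mem ha₁) (hsB b hb)) ha₁
  have hs₁₂ : ∀ x ∈ F₂, s₁ * x * s₁⁻¹ ∈ F₂ := by
    intro x hx
    have e : s₁ * x * s₁⁻¹ = a₁⁻¹ * (s * x * s⁻¹) * a₁⁻¹⁻¹ := by rw [hs1]; group
    rw [e]
    exact nor' _ (B.inv_mem ha₁) _ (hs₂ x hx)
  -- (ii) on `F₂`
  obtain ⟨a₂, ha₂, h2⟩ : ∃ a ∈ B, ∀ x ∈ F₂, s₁ * x * s₁⁻¹ = a * x * a⁻¹ := by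
    rcases fB.fix₂ s₁ hs₁B hs₁₂ with h | ⟨a, ha, c, hc, h, x, hx, hne⟩
    · exact h
    · exfalso
      refine hne (H.h₂.no_transv (y := s₁ * a) ?_ ?_ hc h x hx)
      · intro a' ha'
        have h1 := hAB _ (hs₁A a' ha') a ha
        have e : (s₁ * a)⁻¹ * a' * (s₁ * a) = a⁻¹ * ((s₁⁻¹ * a' * s₁) * a) := by group
        rw [e, h1, inv_mul_cancel_left]
        exact hs₁A a' ha'
      · intro x hx
        have e : s₁ * a * x * (s₁ * a)⁻¹ = s₁ * (a * x * a⁻¹) * s₁⁻¹ := by group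
        rw [e]; exact hs₁₂ _ (nor' a ha x hx)
  have ha₂P : a₂ ∈ F₁ ⊔ F₂ := by
    refine fB.centV a₂ ha₂ (fun x hx => ?_)
    have h3 := h2 x hx.2
    rw [hc₁ x hx.1] at h3
    exact mul_inv_eq_iff_eq_mul.1 h3.symm
  obtain ⟨f, hf, f', hf', rfl⟩ := mem_sup_mul H ha₂P
  set s₂ := f⁻¹ * s₁ with hs2
  have hc₂₁ : ∀ x ∈ F₁, s₂ * x = x * s₂ := by
    intro x hx
    have h3 := mul_inv_eq_iff_eq_mul.1 (hc₁ x hx)
    have h4 := H.h₁.comm (F₁.inv_mem hf) hx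
    calc s₂ * x = f⁻¹ * (s₁ * x) := by rw [hs2]; group
      _ = (f⁻¹ * x) * s₁ := by rw [h3]; group
      _ = x * s₂ := by rw [h4, hs2]; group
  have hc₂₂ : ∀ x ∈ F₂, s₂ * x = x * s₂ := by
    intro x hx
    have h3 := h2 x hx
    have h4 : f * f' * x * (f * f')⁻¹ = f * x * f⁻¹ := by
      have h5 := H.h₂.comm hf' hx
      calc f * f' * x * (f * f')⁻¹ = f * (f' * x) * f'⁻¹ * f⁻¹ := by group
        _ = f * x * f⁻¹ := by rw [h5]; group
    rw [h4] at h3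
    have h5 : s₁ * x = f * x * f⁻¹ * s₁ := mul_inv_eq_iff_eq_mul.1 h3
    calc s₂ * x = f⁻¹ * (s₁ * x) := by rw [hs2]; group
      _ = x * s₂ := by rw [h5, hs2]; group
  have hs₂B : ∀ b ∈ B, s₂ * b * s₂⁻¹ ∈ B := by
    intro b hb
    have e : s₂ * b * s₂⁻¹ = f⁻¹ * (s₁ * b * s₁⁻¹) * f := by rw [hs2]; group
    rw [e]
    exact B.mul_mem (B.mul_mem (B.inv_mem (H.h₁.FB hf)) (hs₁B b hb)) (H.h₁.FB hf)
  have hs₂e : s₂ = (f⁻¹ * a₁⁻¹) * s * 1 := by rw [hs2, hs1]; group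
  have hj₁ : f⁻¹ * a₁⁻¹ ∈ B := B.mul_mem (B.inv_mem (H.h₁.FB hf)) (B.inv_mem ha₁)
  -- (iii) an involution `b₀` of `B - P`
  obtain ⟨b₀, hb₀, hbb, hbP⟩ : ∃ b ∈ B, b * b = 1 ∧ b ∉ F₁ ⊔ F₂ := by
    by_contra hcon
    push Not at hcon
    have hle : B ≤ F₁ ⊔ F₂ := fB.gen.trans ((closure_le _).2 (fun x hx => hcon x hx.1 hx.2))
    have := Subgroup.card_le_of_le hle
    rw [fB.card, fB.cardP] at this
    norm_num at this
  have hindex : ∀ b ∈ B, b ∈ F₁ ⊔ F₂ ∨ b * b₀ ∈ F₁ ⊔ F₂ := by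
    have h3 : (F₁ ⊔ F₂).relIndex B = 2 := by
      have h4 := relIndex_mul_relIndex ⊥ (F₁ ⊔ F₂) B bot_le (sup_le_B H)
      rw [relIndex_bot_left, relIndex_bot_left, fB.card, fB.cardP] at h4
      omega
    rw [relIndex_eq_two_iff] at h3
    obtain ⟨r, hr, h3⟩ := h3
    intro b hb
    have h4 := h3 b hb
    have h5 := h3 b₀ hb₀
    have h5' : b₀ * r ∈ F₁ ⊔ F₂ := by
      rcases h5 with h | h
      · exact h.1
      · exact absurd h.1 hbP
    rcases h4 with h | h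
    · right
      have h6 := (F₁ ⊔ F₂).mul_mem h.1 ((F₁ ⊔ F₂).inv_mem h5')
      have e : b * r * (b₀ * r)⁻¹ = b * b₀⁻¹ := by group
      rw [e, inv_eq_of_mul_eq_one_left hbb] at h6
      exact h6
    · exact Or.inl h.1
  -- (iv) the commutator `c`
  have hPnor : ∀ j ∈ B, ∀ p ∈ F₁ ⊔ F₂, j * p * j⁻¹ ∈ F₁ ⊔ F₂ := by
    intro j hj p hp
    obtain ⟨x, hx, x', hx', rfl⟩ := mem_sup_mul H hp
    have e : j * (x * x') * j⁻¹ = (j * x * j⁻¹) * (j * x' * j⁻¹) := by group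
    rw [e]
    exact Subgroup.mul_mem _ (le_sup_left (a := F₁) (nor j hj x hx)) (le_sup_right (a := F₁) (nor' j hj x' hx'))
  set c := b₀⁻¹ * (s₂ * b₀ * s₂⁻¹) with hc
  have hcB : c ∈ B := B.mul_mem (B.inv_mem hb₀) (hs₂B b₀ hb₀)
  have hcP : ∀ p ∈ F₁ ⊔ F₂, c * p = p * c := by
    intro p hp
    have h3 := comm_sup hc₂₁ hc₂₂ hp
    have h4 := comm_sup hc₂₁ hc₂₂ (hPnor b₀ hb₀ p hp)
    have h5 : s₂⁻¹ * p * s₂ = p := by
      calc s₂⁻¹ * p * s₂ = s₂⁻¹ * (s₂ * p) := by rw [h3]; group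
        _ = p := by group
    calc c * p = b₀⁻¹ * (s₂ * (b₀ * (s₂⁻¹ * p * s₂) * b₀⁻¹)) * b₀ * s₂⁻¹ := by rw [hc]; group
      _ = b₀⁻¹ * ((b₀ * p * b₀⁻¹) * s₂) * b₀ * s₂⁻¹ := by rw [h5, h4]
      _ = p * c := by rw [hc]; group
  have hc1 : c ∈ F₁ := mem_of_comm H.h₁ hcB (fun x hx => hcP x (le_sup_left (a := F₁) hx))
  have hc2 : c ∈ F₂ := mem_of_comm H.h₂ hcB (fun x hx => hcP x (le_sup_right (a := F₁) hx))
  have hcc : c * c = 1 := H.h₁.sq c hc1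
  have hbc : s₂ * b₀ * s₂⁻¹ = b₀ * c := by rw [hc]; group
  have hb₀c : b₀ * c = c * b₀ := by
    have h3 : (b₀ * c) * (b₀ * c) = 1 := by
      rw [← hbc]
      calc s₂ * b₀ * s₂⁻¹ * (s₂ * b₀ * s₂⁻¹) = s₂ * (b₀ * b₀) * s₂⁻¹ := by group
        _ = 1 := by rw [hbb]; group
    calc b₀ * c = (c * c) * (b₀ * c) * (b₀ * b₀) := by rw [hcc, hbb, one_mul, mul_one]
      _ = c * (c * b₀ * (c * b₀)) * b₀ := by simp only [mul_assoc]
      _ = c * ((b₀ * b₀) * (c * b₀ * c * b₀)) * b₀ := by rw [hbb, one_mul]; simp only [mul_assoc]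
      _ = c * (b₀ * ((b₀ * c) * (b₀ * c)) * b₀) * b₀ := by simp only [mul_assoc]
      _ = c * b₀ := by rw [h3, mul_one, hbb, mul_one]
  have final : ∀ z : G, (∀ p ∈ F₁ ⊔ F₂, z * p = p * z) → z * b₀ = b₀ * z → ∀ b ∈ B, z * b = b * z := by
    intro z hz hzb b hb
    rcases hindex b hb with h | h
    · exact hz b h
    · have h3 := hz _ h
      have e : b = b * b₀ * b₀ := by rw [mul_assoc, hbb, mul_one]
      calc z * b = (z * (b * b₀)) * b₀ := by rw [e]; simp only [mul_assoc, hbb, mul_one]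
        _ = (b * b₀) * (z * b₀) := by rw [h3]; simp only [mul_assoc]
        _ = (b * b₀ * b₀) * z := by rw [hzb]; simp only [mul_assoc]
        _ = b * z := by rw [← e]
  rcases fB.centu b₀ hb₀ hbP c ⟨hc1, hc2⟩ hb₀c with h3 | h3
  · -- `c = 1`
    refine ⟨_, hj₁, 1, B.one_mem, ?_⟩
    rw [← hs₂e]
    refine final s₂ (fun p hp => comm_sup hc₂₁ hc₂₂ hp) ?_
    rw [h3, mul_one] at hbc
    exact mul_inv_eq_iff_eq_mul.1 hbc
  · -- `c = v`
    have hv := fB.u_mem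
    have hv1 := fB.u_ne
    have hVsq : ∀ x ∈ F₁ ⊓ F₂, x * x = 1 := fun x hx => H.h₁.sq x hx.1
    obtain ⟨x, hx, hx1, hxv⟩ : ∃ x ∈ F₁ ⊓ F₂, x ≠ 1 ∧ x ≠ v := by
      by_contra hcon
      push Not at hcon
      have hsub : ((F₁ ⊓ F₂ : Subgroup G) : Set G) ⊆ {1, v} := by
        intro z hz
        by_cases h : z = 1
        · simp [h]
        · simp [hcon z hz h]
      have h4 := Set.ncard_le_ncard hsub (Set.toFinite _)
      have h5 : Set.ncard ({1, v} : Set G) ≤ 2 := by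
        have e1 := Set.ncard_insert_le (1 : G) {v}
        have e2 := Set.ncard_singleton v
        omega
      have h6 : Set.ncard ((F₁ ⊓ F₂ : Subgroup G) : Set G) = 4 := by
        rw [← Nat.card_coe_set_eq]; exact fB.cardV
      omega
    have hbx : b₀ * x * b₀⁻¹ = x * v := by
      have hmem : b₀ * x * b₀⁻¹ ∈ F₁ ⊓ F₂ := ⟨nor b₀ hb₀ x hx.1, nor' b₀ hb₀ x hx.2⟩
      rcases four fB.cardV hVsq hx hv hmem hx1 hv1 hxv with h | h | h | h
      · exact absurd (conj_eq_one_iff.1 h) hx1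
      · exfalso
        have h5 := fB.u_cent b₀ hb₀
        have h6 : b₀ * x * b₀⁻¹ = b₀ * v * b₀⁻¹ := by rw [h, h5, mul_inv_cancel_right]
        exact hxv (by simpa using h6)
      · exfalso
        rcases fB.centu b₀ hb₀ hbP x hx (mul_inv_eq_iff_eq_mul.1 h) with h5 | h5
        · exact hx1 h5
        · exact hxv h5
      · exact h
    refine ⟨_, hj₁, x, H.h₁.FB hx.1, ?_⟩
    have e0 : f⁻¹ * a₁⁻¹ * s * x = s₂ * x := by rw [hs₂e, mul_one]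
    rw [e0]
    have hxP : ∀ p ∈ F₁ ⊔ F₂, x * p = p * x :=
      fun p hp => comm_sup (fun y hy => H.h₁.comm hx.1 hy) (fun y hy => H.h₂.comm hx.2 hy) hp
    refine final (s₂ * x) (fun p hp => ?_) ?_
    · rw [mul_assoc, hxP p hp, ← mul_assoc, comm_sup hc₂₁ hc₂₂ hp, mul_assoc]
    · -- `s₂ x b₀ = b₀ s₂ x`
      have hxi : x⁻¹ = x := inv_eq_of_mul_eq_one_left (hVsq x hx)
      have hbi : b₀⁻¹ = b₀ := inv_eq_of_mul_eq_one_left hbb
      have hvv : v * v = 1 := hVsq v hv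
      have h5 : b₀ * x = x * v * b₀ := mul_inv_eq_iff_eq_mul.1 hbx
      have h6 : b₀ * v = v * b₀ := fB.u_cent b₀ hb₀
      have h7 : s₂ * b₀ = b₀ * c * s₂ := mul_inv_eq_iff_eq_mul.1 hbc
      have h8 : s₂ * x = x * s₂ := hc₂₁ x hx.1
      have h9 : s₂ * v = v * s₂ := hc₂₁ v hv.1
      have h10 : x * v = v * x := H.h₁.comm hx.1 hv.1
      -- `x b₀ = b₀ x v`
      have h11 : x * b₀ = b₀ * (x * v) := by
        calc x * b₀ = (x * v) * b₀ * v := by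
              rw [mul_assoc (x * v), h6, mul_assoc, ← mul_assoc v v, hvv, one_mul]
          _ = b₀ * x * v := by rw [h5]
          _ = b₀ * (x * v) := by rw [mul_assoc]
      calc s₂ * x * b₀ = s₂ * (x * b₀) := by rw [mul_assoc]
        _ = (s₂ * b₀) * (x * v) := by rw [h11, ← mul_assoc]
        _ = b₀ * (c * (s₂ * x) * v) := by rw [h7]; simp only [mul_assoc]
        _ = b₀ * (v * s₂ * (x * v)) := by rw [h3]; simp only [mul_assoc]
        _ = b₀ * (s₂ * (v * v) * x) := by rw [h10, ← h9]; simp only [mul_assoc]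
        _ = b₀ * (s₂ * x) := by rw [hvv, mul_one]

end Cfsg.Agent.Wreath.DThreeCent
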