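import Mathlib
import Cfsg.Agent.Wreath.DThreeCent

/-!
# (D3) of the end of Theorem W (S1739), step (3.4)

`x` normalises `A` and centralises `B⟨u⟩`: up to an element of `R₀ = ⟨u, v⟩` it centralises `N_{C(A)}(F₁)` and
`N_{C(A)}(F₂)` modulo odd order.
-/

set_option autoImplicit false

namespace Cfsg.Agent.Wreath.DThreeFix

open Subgroup Cfsg.Agent.Wreath.DThreeCoc Cfsg.Agent.Wreath.DThreeSide Cfsg.Agent.Wreath.DThreeCent
open Cfsg.Agent.TypeM.WThreeAbs (mem_norm)

variable {G : Type*} [Group G]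

/-- `x` centralises `N` modulo odd order elements. -/
def Odd' (x : G) (N : Subgroup G) : Prop := ∃ m : ℕ, Odd m ∧ ∀ n ∈ N, (x⁻¹ * (n * x * n⁻¹)) ^ m = 1

/-- `R₀ = ⟨u, v⟩` -/
def InR (u v r : G) : Prop := r = 1 ∨ r = u ∨ r = v ∨ r = u * v

variable {A B F F₁ F₂ : Subgroup G} {u v : G}

theorem InR.mul {r r' : G} (uu : u * u = 1) (vv : v * v = 1) (uv : u * v = v * u) (h : InR u v r) (h' : InR u v r') :
    InR u v (r * r') := by
  unfold InR at *
  rcases h with rfl | rfl | rfl | rfl <;> rcases h' with h' | h' | h' | h' <;> rw [h']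
  · simp
  · simp
  · simp
  · simp
  · simp
  · simp [uu]
  · simp
  · simp [← mul_assoc, uu]
  · simp
  · simp [uv]
  · simp [vv]
  · rw [uv, ← mul_assoc, vv, one_mul]; simp
  · simp
  · rw [mul_assoc, ← uv, ← mul_assoc, uu, one_mul]; simp
  · rw [mul_assoc, vv, mul_one]; simp
  · rw [uv, mul_assoc, ← mul_assoc u, ← uv, mul_assoc u v, ]; simp [← mul_assoc, uv, vv, uu]

/-- elements of `K⟨u⟩` -/
theorem mem_sup_u {K : Subgroup G} (uu : u * u = 1) (hK : ∀ x ∈ K, u * x = x * u) {y : G} :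
    y ∈ K ⊔ zpowers u ↔ y ∈ K ∨ y * u ∈ K := by
  constructor
  · intro hy
    let L : Subgroup G :=
      { carrier := {y | y ∈ K ∨ y * u ∈ K}
        one_mem' := Or.inl K.one_mem
        mul_mem' := by
          rintro x y (hx | hx) (hy | hy)
          · exact Or.inl (K.mul_mem hx hy)
          · exact Or.inr (by rw [mul_assoc]; exact K.mul_mem hx hy)
          · right
            have h1 := K.mul_mem hx hy
            rwa [mul_assoc, hK y hy, ← mul_assoc] at h1
          · left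
            have h1 := K.mul_mem hx hy
            have h2 := hK _ hy
            have e : x * u * (y * u) = x * (u * (y * u)) := by group
            rw [e, h2, mul_assoc y, uu, mul_one] at h1
            exact h1
        inv_mem' := by
          rintro x (hx | hx)
          · exact Or.inl (K.inv_mem hx)
          · right
            have h1 := hK _ (K.inv_mem hx)
            have h2 : x⁻¹ * u = (x * u)⁻¹ := by
              have h3 : x⁻¹ = u * (x * u)⁻¹ := by group
              rw [h3, h1, mul_assoc, uu, mul_one]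
            rw [h2]
            exact K.inv_mem hx }
    have hle : K ⊔ zpowers u ≤ L := by
      refine sup_le (fun x hx => Or.inl hx) ?_
      rw [zpowers_le]
      exact Or.inr (by rw [uu]; exact K.one_mem)
    exact hle hy
  · rintro (hy | hy)
    · exact le_sup_left (a := K) hy
    · have e : y = y * u * u := by rw [mul_assoc, uu, mul_one]
      rw [e]
      exact Subgroup.mul_mem _ (le_sup_left (a := K) hy) (le_sup_right (a := K) (mem_zpowers u))

variable [Finite G]

/-- the data of the averaging lemma for `F` -/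
theorem exists_splitF (H : One A B F u) :
    ∃ m, Split (centralizer (A : Set G) ⊓ centralizer (F : Set G)) (F ⊔ zpowers u) m := by
  have hu : ∀ c ∈ centralizer (A : Set G), u * c = c * u := fun c hc => mem_centralizer_iff.1 hc u H.uA
  refine exists_split ?_ ?_ ?_ ?_
  · refine sup_le ?_ ?_
    · intro x hx
      refine ⟨mem_centralizer_iff.2 fun a ha => H.AB a ha x (H.FB hx), mem_centralizer_iff.2 fun y hy => H.comm hy hx⟩
    · rw [zpowers_le]
      exact ⟨mem_centralizer_iff.2 H.uc, mem_centralizer_iff.2 fun y hy => (H.uB (H.FB hy)).symm⟩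
  · intro z hz c hc
    have hle : F ⊔ zpowers u ≤ centralizer {c} := by
      refine sup_le ?_ ?_
      · intro x hx
        exact mem_centralizer_singleton_iff.2 (mem_centralizer_iff.1 hc.2 x hx)
      · rw [zpowers_le]
        exact mem_centralizer_singleton_iff.2 (hu c hc.1)
    exact mem_centralizer_singleton_iff.1 (hle hz)
  · intro z hz
    rcases (mem_sup_u H.uu (fun x hx => H.uB (H.FB hx))).1 hz with h | h
    · exact H.sq z h
    · have h1 := H.sq _ h
      have h2 := H.uB (H.FB h)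
      have e : z = z * u * u := by rw [mul_assoc, H.uu, mul_one]
      have e2 : z * z = (z * u * u) * (z * u * u) := by rw [← e]
      rw [e2]
      calc z * u * u * (z * u * u) = z * u * (u * (z * u)) * u := by simp only [mul_assoc]
        _ = (z * u) * (z * u) * (u * u) := by rw [h2]; simp only [mul_assoc]
        _ = 1 := by rw [h1, H.uu, one_mul]
  · intro c hc h2
    exact H.two_mem hc.1 (fun x hx => (mem_centralizer_iff.1 hc.2 x hx).symm) h2

omit [Finite G] in
theorem cent_conj {x : G} (hxA : ∀ a ∈ A, x * a * x⁻¹ ∈ A) {z : G} (hz : z ∈ centralizer (A : Set G)) :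
    x⁻¹ * z * x ∈ centralizer (A : Set G) := by
  rw [mem_centralizer_iff] at hz ⊢
  intro a ha
  have h1 := hz _ (hxA a ha)
  calc a * (x⁻¹ * z * x) = x⁻¹ * ((x * a * x⁻¹) * z) * x := by group
    _ = x⁻¹ * z * x * a := by rw [h1]; group

omit [Finite G] in
theorem comm_mem {x : G} (hxA : ∀ a ∈ A, x * a * x⁻¹ ∈ A) (hxF : ∀ y ∈ F, x * y = y * x) {n : G} (hn : n ∈ NN A F) :
    x⁻¹ * (n * x * n⁻¹) ∈ centralizer (A : Set G) ⊓ centralizer (F : Set G) := by
  constructor
  · have e : x⁻¹ * (n * x * n⁻¹) = (x⁻¹ * n * x) * n⁻¹ := by group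
    rw [e]
    exact Subgroup.mul_mem _ (cent_conj hxA hn.1) (Subgroup.inv_mem _ hn.1)
  · refine mem_centralizer_iff.2 fun y hy => ?_
    have h1 : n⁻¹ * y * n ∈ F := by
      have := NN_conj ((NN A F).inv_mem hn) hy
      rwa [inv_inv] at this
    have h2 := hxF _ h1
    have h3 := hxF _ hy
    calc y * (x⁻¹ * (n * x * n⁻¹)) = x⁻¹ * (x * y) * x⁻¹ * (n * x * n⁻¹) := by group
      _ = x⁻¹ * (n * ((n⁻¹ * y * n) * x) * n⁻¹) := by rw [h3]; group
      _ = x⁻¹ * (n * x * n⁻¹) * y := by rw [← h2]; group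

/-- **(3.4) (i), (ii)** for one `F`. -/
theorem side_fix (H : One A B F u) (hcen : ∀ c ∈ B, (∀ b ∈ B, c * b = b * c) → c = 1 ∨ c = v) {x : G}
    (hxA : ∀ a ∈ A, x * a * x⁻¹ ∈ A) (hxB : ∀ b ∈ B, x * b = b * x) (hxu : x * u = u * x) :
    ∃ f, InR u v f ∧ Odd' (x * f) (NN A F) := by
  obtain ⟨m, S⟩ := exists_splitF H
  have hxF : ∀ y ∈ F, x * y = y * x := fun y hy => hxB y (H.FB hy)
  have hx : ∀ n ∈ NN A F, x⁻¹ * (n * x * n⁻¹) ∈ centralizer (A : Set G) ⊓ centralizer (F : Set G) :=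
    fun n hn => comm_mem hxA hxF hn
  have hP : Odd ((B ⊔ zpowers u).relIndex (NN A F)) := odd_relIndex H.P_le H.P_p H.syl
  obtain ⟨f, hf, hfP, hfN⟩ := exists_fix S H.P_le hP
    (by
      rintro n hn c ⟨hc1, hc2⟩
      refine ⟨Subgroup.mul_mem _ (Subgroup.mul_mem _ hn.1 hc1) (Subgroup.inv_mem _ hn.1), ?_⟩
      refine mem_centralizer_iff.2 fun y hy => ?_
      have h1 : n⁻¹ * y * n ∈ F := by
        have := NN_conj ((NN A F).inv_mem hn) hy
        rwa [inv_inv] at this
      have h2 := mem_centralizer_iff.1 hc2 _ h1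
      calc y * (n * c * n⁻¹) = n * ((n⁻¹ * y * n) * c) * n⁻¹ := by group
        _ = n * c * n⁻¹ * y := by rw [h2]; group)
    (by
      intro n hn z hz
      have hnu : n * u * n⁻¹ = u := by
        have := NN_comm hn H.uA
        rw [← this, mul_inv_cancel_right]
      rcases (mem_sup_u H.uu (fun x hx => H.uB (H.FB hx))).1 hz with h | h
      · exact (mem_sup_u H.uu (fun x hx => H.uB (H.FB hx))).2 (Or.inl (NN_conj hn h))
      · refine (mem_sup_u H.uu (fun x hx => H.uB (H.FB hx))).2 (Or.inr ?_)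
        have e : n * z * n⁻¹ * u = n * (z * u) * n⁻¹ := by
          calc n * z * n⁻¹ * u = n * z * n⁻¹ * (n * u * n⁻¹) := by rw [hnu]
            _ = n * (z * u) * n⁻¹ := by group
        rw [e]
        exact NN_conj hn h)
    hx
    (by
      intro b hb
      rcases (mem_sup_u H.uu (fun x hx => H.uB hx)).1 hb with h | h
      · exact (hxB b h).symm
      · have h1 := hxB _ h
        have e : b = b * u * u := by rw [mul_assoc, H.uu, mul_one]
        calc b * x = b * u * (u * x) := by rw [← mul_assoc, ← e]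
          _ = (b * u * x) * u := by rw [← hxu]; simp only [mul_assoc]
          _ = x * (b * u * u) := by rw [← h1]; simp only [mul_assoc]
          _ = x * b := by rw [← e])
  refine ⟨f, ?_, m, S.odd, hfN⟩
  -- `f ∈ R₀`
  have hfB : ∀ b ∈ B, b * f = f * b := fun b hb => hfP b (le_sup_left (a := B) hb)
  rcases (mem_sup_u H.uu (fun x hx => H.uB (H.FB hx))).1 hf with h | h
  · rcases hcen f (H.FB h) (fun b hb => (hfB b hb).symm) with h1 | h1
    · left; exact h1
    · right; right; left; exact h1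
  · have hc : ∀ b ∈ B, (f * u) * b = b * (f * u) := by
      intro b hb
      rw [mul_assoc, H.uB hb, ← mul_assoc, ← hfB b hb, mul_assoc]
    rcases hcen (f * u) (H.FB h) hc with h1 | h1
    · right; left
      have : f = f * u * u := by rw [mul_assoc, H.uu, mul_one]
      rw [this, h1, one_mul]
    · right; right; right
      have : f = f * u * u := by rw [mul_assoc, H.uu, mul_one]
      have h2 := H.uB (H.FB h)
      rw [this, ← h2, h1]

omit [Finite G] in
/-- **(3.4) (iii)**, the comparison. -/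
theorem compare (H : Two A B F₁ F₂ u v) {x r k : G} (hxB : ∀ b ∈ B, x * b = b * x) (hxu : x * u = u * x)
    (hk₁ : k ∈ NN A F₁) (hkv : k * v * k⁻¹ ≠ v) (hr : InR u v r) {m m' : ℕ} (hm : Odd m)
    (hm' : Odd m') (h1 : (x⁻¹ * (k * x * k⁻¹)) ^ m = 1) (h2 : ((x * r)⁻¹ * (k * (x * r) * k⁻¹)) ^ m' = 1) :
    r = 1 ∨ r = u := by
  by_contra hcon
  push Not at hcon
  obtain ⟨hr1, hru⟩ := hcon
  have hv := H.fB.u_mem
  have hku : k * u = u * k := (NN_comm hk₁ H.h₁.uA).symm
  have huv : u * v = v * u := H.h₁.uB (H.h₁.FB hv.1)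
  set c := x⁻¹ * (k * x * k⁻¹) with hc
  have hcF : ∀ y ∈ F₁, c * y = y * c := by
    intro y hy
    have h3 : k⁻¹ * y * k ∈ F₁ := by
      have := NN_conj ((NN A F₁).inv_mem hk₁) hy
      rwa [inv_inv] at this
    have h4 := hxB _ (H.h₁.FB h3)
    have h5 := hxB _ (H.h₁.FB hy)
    calc c * y = x⁻¹ * (k * (x * (k⁻¹ * y * k)) * k⁻¹) := by rw [hc]; group
      _ = x⁻¹ * (y * x) * x⁻¹ * (k * x * k⁻¹) := by rw [h4]; group
      _ = y * c := by rw [← h5, hc]; group
  have hcu : c * u = u * c := by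
    have a1 : Commute u x := hxu.symm
    have a2 : Commute u k := hku.symm
    exact ((a1.inv_right).mul_right ((a2.mul_right a1).mul_right a2.inv_right)).eq.symm
  have hkvF : k * v * k⁻¹ ∈ F₁ := NN_conj hk₁ hv.1
  -- `e = v⁻¹ (k v k⁻¹)`
  have hkr : r⁻¹ * (k * r * k⁻¹) = v⁻¹ * (k * v * k⁻¹) := by
    rcases hr with h | h | h | h
    · exact absurd h hr1
    · exact absurd h hru
    · rw [h]
    · rw [h]
      calc (u * v)⁻¹ * (k * (u * v) * k⁻¹) = v⁻¹ * u⁻¹ * ((k * u) * v * k⁻¹) := by group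
        _ = v⁻¹ * (k * v * k⁻¹) := by rw [hku]; group
  have hcr : c * r = r * c := by
    have hcv := hcF v hv.1
    rcases hr with h | h | h | h
    · exact absurd h hr1
    · exact absurd h hru
    · rw [h]; exact hcv
    · rw [h, ← mul_assoc, hcu, mul_assoc, hcv, mul_assoc]
  set e := v⁻¹ * (k * v * k⁻¹) with he
  have heF : e ∈ F₁ := F₁.mul_mem (F₁.inv_mem hv.1) hkvF
  have hee : e * e = 1 := H.h₁.sq e heF
  have hce : Commute c e := hcF e heF
  have h3 : (x * r)⁻¹ * (k * (x * r) * k⁻¹) = c * e := by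
    calc (x * r)⁻¹ * (k * (x * r) * k⁻¹) = r⁻¹ * c * (k * r * k⁻¹) := by rw [hc]; group
      _ = r⁻¹ * (c * r) * (r⁻¹ * (k * r * k⁻¹)) := by group
      _ = c * e := by rw [hcr, hkr]; group
  rw [h3] at h2
  have h4 : (c * e) ^ (m' * m) = 1 := by rw [pow_mul, h2, one_pow]
  rw [hce.mul_pow, mul_comm m' m, pow_mul c, h1, one_pow, one_mul,
    pow_odd hee (hm.mul hm')] at h4
  apply hkv
  have h5 : v⁻¹ * (k * v * k⁻¹) = 1 := h4
  exact (inv_mul_eq_one.1 h5).symm

omit [Finite G] in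
/-- `u` may be dropped -/
theorem odd'_u {x : G} {N : Subgroup G} (hxu : x * u = u * x) (hN : ∀ n ∈ N, u * n = n * u) (h : Odd' (x * u) N) :
    Odd' x N := by
  obtain ⟨m, hm, h⟩ := h
  refine ⟨m, hm, fun n hn => ?_⟩
  have h1 := h n hn
  have e : (x * u)⁻¹ * (n * (x * u) * n⁻¹) = x⁻¹ * (n * x * n⁻¹) := by
    calc (x * u)⁻¹ * (n * (x * u) * n⁻¹) = (x * u)⁻¹ * (n * (u * x) * n⁻¹) := by rw [hxu]
      _ = u⁻¹ * x⁻¹ * ((n * u) * x * n⁻¹) := by group
      _ = u⁻¹ * (x⁻¹ * u) * (n * x * n⁻¹) := by rw [← hN n hn]; group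
      _ = u⁻¹ * (x⁻¹ * (u * x) * x⁻¹) * (n * x * n⁻¹) := by group
      _ = x⁻¹ * (n * x * n⁻¹) := by rw [← hxu]; group
  rwa [e] at h1

/-- **(3.4)**: the corrected `x`. -/
theorem exists_star (H : Two A B F₁ F₂ u v) {x : G} (hxA : ∀ a ∈ A, x * a * x⁻¹ ∈ A)
    (hxB : ∀ b ∈ B, x * b = b * x) (hxu : x * u = u * x) :
    ∃ f, InR u v f ∧ Odd' (x * f) (NN A F₁) ∧ Odd' (x * f) (NN A F₂) := by
  have hv := H.fB.u_mem
  have huu := H.h₁.uu
  have hvv : v * v = 1 := H.h₁.sq v hv.1
  have huv : u * v = v * u := H.h₁.uB (H.h₁.FB hv.1)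
  have hcen := H.fB.center
  obtain ⟨f, hf, hf1⟩ := side_fix H.h₁ hcen hxA hxB hxu
  obtain ⟨f', hf', hf2⟩ := side_fix H.h₂ hcen hxA hxB hxu
  refine ⟨f, hf, hf1, ?_⟩
  have hfB : ∀ b ∈ B, f * b = b * f := by
    intro b hb
    have h1 := H.h₁.uB hb
    have h2 := (H.fB.u_cent b hb).symm
    rcases hf with h | h | h | h
    · rw [h]; simp
    · rw [h]; exact h1
    · rw [h]; exact h2
    · rw [h, mul_assoc, h2, ← mul_assoc, h1, mul_assoc]
  have hfu : f * u = u * f := by
    rcases hf with h | h | h | h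
    · rw [h]; simp
    · rw [h]
    · rw [h]; exact huv.symm
    · rw [h, mul_assoc, ← huv]
  have hff : f * f = 1 := by
    rcases hf with h | h | h | h
    · rw [h]; simp
    · rw [h]; exact huu
    · rw [h]; exact hvv
    · rw [h]
      calc u * v * (u * v) = u * (v * u) * v := by group
        _ = (u * u) * (v * v) := by rw [← huv]; group
        _ = 1 := by rw [huu, hvv, one_mul]
  have hxfB : ∀ b ∈ B, (x * f) * b = b * (x * f) := by
    intro b hb
    rw [mul_assoc, hfB b hb, ← mul_assoc, hxB b hb, mul_assoc]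
  have hxfu : (x * f) * u = u * (x * f) := by
    rw [mul_assoc, hfu, ← mul_assoc, hxu, mul_assoc]
  obtain ⟨k, hk₁, hk₂, hkv⟩ := H.w9
  obtain ⟨m, hm, h1⟩ := hf1
  obtain ⟨m', hm', h2⟩ := hf2
  have hr : InR u v (f * f') := hf.mul huu hvv huv hf'
  have e0 : x * f' = (x * f) * (f * f') := by
    calc x * f' = x * (f * f) * f' := by rw [hff, mul_one]
      _ = (x * f) * (f * f') := by group
  rw [e0] at h2
  rcases compare H hxfB hxfu hk₁ hkv hr hm hm' (h1 k hk₁) (h2 k hk₂) with h3 | h3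
  · rw [h3, mul_one] at h2
    exact ⟨m', hm', h2⟩
  · rw [h3] at h2
    exact odd'_u hxfu (fun n hn => NN_comm hn H.h₁.uA) ⟨m', hm', h2⟩

/-- **(3.4) (i)**: the square. -/
theorem sq_star (H : Two A B F₁ F₂ u v) {x : G} (hxA : ∀ a ∈ A, x * a * x⁻¹ ∈ A)
    (hxB : ∀ b ∈ B, x * b = b * x) (hxx : InR u v (x * x)) (h : Odd' x (NN A F₁)) :
    x * x = 1 ∨ x * x = u := by
  obtain ⟨m, S⟩ := exists_splitF H.h₁
  obtain ⟨k, hk₁, _, hkv⟩ := H.w9
  obtain ⟨m', hm', h'⟩ := h
  have hv := H.fB.u_mem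
  have hku : k * u = u * k := (NN_comm hk₁ H.h₁.uA).symm
  have hxF : ∀ y ∈ F₁, x * y = y * x := fun y hy => hxB y (H.h₁.FB hy)
  have hc := comm_mem hxA hxF hk₁
  have hmem : ∀ r, InR u v r → r ∈ F₁ ⊔ zpowers u := by
    intro r hr
    have h1 : u ∈ F₁ ⊔ zpowers u := le_sup_right (a := F₁) (mem_zpowers u)
    have h2 : v ∈ F₁ ⊔ zpowers u := le_sup_left (a := F₁) hv.1
    rcases hr with h | h | h | h
    · rw [h]; exact Subgroup.one_mem _
    · rw [h]; exact h1
    · rw [h]; exact h2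
    · rw [h]; exact Subgroup.mul_mem _ h1 h2
  have hkr : ∀ r, InR u v r → k * r * k⁻¹ ∈ F₁ ⊔ zpowers u := by
    intro r hr
    have h1 : u ∈ F₁ ⊔ zpowers u := le_sup_right (a := F₁) (mem_zpowers u)
    have h2 : k * v * k⁻¹ ∈ F₁ ⊔ zpowers u := le_sup_left (a := F₁) (NN_conj hk₁ hv.1)
    have h3 : k * u * k⁻¹ = u := by rw [hku, mul_inv_cancel_right]
    rcases hr with h | h | h | h
    · rw [h]; simp
    · rw [h, h3]; exact h1
    · rw [h]; exact h2
    · rw [h]
      have e : k * (u * v) * k⁻¹ = (k * u * k⁻¹) * (k * v * k⁻¹) := by group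
      rw [e, h3]; exact Subgroup.mul_mem _ h1 h2
  -- the exponent `m`
  have hcm : (x⁻¹ * (k * x * k⁻¹)) ^ m = 1 := by
    have h1 := S.pow _ hc
    have h2 := pow_odd (S.sq _ h1) hm'
    rw [← pow_mul, mul_comm, pow_mul, h' k hk₁, one_pow] at h2
    exact h2.symm
  have hfix := fix_sq S hc hcm (by
    rintro c ⟨hc1, hc2⟩
    refine ⟨cent_conj hxA hc1, mem_centralizer_iff.2 fun y hy => ?_⟩
    have h3 := hxF y hy
    have h4 := mem_centralizer_iff.1 hc2 y hy
    calc y * (x⁻¹ * c * x) = x⁻¹ * (x * y) * x⁻¹ * c * x := by group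
      _ = x⁻¹ * (y * c) * x := by rw [h3]; group
      _ = x⁻¹ * c * (y * x) := by rw [h4]; group
      _ = x⁻¹ * c * x * y := by rw [← h3]; group) (hmem _ hxx) (hkr _ hxx)
  rcases hxx with h1 | h1 | h1 | h1
  · exact Or.inl h1
  · exact Or.inr h1
  · exfalso
    rw [h1] at hfix
    exact hkv hfix
  · exfalso
    rw [h1] at hfix
    apply hkv
    have e : k * (u * v) * k⁻¹ = u * (k * v * k⁻¹) := by
      calc k * (u * v) * k⁻¹ = (k * u) * v * k⁻¹ := by group
        _ = u * (k * v * k⁻¹) := by rw [hku]; group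
    rw [e] at hfix
    exact mul_left_cancel hfix

end Cfsg.Agent.Wreath.DThreeFix
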