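import Mathlib
import Cfsg.Agent.Wreath.DThreeFix

/-!
# (D3) of the end of Theorem W (S1739), step (3.7)

If `x` centralises `B` and, modulo odd order, `N_{C(A)}(F₁)` and `N_{C(A)}(F₂)`, and `y = a x` is an involution, then
every involution of `B` is conjugate to `v` under `C(A) ∩ C(y)`.
-/

set_option autoImplicit false

namespace Cfsg.Agent.Wreath.DThreeConj

open Subgroup Cfsg.Agent.Wreath.DThreeCoc Cfsg.Agent.Wreath.DThreeSide Cfsg.Agent.Wreath.DThreeCent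
open Cfsg.Agent.Wreath.DThreeFix

variable {G : Type*} [Group G] [Finite G] {A B F F₁ F₂ : Subgroup G} {u v : G}

theorem lift_n (H : One A B F u) {x a n : G} (hxA : ∀ a ∈ A, x * a * x⁻¹ ∈ A) (hxB : ∀ b ∈ B, x * b = b * x)
    (h : Odd' x (NN A F)) (ha : a ∈ A) (hy : (a * x) * (a * x) = 1) (hn : n ∈ NN A F) :
    ∃ d m, d ∈ centralizer (A : Set G) ⊓ centralizer (F : Set G) ∧
      Split (centralizer (A : Set G) ⊓ centralizer (F : Set G)) (F ⊔ zpowers u) m ∧ d ^ m = 1 ∧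
      (d * n) * (a * x) = (a * x) * (d * n) := by
  obtain ⟨m, S⟩ := exists_splitF H
  obtain ⟨m', hm', h'⟩ := h
  have hc := comm_mem hxA (fun y hy => hxB y (H.FB hy)) hn
  have hcm : (x⁻¹ * (n * x * n⁻¹)) ^ m = 1 := by
    have h1 := S.pow _ hc
    have h2 := pow_odd (S.sq _ h1) hm'
    rw [← pow_mul, mul_comm, pow_mul, h' n hn, one_pow] at h2
    exact h2.symm
  have hna : a * n = n * a := NN_comm hn ha
  obtain ⟨k, hk⟩ := exists_comm S.odd hcm hy (n := n) (by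
    calc n * (a * x) * n⁻¹ = (n * a) * x * n⁻¹ := by group
      _ = a * x * (x⁻¹ * (n * x * n⁻¹)) := by rw [← hna]; group)
  refine ⟨_, m, Subgroup.pow_mem _ hc k, S, ?_, hk⟩
  rw [← pow_mul, mul_comm, pow_mul, hcm, one_pow]

/-- **(3.7)** -/
theorem exists_conj_v (H : Two A B F₁ F₂ u v) {x a b : G} (hxA : ∀ a ∈ A, x * a * x⁻¹ ∈ A)
    (hxB : ∀ b ∈ B, x * b = b * x) (h1 : Odd' x (NN A F₁)) (h2 : Odd' x (NN A F₂)) (ha : a ∈ A)
    (hy : (a * x) * (a * x) = 1) (hb : b ∈ B) (hbb : b * b = 1) (hb1 : b ≠ 1) :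
    ∃ k : G, (∀ a ∈ A, a * k = k * a) ∧ k * (a * x) = (a * x) * k ∧ k * b * k⁻¹ = v := by
  have hyB : ∀ z ∈ B, (a * x) * z = z * (a * x) := by
    intro z hz
    rw [mul_assoc, hxB z hz, ← mul_assoc, H.h₁.AB a ha z hz, mul_assoc]
  -- into `F₂`
  obtain ⟨n, hn, hnb⟩ := H.w5b b hb hbb
  obtain ⟨d, m, hd, S, hdm, hcomm⟩ := lift_n H.h₁ hxA hxB h1 ha hy hn
  set b' := n * b * n⁻¹ with hb'
  have hb'B : b' ∈ B := H.h₂.FB hnb
  have hb'b' : b' * b' = 1 := H.h₂.sq b' hnb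
  have hb'i : b'⁻¹ = b' := inv_eq_of_mul_eq_one_left hb'b'
  have hb'1 : b' ≠ 1 := fun h => hb1 (conj_eq_one_iff.1 h)
  set b'' := d * b' * d⁻¹ with hb''
  have hb''b'' : b'' * b'' = 1 := by
    calc d * b' * d⁻¹ * (d * b' * d⁻¹) = d * (b' * b') * d⁻¹ := by group
      _ = 1 := by rw [hb'b']; group
  have hb'N : b' ∈ NN A F₁ := H.h₁.P_le (le_sup_left (a := B) hb'B)
  have hd' : b' * d⁻¹ * b'⁻¹ ∈ centralizer (A : Set G) ⊓ centralizer (F₁ : Set G) := by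
    have hdi := Subgroup.inv_mem _ hd
    refine ⟨Subgroup.mul_mem _ (Subgroup.mul_mem _ hb'N.1 hdi.1) (Subgroup.inv_mem _ hb'N.1), ?_⟩
    refine mem_centralizer_iff.2 fun y hy => ?_
    have h3 : b'⁻¹ * y * b' ∈ F₁ := by
      have := NN_conj ((NN A F₁).inv_mem hb'N) hy
      rwa [inv_inv] at this
    have h4 := mem_centralizer_iff.1 hdi.2 _ h3
    calc y * (b' * d⁻¹ * b'⁻¹) = b' * ((b'⁻¹ * y * b') * d⁻¹) * b'⁻¹ := by group
      _ = b' * d⁻¹ * b'⁻¹ * y := by rw [h4]; group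
  have hprod : (b'' * b') ^ m = 1 := by
    have e : b'' * b' = d * (b' * d⁻¹ * b'⁻¹) := by
      rw [hb'', hb'i]; group
    have h3 : (b' * d⁻¹ * b'⁻¹) ^ m = 1 := by
      rw [conj_pow, inv_pow, hdm]; group
    rw [e, S.mul _ hd _ hd', hdm, h3, one_mul]
  obtain ⟨j, hj⟩ := exists_conj_pow S.odd hprod hb''b'' hb'b'
  set h0 := (b'' * b') ^ j with hh0
  -- commuting with `y` and with `A`
  have hn1b : (d * n) * b * (d * n)⁻¹ = b'' := by rw [hb'', hb']; group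
  have hyb'' : (a * x) * b'' = b'' * (a * x) := by
    have c1 : Commute (a * x) (d * n) := hcomm.symm
    have c2 : Commute (a * x) b := hyB b hb
    rw [← hn1b]
    exact (c1.mul_right c2).mul_right c1.inv_right
  have hyb' : (a * x) * b' = b' * (a * x) := hyB b' hb'B
  have hyh0 : Commute (a * x) h0 := by
    have c1 : Commute (a * x) b'' := hyb''
    have c2 : Commute (a * x) b' := hyb'
    exact (c1.mul_right c2).pow_right j
  have hdA : d ∈ centralizer (A : Set G) := hd.1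
  have hb'A : b' ∈ centralizer (A : Set G) := hb'N.1
  have hh0A : h0 ∈ centralizer (A : Set G) := by
    refine Subgroup.pow_mem _ (Subgroup.mul_mem _ ?_ hb'A) j
    exact Subgroup.mul_mem _ (Subgroup.mul_mem _ hdA hb'A) (Subgroup.inv_mem _ hdA)
  -- `k₁ = h₀⁻¹ d n`
  set k₁ := h0⁻¹ * (d * n) with hk₁
  have hk₁A : k₁ ∈ centralizer (A : Set G) :=
    Subgroup.mul_mem _ (Subgroup.inv_mem _ hh0A) (Subgroup.mul_mem _ hdA hn.1)
  have hk₁y : k₁ * (a * x) = (a * x) * k₁ := by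
    have c1 : Commute (a * x) (d * n) := hcomm.symm
    exact (hyh0.inv_right.mul_right c1).eq.symm
  have hk₁b : k₁ * b * k₁⁻¹ = b' := by
    calc k₁ * b * k₁⁻¹ = h0⁻¹ * ((d * n) * b * (d * n)⁻¹) * h0 := by rw [hk₁]; group
      _ = b' := by rw [hn1b, hj]
  by_cases hbv : b' = v
  · exact ⟨k₁, fun a ha => mem_centralizer_iff.1 hk₁A a ha, hk₁y, by rw [hk₁b, hbv]⟩
  · have hvF : v ∈ F₂ := H.fB.u_mem.2
    obtain ⟨n₂, hn₂, hn₂b, _⟩ := H.h₂.trans b' hnb v hvF v hvF b' hnb hb'1 H.fB.u_ne H.fB.u_ne hb'1 hbv (Ne.symm hbv)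
    obtain ⟨d₂, m₂, hd₂, S₂, hdm₂, hcomm₂⟩ := lift_n H.h₂ hxA hxB h2 ha hy hn₂
    have hd₂v : d₂ * v * d₂⁻¹ = v := by
      rw [← mem_centralizer_iff.1 hd₂.2 v hvF, mul_inv_cancel_right]
    refine ⟨(d₂ * n₂) * k₁, fun a ha => ?_, ?_, ?_⟩
    · exact mem_centralizer_iff.1 (Subgroup.mul_mem _ (Subgroup.mul_mem _ hd₂.1 hn₂.1) hk₁A) a ha
    · have c1 : Commute (a * x) (d₂ * n₂) := hcomm₂.symm
      have c2 : Commute (a * x) k₁ := hk₁y.symm
      exact (c1.mul_right c2).eq.symm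
    · calc (d₂ * n₂) * k₁ * b * ((d₂ * n₂) * k₁)⁻¹ = d₂ * (n₂ * (k₁ * b * k₁⁻¹) * n₂⁻¹) * d₂⁻¹ := by group
        _ = v := by rw [hk₁b, hn₂b, hd₂v]

end Cfsg.Agent.Wreath.DThreeConj
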