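import Mathlib
import Cfsg.Agent.Wreath.DThreeConj
import Cfsg.Agent.Wreath.ADataMap

/-!
# (D3) of the end of Theorem W (S1739)

`S₀ / J` of order 4 (`J = A A^t`): `S₀ = D × D^t` with `D = A⟨x⟩`, `x` an involution.
-/

set_option autoImplicit false

namespace Cfsg.Agent.Wreath.DThree

open Subgroup Cfsg.Agent.Wreath.DThreeSide Cfsg.Agent.Wreath.DThreeCent Cfsg.Agent.Wreath.DThreeFix
open Cfsg.Agent.Wreath.ADataMap
open Cfsg.Agent.TypeM.WThreeAbs (mem_norm)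

variable {G : Type*} [Group G]

/-- Hypotheses of (D3). -/
structure Hyp (S₀ A M₁ M₂ : Subgroup G) (t u : G) : Prop where
  F : AData.Facts A M₁ M₂ u
  tt : t * t = 1
  comm : ∀ a ∈ A, ∀ b ∈ A, a * MulAut.conj t b = MulAut.conj t b * a
  inf : ∀ a ∈ A, MulAut.conj t a ∈ A → a = 1
  tS : ∀ s ∈ S₀, MulAut.conj t s ∈ S₀
  AS : A ≤ S₀
  su : ∀ s ∈ S₀, s * u = u * s
  sA : ∀ s ∈ S₀, ∀ a ∈ A, s * a * s⁻¹ ∈ A
  /-- the kernel of the action of `S₀` on the pairs `(M_i, M_j^t)` is `J` -/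
  ker : ∀ s ∈ S₀, (∀ m ∈ M₁, s * m * s⁻¹ ∈ M₁) →
    (∀ m ∈ M₁, s * MulAut.conj t m * s⁻¹ ∈ M₁.map (MulAut.conj t).toMonoidHom) →
    ∃ a ∈ A, ∃ b ∈ A, s = a * MulAut.conj t b
  ex : ∃ s ∈ S₀, (∀ m ∈ M₁, s * m * s⁻¹ ∈ M₂) ∧
    ∀ m ∈ M₁, s * MulAut.conj t m * s⁻¹ ∈ M₁.map (MulAut.conj t).toMonoidHom
  /-- (3.1), for `M₁` and `M₂` -/
  syl₁ : ∀ y : G, (∃ k : ℕ, y ^ 2 ^ k = 1) → (∀ a ∈ A, y * a = a * y) →
    (∀ a ∈ A, ∃ a' ∈ A, ∃ b' ∈ A, y * MulAut.conj t a * y⁻¹ = a' * MulAut.conj t b') →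
    (∀ m ∈ M₁, y * MulAut.conj t m * y⁻¹ ∈ M₁.map (MulAut.conj t).toMonoidHom) →
    ∃ a ∈ A, ∃ b ∈ A, y = a * MulAut.conj t b
  syl₂ : ∀ y : G, (∃ k : ℕ, y ^ 2 ^ k = 1) → (∀ a ∈ A, y * a = a * y) →
    (∀ a ∈ A, ∃ a' ∈ A, ∃ b' ∈ A, y * MulAut.conj t a * y⁻¹ = a' * MulAut.conj t b') →
    (∀ m ∈ M₂, y * MulAut.conj t m * y⁻¹ ∈ M₂.map (MulAut.conj t).toMonoidHom) →
    ∃ a ∈ A, ∃ b ∈ A, y = a * MulAut.conj t b
  /-- (W5a) -/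
  tr₁ : ∀ a ∈ M₁, ∀ b ∈ M₁, ∀ a' ∈ M₁, ∀ b' ∈ M₁, a ≠ 1 → b ≠ 1 → a' ≠ 1 → b' ≠ 1 → a ≠ b → a' ≠ b' →
    ∃ n : G, (∀ c ∈ A, n * MulAut.conj t c = MulAut.conj t c * n) ∧ (∀ m ∈ M₁, n * m * n⁻¹ ∈ M₁) ∧
      n * a * n⁻¹ = a' ∧ n * b * n⁻¹ = b'
  tr₂ : ∀ a ∈ M₂, ∀ b ∈ M₂, ∀ a' ∈ M₂, ∀ b' ∈ M₂, a ≠ 1 → b ≠ 1 → a' ≠ 1 → b' ≠ 1 → a ≠ b → a' ≠ b' →
    ∃ n : G, (∀ c ∈ A, n * MulAut.conj t c = MulAut.conj t c * n) ∧ (∀ m ∈ M₂, n * m * n⁻¹ ∈ M₂) ∧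
      n * a * n⁻¹ = a' ∧ n * b * n⁻¹ = b'
  /-- (W5b) -/
  w5b : ∀ a ∈ A, a * a = 1 → ∃ n : G, (∀ c ∈ A, n * MulAut.conj t c = MulAut.conj t c * n) ∧
    (∀ m ∈ M₁, n * m * n⁻¹ ∈ M₁) ∧ n * a * n⁻¹ ∈ M₂
  /-- (W9) -/
  w9 : ∃ k : G, (∀ c ∈ A, k * MulAut.conj t c = MulAut.conj t c * k) ∧ (∀ m ∈ M₁, k * m * k⁻¹ ∈ M₁) ∧
    (∀ m ∈ M₂, k * m * k⁻¹ ∈ M₂) ∧ k * u * k⁻¹ ≠ u

/-- The output. -/
structure Out (S₀ A M₁ M₂ D : Subgroup G) (t u x w : G) : Prop where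
  D_eq : D = A ⊔ zpowers x
  AD : A ≤ D
  DS : D ≤ S₀
  xD : x ∈ D
  xA : x ∉ A
  xx : x * x = 1
  ix : ∀ g ∈ D, g ∈ A ∨ g * x ∈ A
  xn : ∀ a ∈ A, x * a * x⁻¹ ∈ A
  sw : ∀ y ∈ D, y ∉ A → ∀ m ∈ M₁, y * m * y⁻¹ ∈ M₂
  comm : ∀ a ∈ D, ∀ b ∈ D, a * MulAut.conj t b = MulAut.conj t b * a
  inf : ∀ a ∈ D, MulAut.conj t a ∈ D → a = 1
  dec : ∀ g ∈ S₀, ∃ a ∈ D, ∃ b ∈ D, g = a * MulAut.conj t b
  weq : w = x * MulAut.conj t x
  fus' : ∀ y ∈ D, y ∉ A → y * y = 1 → ∀ b ∈ A, b * b = 1 → b ≠ 1 → ∃ k, (∀ a ∈ A, k * a = a * k) ∧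
    k * y = y * k ∧ MulAut.conj k (MulAut.conj t b) = MulAut.conj t u

variable {S₀ A M₁ M₂ : Subgroup G} {t u : G}

theorem conj_conj (tt : t * t = 1) (x : G) : MulAut.conj t (MulAut.conj t x) = x := by
  rw [← MulAut.mul_apply, ← map_mul, tt, map_one, MulAut.one_apply]

/-- transport of a normalising element -/
theorem conj_norm {K : Subgroup G} {n : G} (h : ∀ m ∈ K, n * m * n⁻¹ ∈ K) :
    ∀ x ∈ K.map (MulAut.conj t).toMonoidHom, MulAut.conj t n * x * (MulAut.conj t n)⁻¹ ∈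
      K.map (MulAut.conj t).toMonoidHom := by
  rintro _ ⟨m, hm, rfl⟩
  refine ⟨n * m * n⁻¹, h m hm, ?_⟩
  simp only [MulEquiv.toMonoidHom_eq_coe, MonoidHom.coe_coe, map_mul, map_inv]

theorem conj_cent (tt : t * t = 1) {n : G} (h : ∀ c ∈ A, n * MulAut.conj t c = MulAut.conj t c * n) :
    ∀ a ∈ A, a * MulAut.conj t n = MulAut.conj t n * a := by
  intro a ha
  have h1 := congrArg (MulAut.conj t) (h a ha)
  rw [map_mul, map_mul, conj_conj tt] at h1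
  exact h1.symm

theorem isPGroup_A (F : AData.Facts A M₁ M₂ u) : IsPGroup 2 A :=
  IsPGroup.of_card (n := 7) (by rw [F.card]; norm_num)

variable [Finite G]

/-- the structure `One` for `F = M_i ^ t` -/
theorem one_of (h : Hyp S₀ A M₁ M₂ t u) {M : Subgroup G} (hMA : M ≤ A) (card : Nat.card M = 16)
    (sq : ∀ x ∈ M, x * x = 1) (n : ∀ a ∈ A, ∀ m ∈ M, a * m * a⁻¹ ∈ M)
    (small : ∀ a ∈ A, a ∉ M → Nat.card (M ⊓ centralizer {a} : Subgroup G) ≤ 4)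
    (syl : ∀ y : G, (∃ k : ℕ, y ^ 2 ^ k = 1) → (∀ a ∈ A, y * a = a * y) →
      (∀ a ∈ A, ∃ a' ∈ A, ∃ b' ∈ A, y * MulAut.conj t a * y⁻¹ = a' * MulAut.conj t b') →
      (∀ m ∈ M, y * MulAut.conj t m * y⁻¹ ∈ M.map (MulAut.conj t).toMonoidHom) →
      ∃ a ∈ A, ∃ b ∈ A, y = a * MulAut.conj t b)
    (tr : ∀ a ∈ M, ∀ b ∈ M, ∀ a' ∈ M, ∀ b' ∈ M, a ≠ 1 → b ≠ 1 → a' ≠ 1 → b' ≠ 1 → a ≠ b → a' ≠ b' →
      ∃ n : G, (∀ c ∈ A, n * MulAut.conj t c = MulAut.conj t c * n) ∧ (∀ m ∈ M, n * m * n⁻¹ ∈ M) ∧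
        n * a * n⁻¹ = a' ∧ n * b * n⁻¹ = b') :
    One A (A.map (MulAut.conj t).toMonoidHom) (M.map (MulAut.conj t).toMonoidHom) u where
  AB := by
    rintro a ha _ ⟨b, hb, rfl⟩
    exact h.comm a ha b hb
  uA := h.F.le₁ h.F.u_mem.1
  uc := h.F.u_cent
  uu := h.F.sq₁ u h.F.u_mem.1
  FB := Subgroup.map_mono hMA
  card := by rw [card_map]; exact card
  sq := by
    rintro _ ⟨x, hx, rfl⟩
    rw [← map_mul, sq x hx, map_one]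
  Bp := (isPGroup_A h.F).map _
  BF := by
    rintro _ ⟨b, hb, rfl⟩
    exact conj_norm (n b hb)
  small := by
    rintro _ ⟨a, ha, rfl⟩ hn
    show Nat.card (M.map (MulAut.conj t).toMonoidHom ⊓ centralizer {MulAut.conj t a} : Subgroup G) ≤ 4
    rw [cent_map, card_map]
    exact small a ha (fun h => hn ((mem_map_iff (MulAut.conj t)).2 h))
  syl := by
    intro g hg h2 hnorm
    have hcomm := h.comm
    have uu : u * u = 1 := h.F.sq₁ u h.F.u_mem.1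
    have uA : u ∈ A := h.F.le₁ h.F.u_mem.1
    have hK : ∀ x ∈ A.map (MulAut.conj t).toMonoidHom, u * x = x * u := by
      rintro _ ⟨b, hb, rfl⟩
      exact hcomm u uA b hb
    obtain ⟨a, ha, b, hb, hgab⟩ := syl g h2 (fun a ha => (NN_comm hg ha).symm)
      (by
        intro a ha
        have h1 := hnorm (MulAut.conj t a) (le_sup_left (a := A.map (MulAut.conj t).toMonoidHom) ⟨a, ha, rfl⟩)
        rcases (mem_sup_u uu hK).1 h1 with ⟨b, hb, h3⟩ | ⟨b, hb, h3⟩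
        · exact ⟨1, A.one_mem, b, hb, by rw [one_mul]; exact h3.symm⟩
        · refine ⟨u, uA, b, hb, ?_⟩
          have h3' : MulAut.conj t b = g * MulAut.conj t a * g⁻¹ * u := h3
          rw [hcomm u uA b hb, h3', mul_assoc (g * MulAut.conj t a * g⁻¹), uu, mul_one])
      (by
        intro m hm
        exact NN_conj hg ⟨m, hm, rfl⟩)
    have hac : ∀ c ∈ A, a * c = c * a := by
      intro c hc
      have h1 := NN_comm hg hc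
      have h2 : (c * a) * MulAut.conj t b = (a * c) * MulAut.conj t b := by
        rw [mul_assoc, ← hgab, h1, hgab, mul_assoc, ← hcomm c hc b hb, ← mul_assoc]
      exact (mul_right_cancel h2).symm
    rcases h.F.center a ha hac with h1 | h1
    · rw [hgab, h1, one_mul]
      exact le_sup_left (a := A.map (MulAut.conj t).toMonoidHom) ⟨b, hb, rfl⟩
    · rw [hgab, h1]
      exact Subgroup.mul_mem _ (le_sup_right (a := A.map (MulAut.conj t).toMonoidHom) (mem_zpowers u))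
        (le_sup_left (a := A.map (MulAut.conj t).toMonoidHom) ⟨b, hb, rfl⟩)
  trans := by
    rintro _ ⟨a, ha, rfl⟩ _ ⟨b, hb, rfl⟩ _ ⟨a', ha', rfl⟩ _ ⟨b', hb', rfl⟩ h1 h2 h3 h4 h5 h6
    have hne : ∀ {z : G}, (MulAut.conj t).toMonoidHom z ≠ 1 → z ≠ 1 := by
      rintro z hz rfl
      exact hz (map_one _)
    obtain ⟨n, hn1, hn2, hn3, hn4⟩ := tr a ha b hb a' ha' b' hb' (hne h1) (hne h2) (hne h3) (hne h4)
      (fun h => h5 (by rw [h])) (fun h => h6 (by rw [h]))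
    refine ⟨MulAut.conj t n, mem_NN (conj_cent h.tt hn1) (conj_norm hn2), ?_, ?_⟩
    · show MulAut.conj t n * MulAut.conj t a * (MulAut.conj t n)⁻¹ = MulAut.conj t a'
      rw [← map_inv, ← map_mul, ← map_mul, hn3]
    · show MulAut.conj t n * MulAut.conj t b * (MulAut.conj t n)⁻¹ = MulAut.conj t b'
      rw [← map_inv, ← map_mul, ← map_mul, hn4]

theorem two_of (h : Hyp S₀ A M₁ M₂ t u) :
    Two A (A.map (MulAut.conj t).toMonoidHom) (M₁.map (MulAut.conj t).toMonoidHom)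
      (M₂.map (MulAut.conj t).toMonoidHom) u (MulAut.conj t u) where
  h₁ := one_of h h.F.le₁ h.F.card₁ h.F.sq₁ h.F.norm₁ h.F.small₁ h.syl₁ h.tr₁
  h₂ := one_of h h.F.le₂ h.F.card₂ h.F.sq₂ h.F.norm₂ h.F.small₂ h.syl₂ h.tr₂
  fB := facts_map (MulAut.conj t) h.F
  w9 := by
    obtain ⟨k, h1, h2, h3, h4⟩ := h.w9
    refine ⟨MulAut.conj t k, mem_NN (conj_cent h.tt h1) (conj_norm h2),
      mem_NN (conj_cent h.tt h1) (conj_norm h3), fun h5 => h4 ?_⟩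
    rw [← map_inv, ← map_mul, ← map_mul] at h5
    exact (MulAut.conj t).injective h5
  w5b := by
    rintro _ ⟨b, hb, rfl⟩ hbb
    have hbb' : b * b = 1 := by
      apply (MulAut.conj t).injective
      rw [map_mul, map_one]; exact hbb
    obtain ⟨n, h1, h2, h3⟩ := h.w5b b hb hbb'
    refine ⟨MulAut.conj t n, mem_NN (conj_cent h.tt h1) (conj_norm h2), n * b * n⁻¹, h3, ?_⟩
    show MulAut.conj t (n * b * n⁻¹) = MulAut.conj t n * MulAut.conj t b * (MulAut.conj t n)⁻¹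
    rw [map_mul, map_mul, map_inv]

end Cfsg.Agent.Wreath.DThree
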