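import Mathlib
import Cfsg.Agent.Wreath.DThree

/-!
# (D3) of the end of Theorem W (S1739): the proof
-/

set_option autoImplicit false

namespace Cfsg.Agent.Wreath.DThree

open Subgroup Cfsg.Agent.Wreath.DThreeSide Cfsg.Agent.Wreath.DThreeCent Cfsg.Agent.Wreath.DThreeFix
open Cfsg.Agent.Wreath.DThreeConj Cfsg.Agent.Wreath.ADataMap
open Cfsg.Agent.TypeM.WThreeAbs (mem_norm)

variable {G : Type*} [Group G] {S₀ A M₁ M₂ : Subgroup G} {t u : G}

/-- `s` fixes `M₁` and `M₂` -/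
def Fix (M₁ M₂ : Subgroup G) (s : G) : Prop := (∀ m ∈ M₁, s * m * s⁻¹ ∈ M₁) ∧ ∀ m ∈ M₂, s * m * s⁻¹ ∈ M₂

/-- `s` swaps `M₁` and `M₂` -/
def Swap (M₁ M₂ : Subgroup G) (s : G) : Prop := (∀ m ∈ M₁, s * m * s⁻¹ ∈ M₂) ∧ ∀ m ∈ M₂, s * m * s⁻¹ ∈ M₁

theorem Fix.mul {s s' : G} (h : Fix M₁ M₂ s) (h' : Fix M₁ M₂ s') : Fix M₁ M₂ (s * s') := by
  constructor
  · intro m hm
    have e : s * s' * m * (s * s')⁻¹ = s * (s' * m * s'⁻¹) * s⁻¹ := by group
    rw [e]; exact h.1 _ (h'.1 m hm)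
  · intro m hm
    have e : s * s' * m * (s * s')⁻¹ = s * (s' * m * s'⁻¹) * s⁻¹ := by group
    rw [e]; exact h.2 _ (h'.2 m hm)

theorem Fix.mul_swap {s s' : G} (h : Fix M₁ M₂ s) (h' : Swap M₁ M₂ s') : Swap M₁ M₂ (s * s') := by
  constructor
  · intro m hm
    have e : s * s' * m * (s * s')⁻¹ = s * (s' * m * s'⁻¹) * s⁻¹ := by group
    rw [e]; exact h.2 _ (h'.1 m hm)
  · intro m hm
    have e : s * s' * m * (s * s')⁻¹ = s * (s' * m * s'⁻¹) * s⁻¹ := by group
    rw [e]; exact h.1 _ (h'.2 m hm)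

theorem Swap.mul_fix {s s' : G} (h : Swap M₁ M₂ s) (h' : Fix M₁ M₂ s') : Swap M₁ M₂ (s * s') := by
  constructor
  · intro m hm
    have e : s * s' * m * (s * s')⁻¹ = s * (s' * m * s'⁻¹) * s⁻¹ := by group
    rw [e]; exact h.1 _ (h'.1 m hm)
  · intro m hm
    have e : s * s' * m * (s * s')⁻¹ = s * (s' * m * s'⁻¹) * s⁻¹ := by group
    rw [e]; exact h.2 _ (h'.2 m hm)

theorem Swap.mul {s s' : G} (h : Swap M₁ M₂ s) (h' : Swap M₁ M₂ s') : Fix M₁ M₂ (s * s') := by
  constructor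
  · intro m hm
    have e : s * s' * m * (s * s')⁻¹ = s * (s' * m * s'⁻¹) * s⁻¹ := by group
    rw [e]; exact h.2 _ (h'.1 m hm)
  · intro m hm
    have e : s * s' * m * (s * s')⁻¹ = s * (s' * m * s'⁻¹) * s⁻¹ := by group
    rw [e]; exact h.1 _ (h'.2 m hm)

theorem Fix.map (e : G ≃* G) {s : G} (h : Fix M₁ M₂ s) :
    Fix (M₁.map e.toMonoidHom) (M₂.map e.toMonoidHom) (e s) := by
  constructor
  · rintro _ ⟨m, hm, rfl⟩
    show e s * e m * (e s)⁻¹ ∈ _
    rw [← map_inv, ← map_mul, ← map_mul]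
    exact (mem_map_iff e).2 (h.1 m hm)
  · rintro _ ⟨m, hm, rfl⟩
    show e s * e m * (e s)⁻¹ ∈ _
    rw [← map_inv, ← map_mul, ← map_mul]
    exact (mem_map_iff e).2 (h.2 m hm)

theorem Swap.map (e : G ≃* G) {s : G} (h : Swap M₁ M₂ s) :
    Swap (M₁.map e.toMonoidHom) (M₂.map e.toMonoidHom) (e s) := by
  constructor
  · rintro _ ⟨m, hm, rfl⟩
    show e s * e m * (e s)⁻¹ ∈ _
    rw [← map_inv, ← map_mul, ← map_mul]
    exact (mem_map_iff e).2 (h.1 m hm)
  · rintro _ ⟨m, hm, rfl⟩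
    show e s * e m * (e s)⁻¹ ∈ _
    rw [← map_inv, ← map_mul, ← map_mul]
    exact (mem_map_iff e).2 (h.2 m hm)

theorem fix_of_comm (hM₁ : M₁ ≤ A) (hM₂ : M₂ ≤ A) {s : G} (h : ∀ a ∈ A, s * a = a * s) : Fix M₁ M₂ s := by
  constructor
  · intro m hm
    rw [h m (hM₁ hm), mul_inv_cancel_right]; exact hm
  · intro m hm
    rw [h m (hM₂ hm), mul_inv_cancel_right]; exact hm

section dich

/-- an element normalising `A` fixes or swaps `M₁` and `M₂` -/
theorem dich_of (F : AData.Facts A M₁ M₂ u) {s : G} (hs : ∀ a ∈ A, s * a * s⁻¹ ∈ A) : Fix M₁ M₂ s ∨ Swap M₁ M₂ s := by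
  have key : ∀ M : Subgroup G, M ≤ A → Nat.card M = 16 → (∀ x ∈ M, x * x = 1) →
      M.map (MulAut.conj s).toMonoidHom = M₁ ∨ M.map (MulAut.conj s).toMonoidHom = M₂ := by
    intro M hMA hc hsq
    refine F.only _ ?_ ?_ ?_
    · rintro _ ⟨m, hm, rfl⟩
      exact hs m (hMA hm)
    · rintro _ ⟨m, hm, rfl⟩
      rw [← map_mul, hsq m hm, map_one]
    · rw [card_map, hc]
  have mem : ∀ {M N : Subgroup G}, M.map (MulAut.conj s).toMonoidHom = N → ∀ m ∈ M, s * m * s⁻¹ ∈ N := by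
    rintro M N h m hm
    rw [← h]; exact ⟨m, hm, rfl⟩
  have h1 := key M₁ F.le₁ F.card₁ F.sq₁
  have h2 := key M₂ F.le₂ F.card₂ F.sq₂
  have hne : ∀ {N : Subgroup G}, M₁.map (MulAut.conj s).toMonoidHom = N → M₂.map (MulAut.conj s).toMonoidHom = N →
      False := fun h1 h2 => F.ne (Subgroup.map_injective (MulAut.conj s).injective (h1.trans h2.symm))
  rcases h1 with h1 | h1 <;> rcases h2 with h2 | h2
  · exact (hne h1 h2).elim
  · exact Or.inl ⟨mem h1, mem h2⟩
  · exact Or.inr ⟨mem h1, mem h2⟩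
  · exact (hne h1 h2).elim

variable [Finite G]

/-- not both -/
theorem not_fix_swap (F : AData.Facts A M₁ M₂ u) {s : G} (h : Fix M₁ M₂ s) (h' : ∀ m ∈ M₁, s * m * s⁻¹ ∈ M₂) :
    False := by
  have e1 : M₁.map (MulAut.conj s).toMonoidHom ≤ M₁ := by
    rintro _ ⟨m, hm, rfl⟩
    exact h.1 m hm
  have e2 : M₁.map (MulAut.conj s).toMonoidHom ≤ M₂ := by
    rintro _ ⟨m, hm, rfl⟩
    exact h' m hm
  have c : Nat.card (M₁.map (MulAut.conj s).toMonoidHom) = 16 := by rw [card_map, F.card₁]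
  have e3 : M₁.map (MulAut.conj s).toMonoidHom = M₁ := eq_of_le_of_card_ge e1 (by rw [c, F.card₁])
  have e4 : M₁.map (MulAut.conj s).toMonoidHom = M₂ := eq_of_le_of_card_ge e2 (by rw [c, F.card₂])
  exact F.ne (e3.symm.trans e4)

end dich

namespace Hyp

section

variable (h : Hyp S₀ A M₁ M₂ t u)

include h

theorem uA : u ∈ A := h.F.le₁ h.F.u_mem.1

theorem uu : u * u = 1 := h.F.sq₁ u h.F.u_mem.1

theorem vv : MulAut.conj t u * MulAut.conj t u = 1 := by rw [← map_mul, h.uu, map_one]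

theorem uv : u * MulAut.conj t u = MulAut.conj t u * u := h.comm u h.uA u h.uA

theorem tv : MulAut.conj t (MulAut.conj t u) = u := conj_conj h.tt u

theorem sv {s : G} (hs : s ∈ S₀) : s * MulAut.conj t u = MulAut.conj t u * s := by
  have h1 := congrArg (MulAut.conj t) (h.su _ (h.tS s hs))
  rw [map_mul, map_mul, conj_conj h.tt] at h1
  exact h1

theorem v_not : MulAut.conj t u ∉ A := fun h1 => h.F.u_ne (h.inf u h.uA h1)

theorem v_ne : MulAut.conj t u ≠ 1 := fun h1 => h.F.u_ne ((MulAut.conj t).injective (h1.trans (map_one _).symm))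

theorem BS {b : G} (hb : b ∈ A) : MulAut.conj t b ∈ S₀ := h.tS b (h.AS hb)

theorem sB {s : G} (hs : s ∈ S₀) : ∀ b ∈ A.map (MulAut.conj t).toMonoidHom, s * b * s⁻¹ ∈
    A.map (MulAut.conj t).toMonoidHom := by
  have h1 := conj_norm (t := t) (h.sA _ (h.tS s hs))
  rw [conj_conj h.tt] at h1
  exact h1

theorem dich {s : G} (hs : s ∈ S₀) : Fix M₁ M₂ s ∨ Swap M₁ M₂ s := dich_of h.F (h.sA s hs)

theorem dich' {s : G} (hs : s ∈ S₀) :
    Fix (M₁.map (MulAut.conj t).toMonoidHom) (M₂.map (MulAut.conj t).toMonoidHom) s ∨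
    Swap (M₁.map (MulAut.conj t).toMonoidHom) (M₂.map (MulAut.conj t).toMonoidHom) s := by
  rcases h.dich (h.tS s hs) with h1 | h1
  · left
    have := h1.map (MulAut.conj t)
    rwa [conj_conj h.tt] at this
  · right
    have := h1.map (MulAut.conj t)
    rwa [conj_conj h.tt] at this

theorem ker' {s : G} (hs : s ∈ S₀) (h1 : Fix M₁ M₂ s)
    (h2 : Fix (M₁.map (MulAut.conj t).toMonoidHom) (M₂.map (MulAut.conj t).toMonoidHom) s) :
    ∃ a ∈ A, ∃ b ∈ A, s = a * MulAut.conj t b :=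
  h.ker s hs h1.1 (fun m hm => h2.1 _ ⟨m, hm, rfl⟩)

/-- **[cap]** -/
theorem cap {s : G} (hs : s ∈ S₀) (h1 : ∀ a ∈ A, s * a = a * s)
    (h2 : ∀ b ∈ A, s * MulAut.conj t b = MulAut.conj t b * s) : InR u (MulAut.conj t u) s := by
  have h3 : ∀ b ∈ A.map (MulAut.conj t).toMonoidHom, s * b = b * s := by
    rintro _ ⟨b, hb, rfl⟩
    exact h2 b hb
  obtain ⟨a, ha, b, hb, rfl⟩ := h.ker' hs (fix_of_comm h.F.le₁ h.F.le₂ h1)
    (fix_of_comm (Subgroup.map_mono h.F.le₁) (Subgroup.map_mono h.F.le₂) h3)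
  have ea : ∀ c ∈ A, a * c = c * a := by
    intro c hc
    have e1 := h1 c hc
    have e2 : (a * c) * MulAut.conj t b = (c * a) * MulAut.conj t b := by
      rw [mul_assoc, h.comm c hc b hb, ← mul_assoc, e1, mul_assoc]
    exact mul_right_cancel e2
  have eb : ∀ c ∈ A, b * c = c * b := by
    intro c hc
    have e1 := h2 c hc
    have e2 : a * (MulAut.conj t b * MulAut.conj t c) = a * (MulAut.conj t c * MulAut.conj t b) := by
      rw [← mul_assoc, e1, ← mul_assoc, ← mul_assoc, h.comm a ha c hc]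
    have e3 := mul_left_cancel e2
    rw [← map_mul, ← map_mul] at e3
    exact (MulAut.conj t).injective e3
  unfold InR
  rcases h.F.center a ha ea with rfl | rfl <;> rcases h.F.center b hb eb with rfl | rfl
  · simp
  · simp
  · simp
  · simp

/-- an element of `R₀` fixed by `t` -/
theorem fixR {r : G} (h1 : InR u (MulAut.conj t u) r) (h2 : MulAut.conj t r = r) : r = 1 ∨ r = u * MulAut.conj t u := by
  have hne : u ≠ MulAut.conj t u := fun h3 => h.v_not (h3 ▸ h.uA)
  rcases h1 with h1 | h1 | h1 | h1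
  · exact Or.inl h1
  · rw [h1] at h2; exact absurd h2.symm hne
  · rw [h1, h.tv] at h2; exact absurd h2 hne
  · exact Or.inr h1

omit h in
/-- commuting with `B` is commuting with all `conj t b` -/
theorem commB {s : G} (h1 : ∀ b ∈ A, s * MulAut.conj t b = MulAut.conj t b * s) :
    ∀ b ∈ A.map (MulAut.conj t).toMonoidHom, s * b = b * s := by
  rintro _ ⟨b, hb, rfl⟩
  exact h1 b hb

/-- transport by `t`: commuting with `B` becomes commuting with `A` -/
theorem tcomm {s : G} (h1 : ∀ b ∈ A, s * MulAut.conj t b = MulAut.conj t b * s) :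
    ∀ a ∈ A, MulAut.conj t s * a = a * MulAut.conj t s := by
  intro a ha
  have h2 := congrArg (MulAut.conj t) (h1 a ha)
  rwa [map_mul, map_mul, conj_conj h.tt] at h2

end

section

variable [Finite G] (h : Hyp S₀ A M₁ M₂ t u)

include h

/-- (3.2) -/
theorem exists_x₀ : ∃ x ∈ S₀, Swap M₁ M₂ x ∧ ∀ b ∈ A, x * MulAut.conj t b = MulAut.conj t b * x := by
  obtain ⟨s, hs, h1, h2⟩ := h.ex
  have hsw : Swap M₁ M₂ s := by
    rcases h.dich hs with h3 | h3
    · exact (not_fix_swap h.F h3 h1).elim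
    · exact h3
  have hfx : Fix (M₁.map (MulAut.conj t).toMonoidHom) (M₂.map (MulAut.conj t).toMonoidHom) s := by
    rcases h.dich' hs with h3 | h3
    · exact h3
    · exfalso
      have hF := facts_map (MulAut.conj t) h.F
      have h4 : M₁.map (MulAut.conj t).toMonoidHom = M₂.map (MulAut.conj t).toMonoidHom := by
        have e1 : (M₁.map (MulAut.conj t).toMonoidHom).map (MulAut.conj s).toMonoidHom ≤
            M₁.map (MulAut.conj t).toMonoidHom := by
          rintro _ ⟨_, ⟨m, hm, rfl⟩, rfl⟩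
          exact h2 m hm
        have e2 : (M₁.map (MulAut.conj t).toMonoidHom).map (MulAut.conj s).toMonoidHom ≤
            M₂.map (MulAut.conj t).toMonoidHom := by
          rintro _ ⟨m, hm, rfl⟩
          exact h3.1 m hm
        have c : Nat.card ((M₁.map (MulAut.conj t).toMonoidHom).map (MulAut.conj s).toMonoidHom) = 16 := by
          rw [card_map, hF.card₁]
        have e3 := eq_of_le_of_card_ge e1 (by rw [c, hF.card₁])
        have e4 := eq_of_le_of_card_ge e2 (by rw [c, hF.card₂])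
        exact e3.symm.trans e4
      exact hF.ne h4
  obtain ⟨j₁, hj₁, j₂, hj₂, hc⟩ := exists_centralising (two_of h) (s := s)
    (by
      intro a ha
      have := h.sA _ (S₀.inv_mem hs) a ha
      rwa [inv_inv] at this)
    (h.sB hs) hfx.1 hfx.2
  obtain ⟨b₁, hb₁, rfl⟩ := hj₁
  obtain ⟨b₂, hb₂, rfl⟩ := hj₂
  refine ⟨MulAut.conj t b₁ * s * MulAut.conj t b₂, S₀.mul_mem (S₀.mul_mem (h.BS hb₁) hs) (h.BS hb₂), ?_, ?_⟩
  · have f₁ : Fix M₁ M₂ (MulAut.conj t b₁) := fix_of_comm h.F.le₁ h.F.le₂ fun a ha => (h.comm a ha b₁ hb₁).symm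
    have f₂ : Fix M₁ M₂ (MulAut.conj t b₂) := fix_of_comm h.F.le₁ h.F.le₂ fun a ha => (h.comm a ha b₂ hb₂).symm
    exact (f₁.mul_swap hsw).mul_fix f₂
  · intro b hb
    exact hc _ ⟨b, hb, rfl⟩

/-- the first approximation -/
theorem exists_x₁ {w : G} (hw : w ∈ S₀) (tw : MulAut.conj t w = w)
    (wJ : ¬ ∃ a ∈ A, ∃ b ∈ A, w = a * MulAut.conj t b) :
    ∃ x ∈ S₀, Swap M₁ M₂ x ∧ (∀ b ∈ A, x * MulAut.conj t b = MulAut.conj t b * x) ∧
      ∀ a ∈ A, (x⁻¹ * w) * a = a * (x⁻¹ * w) := by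
  obtain ⟨x₀, hx₀, sw₀, c₀⟩ := h.exists_x₀
  have hwsw : Swap M₁ M₂ w := by
    rcases h.dich hw with h1 | h1
    · exfalso
      have h2 := h1.map (MulAut.conj t)
      rw [tw] at h2
      exact wJ (h.ker' hw h1 h2)
    · exact h1
  have hwsw' : Swap (M₁.map (MulAut.conj t).toMonoidHom) (M₂.map (MulAut.conj t).toMonoidHom) w := by
    have h2 := hwsw.map (MulAut.conj t)
    rwa [tw] at h2
  set g₀ := MulAut.conj t x₀ with hg₀
  have hg₀S : g₀ ∈ S₀ := h.tS _ hx₀
  have cg₀ : ∀ a ∈ A, g₀ * a = a * g₀ := h.tcomm c₀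
  have fx₀ : Fix (M₁.map (MulAut.conj t).toMonoidHom) (M₂.map (MulAut.conj t).toMonoidHom) x₀ :=
    fix_of_comm (Subgroup.map_mono h.F.le₁) (Subgroup.map_mono h.F.le₂) (commB c₀)
  have fg₀ : Fix M₁ M₂ g₀ := fix_of_comm h.F.le₁ h.F.le₂ cg₀
  have sg₀ : Swap (M₁.map (MulAut.conj t).toMonoidHom) (M₂.map (MulAut.conj t).toMonoidHom) g₀ :=
    sw₀.map (MulAut.conj t)
  -- `w = a τb (x₀ g₀)⁻¹ ⋯`
  have hxi : x₀⁻¹ ∈ S₀ := S₀.inv_mem hx₀
  obtain ⟨a, ha, b, hb, hab⟩ := h.ker' (S₀.mul_mem (S₀.mul_mem hw hg₀S) hx₀)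
    ((hwsw.mul_fix fg₀).mul sw₀) ((hwsw'.mul sg₀).mul fx₀)
  -- `w g₀ x₀ = a τb`, so `w = a τb x₀⁻¹ g₀⁻¹ = (a x₀⁻¹) (τb g₀⁻¹)`
  have hxic : ∀ b ∈ A, x₀⁻¹ * MulAut.conj t b = MulAut.conj t b * x₀⁻¹ := by
    intro b hb
    have e : Commute x₀ (MulAut.conj t b) := c₀ b hb
    exact e.inv_left.eq
  have hw' : w = (a * x₀⁻¹) * (MulAut.conj t b * g₀⁻¹) := by
    calc w = (w * g₀ * x₀) * x₀⁻¹ * g₀⁻¹ := by group
      _ = a * (MulAut.conj t b * x₀⁻¹) * g₀⁻¹ := by rw [hab]; group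
      _ = (a * x₀⁻¹) * (MulAut.conj t b * g₀⁻¹) := by rw [← hxic b hb]; group
  have hxsw : Swap M₁ M₂ x₀⁻¹ := by
    rcases h.dich hxi with h1 | h1
    · exfalso
      have h2 := sw₀.mul_fix h1
      rw [mul_inv_cancel] at h2
      exact not_fix_swap h.F (s := 1) (by constructor <;> simp) h2.1
    · exact h1
  refine ⟨a * x₀⁻¹, S₀.mul_mem (h.AS ha) hxi, ?_, ?_, ?_⟩
  · have f : Fix M₁ M₂ a := ⟨h.F.norm₁ a ha, h.F.norm₂ a ha⟩
    exact f.mul_swap hxsw
  · intro b hb
    rw [mul_assoc, hxic b hb, ← mul_assoc, h.comm a ha b hb, mul_assoc]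
  · have e : (a * x₀⁻¹)⁻¹ * w = MulAut.conj t b * g₀⁻¹ := by rw [hw']; group
    rw [e]
    intro c hc
    have e1 : Commute (MulAut.conj t b) c := (h.comm c hc b hb).symm
    have e2 : Commute g₀ c := cg₀ c hc
    exact (e1.mul_left e2.inv_left).eq

/-- **(3.3)-(3.6)** -/
theorem exists_x {w : G} (hw : w ∈ S₀) (tw : MulAut.conj t w = w)
    (wJ : ¬ ∃ a ∈ A, ∃ b ∈ A, w = a * MulAut.conj t b) (ww : w * w = 1) :
    ∃ x ∈ S₀, Swap M₁ M₂ x ∧ (∀ b ∈ A, x * MulAut.conj t b = MulAut.conj t b * x) ∧ x * x = 1 ∧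
      x * MulAut.conj t x = MulAut.conj t x * x ∧ w = x * MulAut.conj t x ∧
      Odd' x (NN A (M₁.map (MulAut.conj t).toMonoidHom)) ∧ Odd' x (NN A (M₂.map (MulAut.conj t).toMonoidHom)) := by
  obtain ⟨x₁, hx₁, sw₁, c₁, cw₁⟩ := h.exists_x₁ hw tw wJ
  have T := two_of h
  set v := MulAut.conj t u with hv
  have huu := h.uu
  have hvv : v * v = 1 := h.vv
  have huv : u * v = v * u := h.uv
  have huS : u ∈ S₀ := h.AS h.uA
  have hvS : v ∈ S₀ := h.BS h.uA
  -- `R₀ ≤ S₀` is central in `S₀`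
  have RS : ∀ r, InR u v r → r ∈ S₀ := by
    rintro r (h1 | h1 | h1 | h1)
    · rw [h1]; exact S₀.one_mem
    · rw [h1]; exact huS
    · rw [h1]; exact hvS
    · rw [h1]; exact S₀.mul_mem huS hvS
  have RC : ∀ r, InR u v r → ∀ s ∈ S₀, Commute s r := by
    rintro r (h1 | h1 | h1 | h1) s hs
    · rw [h1]; exact Commute.one_right s
    · rw [h1]; exact h.su s hs
    · rw [h1]; exact h.sv hs
    · rw [h1]
      have e1 : Commute s u := h.su s hs
      have e2 : Commute s v := h.sv hs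
      exact e1.mul_right e2
  have RR : ∀ r, InR u v r → r * r = 1 := by
    rintro r (h1 | h1 | h1 | h1)
    · rw [h1, one_mul]
    · rw [h1, huu]
    · rw [h1, hvv]
    · rw [h1]
      calc u * v * (u * v) = u * (v * u) * v := by group
        _ = (u * u) * (v * v) := by rw [← huv]; group
        _ = 1 := by rw [huu, hvv, one_mul]
  have hx₁A : ∀ a ∈ A, x₁ * a * x₁⁻¹ ∈ A := h.sA x₁ hx₁
  -- `x₁² ∈ R₀`
  have hx₁R : InR u v (x₁ * x₁) := by
    refine h.cap (S₀.mul_mem hx₁ hx₁) ?_ ?_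
    · -- `w` acts on `A` as `x₁`
      have hact : ∀ a ∈ A, w * a * w⁻¹ = x₁ * a * x₁⁻¹ := by
        intro a ha
        have e1 := cw₁ a ha
        calc w * a * w⁻¹ = x₁ * ((x₁⁻¹ * w) * a) * (x₁⁻¹ * w)⁻¹ * x₁⁻¹ := by group
          _ = x₁ * a * x₁⁻¹ := by rw [e1]; group
      intro a ha
      have e1 : (x₁ * x₁) * a * (x₁ * x₁)⁻¹ = a := by
        calc (x₁ * x₁) * a * (x₁ * x₁)⁻¹ = x₁ * (x₁ * a * x₁⁻¹) * x₁⁻¹ := by group
          _ = w * (w * a * w⁻¹) * w⁻¹ := by rw [← hact a ha, hact (w * a * w⁻¹) (by rw [hact a ha]; exact hx₁A a ha)]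
          _ = (w * w) * a * (w * w)⁻¹ := by group
          _ = a := by rw [ww]; group
      exact mul_inv_eq_iff_eq_mul.1 e1
    · intro b hb
      have e : Commute x₁ (MulAut.conj t b) := c₁ b hb
      exact (e.mul_left e).eq
  -- correction by `f ∈ R₀`
  obtain ⟨f, hf, hO₁, hO₂⟩ := exists_star T hx₁A (commB c₁) (h.su x₁ hx₁)
  have hfS := RS f hf
  obtain ⟨x, hx⟩ : ∃ x, x = x₁ * f := ⟨_, rfl⟩
  rw [← hx] at hO₁ hO₂
  have hxS : x ∈ S₀ := by rw [hx]; exact S₀.mul_mem hx₁ hfS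
  have fff : Fix M₁ M₂ f := fix_of_comm h.F.le₁ h.F.le₂ fun a ha => (RC f hf a (h.AS ha)).eq.symm
  have hxsw : Swap M₁ M₂ x := by rw [hx]; exact sw₁.mul_fix fff
  have hxB : ∀ b ∈ A, x * MulAut.conj t b = MulAut.conj t b * x := by
    intro b hb
    have e : Commute x₁ (MulAut.conj t b) := c₁ b hb
    have e' : Commute f (MulAut.conj t b) := (RC f hf _ (h.BS hb)).symm
    rw [hx]
    exact (e.mul_left e').eq
  have hxA : ∀ a ∈ A, x * a * x⁻¹ ∈ A := h.sA x hxS
  have hxxR : InR u v (x * x) := by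
    have e : x * x = (x₁ * x₁) * (f * f) := by
      have := (RC f hf x₁ hx₁).eq
      calc x * x = x₁ * (f * x₁) * f := by rw [hx]; group
        _ = (x₁ * x₁) * (f * f) := by rw [← this]; group
    rw [e, RR f hf, mul_one]; exact hx₁R
  have hxx : x * x = 1 ∨ x * x = u := sq_star T hxA (commB hxB) hxxR hO₁
  -- `g = τ x`
  obtain ⟨g, hg⟩ : ∃ g, g = MulAut.conj t x := ⟨_, rfl⟩
  have hgS : g ∈ S₀ := by rw [hg]; exact h.tS x hxS
  have tg : MulAut.conj t g = x := by rw [hg]; exact conj_conj h.tt x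
  have hgA : ∀ a ∈ A, g * a = a * g := by rw [hg]; exact h.tcomm hxB
  have hgF : Swap (M₁.map (MulAut.conj t).toMonoidHom) (M₂.map (MulAut.conj t).toMonoidHom) g := by
    rw [hg]; exact hxsw.map (MulAut.conj t)
  -- `r = [x, g]`
  have hrR : InR u v (x⁻¹ * (g * x * g⁻¹)) := by
    refine h.cap (S₀.mul_mem (S₀.inv_mem hxS) (S₀.mul_mem (S₀.mul_mem hgS hxS) (S₀.inv_mem hgS))) ?_ ?_
    · intro a ha
      have e1 := hgA a ha
      have e2 := hgA _ (hxA a ha)
      have e3 : g⁻¹ * a = a * g⁻¹ := by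
        have : Commute g a := e1
        exact this.inv_left.eq
      calc x⁻¹ * (g * x * g⁻¹) * a = x⁻¹ * (g * x * (g⁻¹ * a)) := by group
        _ = x⁻¹ * (g * (x * a * x⁻¹) * x * g⁻¹) := by rw [e3]; group
        _ = x⁻¹ * ((x * a * x⁻¹) * g * x * g⁻¹) := by rw [e2]
        _ = a * (x⁻¹ * (g * x * g⁻¹)) := by group
    · intro b hb
      have hgB : g⁻¹ * MulAut.conj t b * g ∈ A.map (MulAut.conj t).toMonoidHom := by
        have := h.sB (S₀.inv_mem hgS) _ ⟨b, hb, rfl⟩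
        rwa [inv_inv] at this
      have e1 := commB hxB _ hgB
      have e2 := hxB b hb
      calc x⁻¹ * (g * x * g⁻¹) * MulAut.conj t b = x⁻¹ * g * (x * (g⁻¹ * MulAut.conj t b * g)) * g⁻¹ := by group
        _ = x⁻¹ * (MulAut.conj t b * x) * x⁻¹ * g * x * g⁻¹ := by rw [e1]; group
        _ = MulAut.conj t b * (x⁻¹ * (g * x * g⁻¹)) := by rw [← e2]; group
  have hgx : g * x = x * g := by
    obtain ⟨k, hk₁, hk₂, hkv⟩ := T.w9
    set r := x⁻¹ * (g * x * g⁻¹) with hr
    have hxr : x * r = g * x * g⁻¹ := by rw [hr]; group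
    obtain ⟨m, hm, hm1⟩ := hO₁
    have hk' : g⁻¹ * k * g ∈ NN A (M₁.map (MulAut.conj t).toMonoidHom) := by
      refine mem_NN ?_ ?_
      · intro a ha
        have e1 : Commute g a := hgA a ha
        have e2 : Commute k a := (NN_comm hk₁ ha).symm
        exact ((e1.inv_left.mul_left e2).mul_left e1).eq.symm
      · intro y hy
        have e : g⁻¹ * k * g * y * (g⁻¹ * k * g)⁻¹ = g⁻¹ * (k * (g * y * g⁻¹) * k⁻¹) * g := by group
        rw [e]
        have hgsw : Swap (M₁.map (MulAut.conj t).toMonoidHom) (M₂.map (MulAut.conj t).toMonoidHom) g⁻¹ := by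
          rcases h.dich' (S₀.inv_mem hgS) with h1 | h1
          · exfalso
            have h2 := hgF.mul_fix h1
            rw [mul_inv_cancel] at h2
            exact not_fix_swap T.fB (s := 1) (by constructor <;> simp) h2.1
          · exact h1
        have := hgsw.2 _ (NN_conj hk₂ (hgF.1 y hy))
        rwa [inv_inv] at this
    have h2 : ((x * r)⁻¹ * (k * (x * r) * k⁻¹)) ^ m = 1 := by
      rw [hxr]
      have e : (g * x * g⁻¹)⁻¹ * (k * (g * x * g⁻¹) * k⁻¹) =
          g * (x⁻¹ * ((g⁻¹ * k * g) * x * (g⁻¹ * k * g)⁻¹)) * g⁻¹ := by group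
      rw [e, conj_pow, hm1 _ hk', mul_one, mul_inv_cancel]
    have hr1u := compare T (commB hxB) (h.su x hxS) hk₁ hkv hrR hm hm (hm1 k hk₁) h2
    -- `τ r = r`
    have e1 : g * x = x * g * r := by
      have e0 := (RC r hrR g hgS).eq
      calc g * x = (x * r) * g := by rw [hxr]; group
        _ = x * g * r := by rw [mul_assoc, ← e0, mul_assoc]
    have e2 : x * g = g * x * MulAut.conj t r := by
      have := congrArg (MulAut.conj t) e1
      rwa [map_mul, map_mul, map_mul, tg, ← hg] at this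
    have e3 : r * MulAut.conj t r = 1 := by
      have e4 : x * g * (r * MulAut.conj t r) = x * g := by
        rw [← mul_assoc, ← e1]; exact e2.symm
      exact mul_left_cancel (e4.trans (mul_one _).symm)
    rcases hr1u with h3 | h3
    · rw [e1, h3, mul_one]
    · exfalso
      rw [h3] at e3
      have e5 : u = v := by
        calc u = u * v * v := by rw [mul_assoc, hvv, mul_one]
          _ = v := by
            have e6 : u * v = 1 := e3
            rw [e6, one_mul]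
      refine h.v_not ?_
      rw [← hv, ← e5]
      exact h.uA
  -- `ρ`
  have hρR : InR u v ((x * g)⁻¹ * w) := by
    refine h.cap (S₀.mul_mem (S₀.inv_mem (S₀.mul_mem hxS hgS)) hw) ?_ ?_
    · -- `x⁻¹ w` centralises `A`
      intro a ha
      have e1 : Commute (x⁻¹ * w) a := by
        have e2 : x⁻¹ * w = f⁻¹ * (x₁⁻¹ * w) := by rw [hx]; group
        have e3 : Commute f a := (RC f hf a (h.AS ha)).symm
        have e4 : Commute (x₁⁻¹ * w) a := cw₁ a ha
        rw [e2]
        exact e3.inv_left.mul_left e4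
      have e2 : Commute g a := hgA a ha
      have e3 : (x * g)⁻¹ * w = g⁻¹ * (x⁻¹ * w) := by group
      rw [e3]
      exact (e2.inv_left.mul_left e1).eq
    · -- `g⁻¹ w` centralises `B`
      have e5 : ∀ a ∈ A, (x⁻¹ * w) * a = a * (x⁻¹ * w) := by
        intro a ha
        have e2 : x⁻¹ * w = f⁻¹ * (x₁⁻¹ * w) := by rw [hx]; group
        have e3 : Commute f a := (RC f hf a (h.AS ha)).symm
        have e4 : Commute (x₁⁻¹ * w) a := cw₁ a ha
        rw [e2]
        exact (e3.inv_left.mul_left e4).eq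
      intro b hb
      have e1 : Commute (g⁻¹ * w) (MulAut.conj t b) := by
        have := congrArg (MulAut.conj t) (e5 b hb)
        have e6 : MulAut.conj t (x⁻¹ * w) = g⁻¹ * w := by rw [map_mul, map_inv, ← hg, tw]
        rwa [map_mul (MulAut.conj t) (x⁻¹ * w) b, map_mul (MulAut.conj t) b, e6] at this
      have e2 : Commute x (MulAut.conj t b) := hxB b hb
      have e3 : (x * g)⁻¹ * w = x⁻¹ * (g⁻¹ * w) := by rw [← hgx]; group
      rw [e3]
      exact (e2.inv_left.mul_left e1).eq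
  obtain ⟨ρ, hρ⟩ : ∃ ρ, ρ = (x * g)⁻¹ * w := ⟨_, rfl⟩
  rw [← hρ] at hρR
  have hwρ : w = x * g * ρ := by rw [hρ]; group
  have tρ : MulAut.conj t ρ = ρ := by
    rw [hρ, map_mul, map_inv, map_mul, tg, tw, ← hg, hgx]
  have gg : g * g = MulAut.conj t (x * x) := by rw [hg, map_mul]
  have xx1 : x * x = 1 := by
    rcases hxx with h1 | h1
    · exact h1
    · exfalso
      have e1 : w * w = (x * x) * (g * g) * (ρ * ρ) := by
        have c1 : Commute (x * g) ρ := RC ρ hρR _ (S₀.mul_mem hxS hgS)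
        calc w * w = (x * g) * (ρ * (x * g)) * ρ := by rw [hwρ]; group
          _ = (x * g) * (x * g) * (ρ * ρ) := by rw [← c1.eq]; group
          _ = x * (g * x) * g * (ρ * ρ) := by group
          _ = (x * x) * (g * g) * (ρ * ρ) := by rw [hgx]; group
      rw [ww, RR ρ hρR, mul_one, gg, h1, ← hv] at e1
      have e5 : u = v := by
        calc u = u * v * v := by rw [mul_assoc, hvv, mul_one]
          _ = v := by rw [← e1, one_mul]
      refine h.v_not ?_
      rw [← hv, ← e5]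
      exact h.uA
  rcases h.fixR hρR tρ with h1 | h1
  · refine ⟨x, hxS, hxsw, hxB, xx1, ?_, ?_, hO₁, hO₂⟩
    · rw [← hg]; exact hgx.symm
    · rw [← hg, hwρ, h1, mul_one]
  · -- `x u`
    have hxu : x * u = u * x := h.su x hxS
    have e0 : (x * u) * u = x := by rw [mul_assoc, huu, mul_one]
    have e1 : MulAut.conj t (x * u) = g * v := by rw [map_mul, ← hg]
    have hgu : g * u = u * g := h.su g hgS
    have hgv : g * v = v * g := h.sv hgS
    have hxv : x * v = v * x := h.sv hxS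
    refine ⟨x * u, S₀.mul_mem hxS huS, hxsw.mul_fix ?_, ?_, ?_, ?_, ?_, ?_, ?_⟩
    · exact fix_of_comm h.F.le₁ h.F.le₂ fun a ha => (h.F.u_cent a ha).symm
    · intro b hb
      have c1 : Commute x (MulAut.conj t b) := hxB b hb
      have c2 : Commute u (MulAut.conj t b) := h.comm u h.uA b hb
      exact (c1.mul_left c2).eq
    · calc x * u * (x * u) = x * (u * x) * u := by group
        _ = (x * x) * (u * u) := by rw [← hxu]; group
        _ = 1 := by rw [xx1, huu, one_mul]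
    · rw [e1]
      have c1 : Commute x g := hgx.symm
      have c2 : Commute x v := hxv
      have c3 : Commute u g := hgu.symm
      have c4 : Commute u v := huv
      exact ((c1.mul_right c2).mul_left (c3.mul_right c4)).eq
    · rw [e1, hwρ, h1]
      calc x * g * (u * v) = x * (g * u) * v := by group
        _ = x * u * (g * v) := by rw [hgu]; group
    · refine odd'_u (x := x * u) ?_ (fun n hn => NN_comm hn h.uA) ?_
      · rw [← mul_assoc, ← hxu]
      · rw [e0]; exact hO₁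
    · refine odd'_u (x := x * u) ?_ (fun n hn => NN_comm hn h.uA) ?_
      · rw [← mul_assoc, ← hxu]
      · rw [e0]; exact hO₂

/-- **(D3)** -/
theorem exists_out {w : G} (hw : w ∈ S₀) (tw : MulAut.conj t w = w)
    (wJ : ¬ ∃ a ∈ A, ∃ b ∈ A, w = a * MulAut.conj t b) (ww : w * w = 1) :
    ∃ (x : G) (D : Subgroup G), Out S₀ A M₁ M₂ D t u x w := by
  obtain ⟨x, hxS, hsw, hxB, hxx, hxg, hwx, hO₁, hO₂⟩ := h.exists_x hw tw wJ ww
  have hxi : x⁻¹ = x := inv_eq_of_mul_eq_one_left hxx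
  have hxA : ∀ a ∈ A, x * a * x⁻¹ ∈ A := h.sA x hxS
  have fA : ∀ a ∈ A, Fix M₁ M₂ a := fun a ha => ⟨h.F.norm₁ a ha, h.F.norm₂ a ha⟩
  have hxnA : x ∉ A := fun h1 => not_fix_swap h.F (fA x h1) hsw.1
  -- elements of `D`
  have ix : ∀ g ∈ A ⊔ zpowers x, g ∈ A ∨ g * x ∈ A := by
    intro g hg
    let L : Subgroup G :=
      { carrier := {y | y ∈ A ∨ y * x ∈ A}
        one_mem' := Or.inl A.one_mem
        mul_mem' := by
          rintro y z (hy | hy) (hz | hz)
          · exact Or.inl (A.mul_mem hy hz)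
          · exact Or.inr (by rw [mul_assoc]; exact A.mul_mem hy hz)
          · right
            have h1 := A.mul_mem hy (hxA z hz)
            have e : y * x * (x * z * x⁻¹) = y * z * x := by
              calc y * x * (x * z * x⁻¹) = y * (x * x) * z * x⁻¹ := by group
                _ = y * z * x := by rw [hxx, hxi, mul_one]
            rwa [e] at h1
          · left
            have h1 := A.mul_mem hy (hxA (z * x) hz)
            have e : y * x * (x * (z * x) * x⁻¹) = y * z := by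
              calc y * x * (x * (z * x) * x⁻¹) = y * (x * x) * z := by group
                _ = y * z := by rw [hxx, mul_one]
            rwa [e] at h1
        inv_mem' := by
          rintro y (hy | hy)
          · exact Or.inl (A.inv_mem hy)
          · right
            have h1 := hxA _ (A.inv_mem hy)
            have e : x * (y * x)⁻¹ * x⁻¹ = y⁻¹ * x := by
              calc x * (y * x)⁻¹ * x⁻¹ = y⁻¹ * x⁻¹ := by group
                _ = y⁻¹ * x := by rw [hxi]
            rwa [e] at h1 }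
    have hle : A ⊔ zpowers x ≤ L := by
      refine sup_le (fun y hy => Or.inl hy) ?_
      rw [zpowers_le]
      exact Or.inr (by rw [hxx]; exact A.one_mem)
    exact hle hg
  have form : ∀ y ∈ A ⊔ zpowers x, y ∉ A → ∃ a ∈ A, y = a * x := by
    intro y hy hyA
    rcases ix y hy with h1 | h1
    · exact absurd h1 hyA
    · exact ⟨y * x, h1, by rw [mul_assoc, hxx, mul_one]⟩
  have sw' : ∀ y ∈ A ⊔ zpowers x, y ∉ A → Swap M₁ M₂ y := by
    intro y hy hyA
    obtain ⟨a, ha, rfl⟩ := form y hy hyA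
    exact (fA a ha).mul_swap hsw
  have AD : A ≤ A ⊔ zpowers x := le_sup_left
  have xD : x ∈ A ⊔ zpowers x := le_sup_right (a := A) (mem_zpowers x)
  have comm : ∀ a ∈ A ⊔ zpowers x, ∀ b ∈ A ⊔ zpowers x, a * MulAut.conj t b = MulAut.conj t b * a := by
    have hDc : ∀ z : G, (∀ a ∈ A, a * z = z * a) → x * z = z * x → ∀ a ∈ A ⊔ zpowers x, a * z = z * a := by
      intro z h1 h2 a ha
      have hle : A ⊔ zpowers x ≤ centralizer {z} := by
        refine sup_le (fun y hy => mem_centralizer_singleton_iff.2 (h1 y hy)) ?_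
        rw [zpowers_le]
        exact mem_centralizer_singleton_iff.2 h2
      exact mem_centralizer_singleton_iff.1 (hle ha)
    have i1 : ∀ a ∈ A ⊔ zpowers x, ∀ b ∈ A, a * MulAut.conj t b = MulAut.conj t b * a := fun a ha b hb =>
      hDc _ (fun a' ha' => h.comm a' ha' b hb) (hxB b hb) a ha
    have i2 : ∀ a ∈ A ⊔ zpowers x, a * MulAut.conj t x = MulAut.conj t x * a := fun a ha =>
      hDc _ (fun a' ha' => (h.tcomm hxB a' ha').symm) hxg a ha
    intro a ha b hb
    rcases ix b hb with h1 | h1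
    · exact i1 a ha b h1
    · have e : b = (b * x) * x := by rw [mul_assoc, hxx, mul_one]
      have c1 : Commute a (MulAut.conj t (b * x)) := i1 a ha _ h1
      have c2 : Commute a (MulAut.conj t x) := i2 a ha
      rw [e, map_mul]
      exact (c1.mul_right c2).eq
  have DS : A ⊔ zpowers x ≤ S₀ := sup_le h.AS (by rw [zpowers_le]; exact hxS)
  have vD : MulAut.conj t u ∉ A ⊔ zpowers x := by
    intro h1
    by_cases h2 : MulAut.conj t u ∈ A
    · exact h.v_not h2
    · exact not_fix_swap h.F (fix_of_comm h.F.le₁ h.F.le₂ fun a ha => (h.comm a ha u h.uA).symm) (sw' _ h1 h2).1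
  refine ⟨x, A ⊔ zpowers x, rfl, AD, DS, xD, hxnA, hxx, ix, hxA, fun y hy hyA => (sw' y hy hyA).1, comm, ?_, ?_,
    hwx, ?_⟩
  · -- `D ∩ D^t = 1`
    intro a ha hta
    have c1 : ∀ b ∈ A ⊔ zpowers x, a * b = b * a := by
      intro b hb
      have h1 := comm _ hta b hb
      rw [← map_mul, ← map_mul] at h1
      exact (MulAut.conj t).injective h1
    have h1 := h.cap (DS ha) (fun b hb => c1 b (AD hb)) (fun b hb => comm a ha b (AD hb))
    rcases h1 with h1 | h1 | h1 | h1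
    · exact h1
    · rw [h1] at hta; exact absurd hta vD
    · rw [h1] at ha; exact absurd ha vD
    · rw [h1] at ha
      have h2 := Subgroup.mul_mem _ (Subgroup.inv_mem _ (AD h.uA)) ha
      rw [inv_mul_cancel_left] at h2
      exact absurd h2 vD
  · -- `S₀ = D D^t`
    intro s hs
    have fxB : Fix (M₁.map (MulAut.conj t).toMonoidHom) (M₂.map (MulAut.conj t).toMonoidHom) x :=
      fix_of_comm (Subgroup.map_mono h.F.le₁) (Subgroup.map_mono h.F.le₂) (commB hxB)
    have fgA : Fix M₁ M₂ (MulAut.conj t x) := fix_of_comm h.F.le₁ h.F.le₂ (h.tcomm hxB)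
    have sgB : Swap (M₁.map (MulAut.conj t).toMonoidHom) (M₂.map (MulAut.conj t).toMonoidHom) (MulAut.conj t x) :=
      hsw.map (MulAut.conj t)
    have gS : MulAut.conj t x ∈ S₀ := h.tS x hxS
    have gg : MulAut.conj t x * MulAut.conj t x = 1 := by rw [← map_mul, hxx, map_one]
    rcases h.dich hs with h1 | h1 <;> rcases h.dich' hs with h2 | h2
    · obtain ⟨a, ha, b, hb, hab⟩ := h.ker' hs h1 h2
      exact ⟨a, AD ha, b, AD hb, hab⟩
    · obtain ⟨a, ha, b, hb, hab⟩ := h.ker' (S₀.mul_mem hs gS) (h1.mul fgA) (h2.mul sgB)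
      refine ⟨a, AD ha, b * x, Subgroup.mul_mem _ (AD hb) xD, ?_⟩
      rw [map_mul, ← mul_assoc, ← hab, mul_assoc, gg, mul_one]
    · obtain ⟨a, ha, b, hb, hab⟩ := h.ker' (S₀.mul_mem hs hxS) (h1.mul hsw) (h2.mul fxB)
      refine ⟨a * x, Subgroup.mul_mem _ (AD ha) xD, b, AD hb, ?_⟩
      rw [mul_assoc, hxB b hb, ← mul_assoc, ← hab, mul_assoc, hxx, mul_one]
    · obtain ⟨a, ha, b, hb, hab⟩ := h.ker' (S₀.mul_mem (S₀.mul_mem hs hxS) gS) ((h1.mul hsw).mul fgA)
        ((h2.mul_fix fxB).mul sgB)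
      refine ⟨a * x, Subgroup.mul_mem _ (AD ha) xD, b * x, Subgroup.mul_mem _ (AD hb) xD, ?_⟩
      have e1 : a * x * MulAut.conj t (b * x) = (a * MulAut.conj t b) * (MulAut.conj t x * x) := by
        rw [map_mul]
        calc a * x * (MulAut.conj t b * MulAut.conj t x) = a * (x * MulAut.conj t b) * MulAut.conj t x := by group
          _ = (a * MulAut.conj t b) * (x * MulAut.conj t x) := by rw [hxB b hb]; group
          _ = (a * MulAut.conj t b) * (MulAut.conj t x * x) := by rw [hxg]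
      rw [e1, ← hab]
      calc s = s * (x * x) := by rw [hxx, mul_one]
        _ = s * x * (MulAut.conj t x * MulAut.conj t x) * x := by rw [gg]; group
        _ = s * x * MulAut.conj t x * (MulAut.conj t x * x) := by group
  · -- (3.7)
    intro y hy hyA hyy b hb hbb hb1
    obtain ⟨a, ha, rfl⟩ := form y hy hyA
    obtain ⟨k, hk1, hk2, hk3⟩ := exists_conj_v (two_of h) hxA (commB hxB) hO₁ hO₂ ha hyy
      (b := MulAut.conj t b) ⟨b, hb, rfl⟩ (by rw [← map_mul, hbb, map_one])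
      (fun h1 => hb1 ((MulAut.conj t).injective (h1.trans (map_one _).symm)))
    exact ⟨k, fun a ha => (hk1 a ha).symm, hk2, hk3⟩

end

end Hyp

end Cfsg.Agent.Wreath.DThree
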