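import Mathlib
import Cfsg.Agent.Wreath.DThreeEnd
import Cfsg.Agent.Wreath.COne

/-!
# (D3) of the end of Theorem W (S1739): the hypotheses from `Inp` and `Common`
-/

set_option autoImplicit false

namespace Cfsg.Agent.Wreath.DThreeGlue

open Subgroup Cfsg.Agent.Wreath.End Cfsg.Agent.Wreath.COne Cfsg.Agent.Wreath.DThree
open Cfsg.Agent.Wreath.ADataMap
open Cfsg.Agent.StdEven.Syl (IsSyl exists_isSyl mem_normalizer_of_conj_le conj_mem_of_mem_normalizer)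

/-- Further input for (D3): (W5a) for `M₁` and `M₂`, (W5b), (W9). -/
structure Inp3 {G : Type*} [Group G] (t u : G) (A M₁ M₂ : Subgroup G) : Prop where
  tr₁ : ∀ a ∈ M₁, ∀ b ∈ M₁, ∀ a' ∈ M₁, ∀ b' ∈ M₁, a ≠ 1 → b ≠ 1 → a' ≠ 1 → b' ≠ 1 → a ≠ b → a' ≠ b' →
    ∃ n : G, (∀ c ∈ A, n * (t * c * t) = (t * c * t) * n) ∧ (∀ m ∈ M₁, n * m * n⁻¹ ∈ M₁) ∧
      n * a * n⁻¹ = a' ∧ n * b * n⁻¹ = b'
  tr₂ : ∀ a ∈ M₂, ∀ b ∈ M₂, ∀ a' ∈ M₂, ∀ b' ∈ M₂, a ≠ 1 → b ≠ 1 → a' ≠ 1 → b' ≠ 1 → a ≠ b → a' ≠ b' →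
    ∃ n : G, (∀ c ∈ A, n * (t * c * t) = (t * c * t) * n) ∧ (∀ m ∈ M₂, n * m * n⁻¹ ∈ M₂) ∧
      n * a * n⁻¹ = a' ∧ n * b * n⁻¹ = b'
  w5b : ∀ a ∈ A, a * a = 1 → ∃ n : G, (∀ c ∈ A, n * (t * c * t) = (t * c * t) * n) ∧
    (∀ m ∈ M₁, n * m * n⁻¹ ∈ M₁) ∧ n * a * n⁻¹ ∈ M₂
  w9 : ∃ k : G, (∀ c ∈ A, k * (t * c * t) = (t * c * t) * k) ∧ (∀ m ∈ M₁, k * m * k⁻¹ ∈ M₁) ∧
    (∀ m ∈ M₂, k * m * k⁻¹ ∈ M₂) ∧ k * u * k⁻¹ ≠ u

variable {G : Type*} [Group G] {t u : G} {A M₁ M₂ : Subgroup G}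

theorem card_le_two_mul [Finite G] {K H : Subgroup G} (hKH : ∀ x ∈ H, ∀ y ∈ H, x ∉ K → y ∉ K → x * y⁻¹ ∈ K) :
    Nat.card H ≤ 2 * Nat.card K := by
  by_cases hx : ∃ x ∈ H, x ∉ K
  · obtain ⟨x, hx, hxK⟩ := hx
    have hsub : (H : Set G) ⊆ (K : Set G) ∪ (fun k => k * x) '' (K : Set G) := by
      intro y hy
      by_cases hyK : y ∈ K
      · exact Or.inl hyK
      · exact Or.inr ⟨y * x⁻¹, hKH y hy x hx hyK hxK, by simp⟩
    have h1 := (Set.ncard_le_ncard hsub (Set.toFinite _)).trans (Set.ncard_union_le _ _)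
    have h2 : Set.ncard ((fun k => k * x) '' (K : Set G)) = Set.ncard (K : Set G) :=
      Set.ncard_image_of_injective _ (mul_left_injective x)
    have e1 : Nat.card H = Set.ncard (H : Set G) := Nat.card_coe_set_eq _
    have e2 : Nat.card K = Set.ncard (K : Set G) := Nat.card_coe_set_eq _
    rw [h2] at h1
    omega
  · push Not at hx
    have h1 : H ≤ K := hx
    have h2 := Subgroup.card_le_of_le h1
    omega

theorem swap_inv [Finite G] (F : AData.Facts A M₁ M₂ u) {s : G} (hs : Swap M₁ M₂ s) : Swap M₁ M₂ s⁻¹ := by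
  have key : ∀ {M N : Subgroup G}, Nat.card M = 16 → Nat.card N = 16 → (∀ m ∈ M, s * m * s⁻¹ ∈ N) →
      ∀ n ∈ N, s⁻¹ * n * s⁻¹⁻¹ ∈ M := by
    intro M N hM hN h n hn
    have h1 : M.map (MulAut.conj s).toMonoidHom ≤ N := by
      rintro _ ⟨m, hm, rfl⟩
      exact h m hm
    have h2 := eq_of_le_of_card_ge h1 (by rw [card_map, hM, hN])
    rw [← h2] at hn
    obtain ⟨m, hm, rfl⟩ := hn
    have e : s⁻¹ * ((MulAut.conj s).toMonoidHom m) * s⁻¹⁻¹ = m := by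
      show s⁻¹ * (s * m * s⁻¹) * s⁻¹⁻¹ = m
      group
    rw [e]; exact hm
  exact ⟨key F.card₂ F.card₁ hs.2, key F.card₁ F.card₂ hs.1⟩

section

variable (h : Inp t u A M₁ M₂)

include h

theorem ct (x : G) : MulAut.conj t x = t * x * t := by rw [MulAut.conj_apply, h.t_inv]

theorem mem_map_t {K : Subgroup G} {x : G} : x ∈ K.map (MulAut.conj t).toMonoidHom ↔ ∃ y ∈ K, x = t * y * t := by
  constructor
  · rintro ⟨y, hy, rfl⟩
    exact ⟨y, hy, ct h y⟩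
  · rintro ⟨y, hy, rfl⟩
    exact ⟨y, hy, ct h y⟩

/-- `t` normalises `J` -/
theorem t_J {j : G} (hj : j ∈ h.J) : t * j * t ∈ h.J := by
  obtain ⟨a, ha, b, hb, rfl⟩ := h.mem_J.1 hj
  rw [h.pr_swap ha hb]
  exact h.pr_mem_J hb ha

theorem J_u {j : G} (hj : j ∈ h.J) : j * u = u * j := by
  have h2 := J_pr_u h (Or.inl rfl) (Or.inr rfl) hj
  rwa [h.pr_one_right] at h2

variable [Finite G] {S : Subgroup G} (c : Common h S)

include c

omit [Finite G] in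
/-- elements of `N(J)` fixing `u` fix `v` -/
theorem fix_v {x : G} (hJ : ∀ j ∈ h.J, x * j * x⁻¹ ∈ h.J) (hu : x * u * x⁻¹ = u) :
    x * (t * u * t) * x⁻¹ = t * u * t := by
  have h1 := c.NJ (x * t) (by
    intro j hj
    have e : x * t * j * (x * t)⁻¹ = x * (t * j * t) * x⁻¹ := by rw [mul_inv_rev, h.t_inv]; group
    rw [e]
    exact hJ _ (t_J h hj))
  have e : x * t * u * (x * t)⁻¹ = x * (t * u * t) * x⁻¹ := by rw [mul_inv_rev, h.t_inv]; group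
  rw [e] at h1
  rcases h1 with h1 | h1
  · exfalso
    apply tu_ne h
    have h2 : x * (t * u * t) * x⁻¹ = x * u * x⁻¹ := by rw [h1, hu]
    exact mul_left_cancel (mul_right_cancel h2)
  · exact h1

omit [Finite G] in
/-- elements of `N(J)` moving `u` map `v` to `u` -/
theorem move_v {x : G} (hJ : ∀ j ∈ h.J, x * j * x⁻¹ ∈ h.J) (hu : x * u * x⁻¹ = t * u * t) :
    x * (t * u * t) * x⁻¹ = u := by
  have h1 := c.NJ (x * t) (by
    intro j hj
    have e : x * t * j * (x * t)⁻¹ = x * (t * j * t) * x⁻¹ := by rw [mul_inv_rev, h.t_inv]; group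
    rw [e]
    exact hJ _ (t_J h hj))
  have e : x * t * u * (x * t)⁻¹ = x * (t * u * t) * x⁻¹ := by rw [mul_inv_rev, h.t_inv]; group
  rw [e] at h1
  rcases h1 with h1 | h1
  · exact h1
  · exfalso
    apply tu_ne h
    have h2 : x * (t * u * t) * x⁻¹ = x * u * x⁻¹ := by rw [h1, hu]
    exact mul_left_cancel (mul_right_cancel h2)

/-- **(3.1)** A 2-element of `N(J)` commuting with `u` and normalising `M₁M₁ᵗ` lies in `J`. -/
theorem mem_J_of {y : G} (h2 : ∃ k : ℕ, y ^ 2 ^ k = 1) (hJ : ∀ j ∈ h.J, y * j * y⁻¹ ∈ h.J) (hu : y * u * y⁻¹ = u)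
    (hQ : ∀ q ∈ h.PR M₁ M₁, y * q * y⁻¹ ∈ h.PR M₁ M₁) : y ∈ h.J := by
  set T : Subgroup G := normalizer (h.J : Set G) ⊓ normalizer (h.PR M₁ M₁ : Set G) with hT
  have hn := h.facts.norm₁
  have hQJ : ∀ j ∈ h.J, ∀ q ∈ h.PR M₁ M₁, j * q * j⁻¹ ∈ h.PR M₁ M₁ := by
    intro j hj q hq
    obtain ⟨a, ha, b, hb, rfl⟩ := h.mem_J.1 hj
    obtain ⟨m, hm, n, hn', rfl⟩ := (h.mem_PR h.facts.le₁ h.facts.le₁).1 hq
    rw [h.pr_conj ha hb (h.facts.le₁ hm) (h.facts.le₁ hn')]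
    exact h.pr_mem_PR h.facts.le₁ h.facts.le₁ (hn a ha m hm) (hn b hb n hn')
  have hQt : ∀ q ∈ h.PR M₁ M₁, t * q * t⁻¹ ∈ h.PR M₁ M₁ := by
    intro q hq
    obtain ⟨m, hm, n, hn', rfl⟩ := (h.mem_PR h.facts.le₁ h.facts.le₁).1 hq
    rw [h.t_inv, h.pr_swap (h.facts.le₁ hm) (h.facts.le₁ hn')]
    exact h.pr_mem_PR h.facts.le₁ h.facts.le₁ hn' hm
  have hJT : h.J ≤ T := fun j hj => ⟨mem_normalizer_of_conj_le (fun x hx => h.J.mul_mem (h.J.mul_mem hj hx)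
    (h.J.inv_mem hj)), mem_normalizer_of_conj_le (hQJ j hj)⟩
  have htT : t ∈ T := ⟨mem_normalizer_of_conj_le (fun x hx => by rw [h.t_inv]; exact t_J h hx),
    mem_normalizer_of_conj_le hQt⟩
  have hKT : K h ≤ T := by
    rintro g (hg | hg)
    · exact hJT hg
    · have e : g = g * t * t := by rw [mul_assoc, h.t_sq, mul_one]
      rw [e]
      exact T.mul_mem (hJT hg) htT
  have hK2 : IsPGroup 2 (K h) := by
    refine c.pS.to_le ?_
    rintro g (hg | hg)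
    · exact c.JS hg
    · have e : g = g * t * t := by rw [mul_assoc, h.t_sq, mul_one]
      rw [e]
      exact S.mul_mem (c.JS hg) c.tS
  obtain ⟨P, hP, hKP⟩ := exists_isSyl hK2 hKT
  -- `P = J⟨t⟩`
  have hPK : P ≤ K h := by
    intro x hx
    have hxT := hP.le hx
    have hxJ : ∀ j ∈ h.J, x * j * x⁻¹ ∈ h.J := fun j hj => conj_mem_of_mem_normalizer hxT.1 hj
    have hxQ : ∀ q ∈ h.PR M₁ M₁, x * q * x⁻¹ ∈ h.PR M₁ M₁ := fun q hq => conj_mem_of_mem_normalizer hxT.2 hq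
    rcases c.NJ x hxJ with h3 | h3
    · exact Or.inl (norm_Q h hP.two (hKP (t_mem_K h)) ((J_le_K h).trans hKP) hx h3 hxQ)
    · right
      have h4 := move_v h c hxJ h3
      refine norm_Q h hP.two (hKP (t_mem_K h)) ((J_le_K h).trans hKP) (P.mul_mem hx (hKP (t_mem_K h))) ?_ ?_
      · have e : x * t * u * (x * t)⁻¹ = x * (t * u * t) * x⁻¹ := by rw [mul_inv_rev, h.t_inv]; group
        rw [e]; exact h4
      · intro q hq
        have e : x * t * q * (x * t)⁻¹ = x * (t * q * t⁻¹) * x⁻¹ := by rw [mul_inv_rev]; group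
        rw [e]
        exact hxQ _ (hQt q hq)
  have hyT : y ∈ T := ⟨mem_normalizer_of_conj_le hJ, mem_normalizer_of_conj_le hQ⟩
  obtain ⟨g, hg, hgP⟩ := hP.exists_conj (Cfsg.Agent.TypeM.WThreeAbs.isPGroup_zpowers h2) (zpowers_le.2 hyT)
  have hgy := hPK (hgP y (mem_zpowers y))
  have hgJ : ∀ j ∈ h.J, g * j * g⁻¹ ∈ h.J := fun j hj => conj_mem_of_mem_normalizer hg.1 hj
  have hv := fix_v h c hJ hu
  -- `g y g⁻¹` commutes with `u`
  have hyu : (g * y * g⁻¹) * u * (g * y * g⁻¹)⁻¹ = u := by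
    rcases c.NJ g hgJ with h3 | h3
    · have e : g⁻¹ * u * g = u := by
        have : g⁻¹ * (g * u * g⁻¹) * g = u := by group
        rwa [h3] at this
      calc (g * y * g⁻¹) * u * (g * y * g⁻¹)⁻¹ = g * (y * (g⁻¹ * u * g) * y⁻¹) * g⁻¹ := by group
        _ = u := by rw [e, hu, h3]
    · have h4 := move_v h c hgJ h3
      have e : g⁻¹ * u * g = t * u * t := by
        have : g⁻¹ * (g * (t * u * t) * g⁻¹) * g = t * u * t := by group
        rwa [h4] at this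
      calc (g * y * g⁻¹) * u * (g * y * g⁻¹)⁻¹ = g * (y * (g⁻¹ * u * g) * y⁻¹) * g⁻¹ := by group
        _ = u := by rw [e, hv, h4]
  rcases hgy with h3 | h3
  · -- back to `y`
    have h4 := conj_mem_of_mem_normalizer (inv_mem hg.1) h3
    have e : g⁻¹ * (g * y * g⁻¹) * g⁻¹⁻¹ = y := by group
    rwa [e] at h4
  · exfalso
    apply tu_ne h
    have h4 := J_u h h3
    -- `(g y g⁻¹ t) u = u (g y g⁻¹ t)`
    set y' := g * y * g⁻¹ with hy'
    have e1 : y' * (t * u * t) * y'⁻¹ = u := by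
      calc y' * (t * u * t) * y'⁻¹ = (y' * t * u) * (t * y'⁻¹) := by group
        _ = u * y' * (t * t) * y'⁻¹ := by rw [h4]; group
        _ = u := by rw [h.t_sq]; group
    have e2 : y' * (t * u * t) * y'⁻¹ = y' * u * y'⁻¹ := by rw [e1, hyu]
    exact mul_left_cancel (mul_right_cancel e2)

/-- `S⁰ = C_S(u)` -/
def S0 (S : Subgroup G) (u : G) : Subgroup G := S ⊓ centralizer {u}

omit h c [Finite G] in
theorem mem_S0 {s : G} : s ∈ S0 S u ↔ s ∈ S ∧ s * u = u * s := by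
  unfold S0
  rw [mem_inf, mem_centralizer_singleton_iff]

omit h c [Finite G] in
theorem S0_fix {s : G} (hs : s ∈ S0 S u) : s * u * s⁻¹ = u := by
  rw [(mem_S0.1 hs).2, mul_inv_cancel_right]

omit [Finite G] in
theorem S0_t {s : G} (hs : s ∈ S0 S u) : t * s * t ∈ S0 S u := by
  have h1 := mem_S0.1 hs
  have hv := fix_v h c (c.nJ s h1.1) (S0_fix hs)
  refine mem_S0.2 ⟨S.mul_mem (S.mul_mem c.tS h1.1) c.tS, ?_⟩
  have h2 : s * (t * u * t) = (t * u * t) * s := mul_inv_eq_iff_eq_mul.1 hv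
  calc t * s * t * u = t * (s * (t * u * t)) * t⁻¹ := by group
    _ = t * ((t * u * t) * s) * t := by rw [h2, h.t_inv]
    _ = (t * t) * u * (t * s * t) := by group
    _ = u * (t * s * t) := by rw [h.t_sq, one_mul]

omit [Finite G] in
theorem J_le_S0 : h.J ≤ S0 S u := fun _ hj => mem_S0.2 ⟨c.JS hj, J_u h hj⟩

/-- `S⁰` has index at most 2 in `S` -/
theorem card_S_le : Nat.card S ≤ 2 * Nat.card (S0 S u) := by
  refine card_le_two_mul ?_
  intro x hx y hy hx' hy'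
  have key : ∀ z ∈ S, z ∉ S0 S u → z * u * z⁻¹ = t * u * t := by
    intro z hz hz'
    rcases c.uv z hz with h1 | h1
    · exact absurd (mem_S0.2 ⟨hz, mul_inv_eq_iff_eq_mul.1 h1⟩) hz'
    · exact h1
  refine mem_S0.2 ⟨S.mul_mem hx (S.inv_mem hy), mul_inv_eq_iff_eq_mul.1 ?_⟩
  have e1 := key x hx hx'
  have e2 := move_v h c (c.nJ y hy) (key y hy hy')
  have e3 := move_v h c (c.nJ x hx) e1
  have e4 : y⁻¹ * u * y = t * u * t := by
    have : y⁻¹ * (y * (t * u * t) * y⁻¹) * y = t * u * t := by group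
    rwa [e2] at this
  calc x * y⁻¹ * u * (x * y⁻¹)⁻¹ = x * (y⁻¹ * u * y) * x⁻¹ := by group
    _ = u := by rw [e4, e3]

omit [Finite G] in
theorem S0_A {s : G} (hs : s ∈ S0 S u) : ∀ a ∈ A, s * a * s⁻¹ ∈ A := c.nA s (mem_S0.1 hs).1 (S0_fix hs)

omit [Finite G] in
/-- type of an element on `M₁`, `M₂` -/
theorem dichA {s : G} (hs : s ∈ S0 S u) : Fix M₁ M₂ s ∨ Swap M₁ M₂ s := dich_of h.facts (S0_A h c hs)

omit [Finite G] in
theorem reg' {s : G} (hs : s ∈ S0 S u) (h1 : Fix M₁ M₂ s) (h2 : Fix M₁ M₂ (t * s * t)) : s ∈ h.J := by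
  refine c.reg s (mem_S0.1 hs).1 (S0_fix hs) h1.1 ?_
  intro m hm
  refine ⟨t * s * t * m * (t * s * t)⁻¹, h2.1 m hm, ?_⟩
  calc s * (t * m * t) * s⁻¹ = 1 * s * t * m * t⁻¹ * s⁻¹ * 1⁻¹ := by rw [h.t_inv]; group
    _ = (t * t) * s * t * m * t⁻¹ * s⁻¹ * (t * t)⁻¹ := by rw [h.t_sq]
    _ = t * (t * s * t * m * (t * s * t)⁻¹) * t⁻¹ := by group
    _ = t * (t * s * t * m * (t * s * t)⁻¹) * t := by rw [h.t_inv]

/-- if `|S : J| = 8` there are elements of all types -/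
theorem exists_type (hc : 2 ^ 16 < Nat.card S) : ∃ s ∈ S0 S u, Swap M₁ M₂ s ∧ Fix M₁ M₂ (t * s * t) := by
  by_contra hcon
  push Not at hcon
  have hS0 : Nat.card (S0 S u) ≤ 2 * Nat.card h.J := by
    refine card_le_two_mul ?_
    intro x hx y hy hxJ hyJ
    have key : ∀ z ∈ S0 S u, z ∉ h.J → Swap M₁ M₂ z ∧ Swap M₁ M₂ (t * z * t) := by
      intro z hz hzJ
      have hz' := S0_t h c hz
      rcases dichA h c hz with h1 | h1 <;> rcases dichA h c hz' with h2 | h2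
      · exact absurd (reg' h c hz h1 h2) hzJ
      · exact (hcon _ hz' h2 (by rw [h.cj_cj]; exact h1)).elim
      · exact (hcon _ hz h1 h2).elim
      · exact ⟨h1, h2⟩
    have kx := key x hx hxJ
    have hyi : y⁻¹ ∉ h.J := fun h3 => hyJ (by
      have := h.J.inv_mem h3
      rwa [inv_inv] at this)
    have ky := key y⁻¹ ((S0 S u).inv_mem hy) hyi
    refine reg' h c ((S0 S u).mul_mem hx ((S0 S u).inv_mem hy)) (kx.1.mul ky.1) ?_
    rw [h.cj_mul]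
    exact kx.2.mul ky.2
  have hS := card_S_le h c
  have hJ := h.card_J
  omega

omit [Finite G] in
/-- the same from elements `w`, `s` of `S⁰` independent modulo `J` -/
theorem exists_type' {w s : G} (hw : w ∈ S0 S u) (tw : t * w = w * t) (wJ : w ∉ h.J) (hs : s ∈ S0 S u) (sJ : s ∉ h.J)
    (swJ : s * w ∉ h.J) : ∃ s ∈ S0 S u, Swap M₁ M₂ s ∧ Fix M₁ M₂ (t * s * t) := by
  have htw : t * w * t = w := by rw [tw, mul_assoc, h.t_sq, mul_one]
  have hwsw : Swap M₁ M₂ w := by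
    rcases dichA h c hw with h1 | h1
    · exact absurd (reg' h c hw h1 (by rw [htw]; exact h1)) wJ
    · exact h1
  have hs' := S0_t h c hs
  rcases dichA h c hs with h1 | h1 <;> rcases dichA h c hs' with h2 | h2
  · exact absurd (reg' h c hs h1 h2) sJ
  · exact ⟨_, hs', h2, by rw [h.cj_cj]; exact h1⟩
  · exact ⟨s, hs, h1, h2⟩
  · refine absurd (reg' h c ((S0 S u).mul_mem hs hw) (h1.mul hwsw) ?_) swJ
    rw [h.cj_mul, htw]
    exact h2.mul hwsw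

/-- the hypothesis `Hyp` of (D3) -/
theorem hyp (h3 : Inp3 t u A M₁ M₂) (ht : ∃ s ∈ S0 S u, Swap M₁ M₂ s ∧ Fix M₁ M₂ (t * s * t)) :
    Hyp (S0 S u) A M₁ M₂ t u := by
  obtain ⟨s, hs, hsw, hfx⟩ := ht
  have hct := ct h
  have hmt : ∀ {K : Subgroup G} {x : G}, x ∈ K.map (MulAut.conj t).toMonoidHom ↔ ∃ y ∈ K, x = t * y * t :=
    fun {K x} => mem_map_t h
  have hJof : ∀ y : G, (∀ a ∈ A, y * a = a * y) →
      (∀ a ∈ A, ∃ a' ∈ A, ∃ b' ∈ A, y * MulAut.conj t a * y⁻¹ = a' * MulAut.conj t b') →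
      ∀ j ∈ h.J, y * j * y⁻¹ ∈ h.J := by
    intro y hA hJ j hj
    have hyA : ∀ a ∈ A, y * a * y⁻¹ = a := fun a ha => by rw [hA a ha, mul_inv_cancel_right]
    obtain ⟨a, ha, b, hb, rfl⟩ := h.mem_J.1 hj
    obtain ⟨a', ha', b', hb', e⟩ := hJ b hb
    rw [hct, hct] at e
    have e1 : y * pr t a b * y⁻¹ = a * (a' * (t * b' * t)) := by
      calc y * pr t a b * y⁻¹ = (y * a * y⁻¹) * (y * (t * b * t) * y⁻¹) := by unfold pr; group
        _ = _ := by rw [hyA a ha, e]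
    rw [e1, ← mul_assoc]
    exact h.pr_mem_J (A.mul_mem ha ha') hb'
  have syl₁ : ∀ y : G, (∃ k : ℕ, y ^ 2 ^ k = 1) → (∀ a ∈ A, y * a = a * y) →
      (∀ j ∈ h.J, y * j * y⁻¹ ∈ h.J) →
      (∀ m ∈ M₁, ∃ m' ∈ M₁, y * (t * m * t) * y⁻¹ = t * m' * t) → y ∈ h.J := by
    intro y h2 hA hJ hM
    have hyA : ∀ a ∈ A, y * a * y⁻¹ = a := fun a ha => by rw [hA a ha, mul_inv_cancel_right]
    refine mem_J_of h c h2 hJ (hyA u h.u_mem_A) ?_
    intro q hq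
    obtain ⟨m, hm, n, hn, rfl⟩ := (h.mem_PR h.facts.le₁ h.facts.le₁).1 hq
    obtain ⟨n', hn', e⟩ := hM n hn
    have e1 : y * pr t m n * y⁻¹ = pr t m n' := by
      calc y * pr t m n * y⁻¹ = (y * m * y⁻¹) * (y * (t * n * t) * y⁻¹) := by unfold pr; group
        _ = _ := by rw [hyA m (h.facts.le₁ hm), e]; rfl
    rw [e1]
    exact h.pr_mem_PR h.facts.le₁ h.facts.le₁ hm hn'
  refine
    { F := h.facts
      tt := h.t_sq
      comm := fun a ha b hb => by rw [hct]; exact h.comm a ha b hb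
      inf := fun a ha h1 => h.disj a ha (by rw [← hct]; exact h1)
      tS := fun s hs => by rw [hct]; exact S0_t h c hs
      AS := fun a ha => J_le_S0 h c (h.A_le_J ha)
      su := fun s hs => (mem_S0.1 hs).2
      sA := fun s hs => S0_A h c hs
      ker := ?_
      ex := ?_
      syl₁ := ?_
      syl₂ := ?_
      tr₁ := ?_
      tr₂ := ?_
      w5b := ?_
      w9 := ?_ }
  · intro s hs h1 h2
    have h4 := c.reg s (mem_S0.1 hs).1 (S0_fix hs) h1 (by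
      intro m hm
      have := h2 m hm
      rw [hct] at this
      exact hmt.1 this)
    obtain ⟨a, ha, b, hb, e⟩ := h.mem_J.1 h4
    exact ⟨a, ha, b, hb, by rw [hct]; exact e⟩
  · refine ⟨s, hs, hsw.1, ?_⟩
    intro m hm
    rw [hct]
    refine hmt.2 ⟨_, hfx.1 m hm, ?_⟩
    calc s * (t * m * t) * s⁻¹ = 1 * s * t * m * t⁻¹ * s⁻¹ * 1⁻¹ := by rw [h.t_inv]; group
      _ = (t * t) * s * t * m * t⁻¹ * s⁻¹ * (t * t)⁻¹ := by rw [h.t_sq]
      _ = t * (t * s * t * m * (t * s * t)⁻¹) * t⁻¹ := by group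
      _ = t * (t * s * t * m * (t * s * t)⁻¹) * t := by rw [h.t_inv]
  · intro y h2 hA hJ hM
    obtain ⟨a, ha, b, hb, e⟩ := h.mem_J.1 (syl₁ y h2 hA (hJof y hA hJ) (fun m hm => by
        have := hM m hm
        rw [hct] at this
        exact hmt.1 this))
    exact ⟨a, ha, b, hb, by rw [hct]; exact e⟩
  · intro y h2 hA hJ hM
    -- conjugation by `z = s sᵗ`
    have hs' := S0_t h c hs
    obtain ⟨z, hz⟩ : ∃ z, z = s * (t * s * t) := ⟨_, rfl⟩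
    have hzS : z ∈ S0 S u := by rw [hz]; exact (S0 S u).mul_mem hs hs'
    have hzsw : Swap M₁ M₂ z := by rw [hz]; exact hsw.mul_fix hfx
    have hzsw' : Swap M₁ M₂ (t * z * t) := by
      rw [hz, h.cj_mul, h.cj_cj]
      exact hfx.mul_swap hsw
    have hzi := swap_inv h.facts hzsw'
    have hzA := S0_A h c hzS
    have hziA := S0_A h c ((S0 S u).inv_mem hzS)
    have hzJ := c.nJ z (mem_S0.1 hzS).1
    have hziJ := c.nJ z⁻¹ (S.inv_mem (mem_S0.1 hzS).1)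
    have hyJ := hJof y hA hJ
    have hyA : ∀ a ∈ A, y * a * y⁻¹ = a := fun a ha => by rw [hA a ha, mul_inv_cancel_right]
    have tzt : ∀ g m : G, g * (t * m * t) * g⁻¹ = t * ((t * g * t) * m * (t * g * t)⁻¹) * t := by
      intro g m
      calc g * (t * m * t) * g⁻¹ = 1 * g * t * m * t⁻¹ * g⁻¹ * 1⁻¹ := by rw [h.t_inv]; group
        _ = (t * t) * g * t * m * t⁻¹ * g⁻¹ * (t * t)⁻¹ := by rw [h.t_sq]
        _ = t * (t * g * t * m * (t * g * t)⁻¹) * t⁻¹ := by group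
        _ = t * (t * g * t * m * (t * g * t)⁻¹) * t := by rw [h.t_inv]
    have h4 : z * y * z⁻¹ ∈ h.J := by
      refine syl₁ _ ?_ ?_ ?_ ?_
      · obtain ⟨k, hk⟩ := h2
        exact ⟨k, by rw [conj_pow, hk, mul_one, mul_inv_cancel]⟩
      · intro a ha
        have h5 := hziA a ha
        apply mul_inv_eq_iff_eq_mul.1
        calc z * y * z⁻¹ * a * (z * y * z⁻¹)⁻¹ = z * (y * (z⁻¹ * a * z⁻¹⁻¹) * y⁻¹) * z⁻¹ := by group
          _ = a := by rw [hyA _ h5]; group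
      · intro j hj
        have e : z * y * z⁻¹ * j * (z * y * z⁻¹)⁻¹ = z * (y * (z⁻¹ * j * z⁻¹⁻¹) * y⁻¹) * z⁻¹ := by group
        rw [e]
        exact hzJ _ (hyJ _ (hziJ j hj))
      · intro m hm
        have e : z * y * z⁻¹ * (t * m * t) * (z * y * z⁻¹)⁻¹ = z * (y * (z⁻¹ * (t * m * t) * z⁻¹⁻¹) * y⁻¹) * z⁻¹ := by
          group
        have h5 : (t * z * t)⁻¹ * m * (t * z * t)⁻¹⁻¹ ∈ M₂ := hzi.1 m hm
        have e2 : t * z⁻¹ * t = (t * z * t)⁻¹ := h.cj_inv z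
        rw [e, tzt z⁻¹, e2]
        have h6 := hM _ h5
        rw [hct] at h6
        obtain ⟨m', hm', e3⟩ := hmt.1 h6
        rw [e3, tzt z]
        exact ⟨_, hzsw'.2 m' hm', rfl⟩
    have h5 : z⁻¹ * (z * y * z⁻¹) * z⁻¹⁻¹ ∈ h.J := hziJ _ h4
    have e : z⁻¹ * (z * y * z⁻¹) * z⁻¹⁻¹ = y := by group
    rw [e] at h5
    obtain ⟨a, ha, b, hb, e⟩ := h.mem_J.1 h5
    exact ⟨a, ha, b, hb, by rw [hct]; exact e⟩
  · simp only [hct]
    exact h3.tr₁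
  · simp only [hct]
    exact h3.tr₂
  · simp only [hct]
    exact h3.w5b
  · simp only [hct]
    exact h3.w9

theorem exists_out_of (h3 : Inp3 t u A M₁ M₂) (ht : ∃ s ∈ S0 S u, Swap M₁ M₂ s ∧ Fix M₁ M₂ (t * s * t)) {w : G}
    (hw : w ∈ S0 S u) (tw : t * w = w * t) (wJ : w ∉ h.J) (ww : w * w = 1) :
    ∃ (x : G) (D : Subgroup G), Out (S0 S u) A M₁ M₂ D t u x w := by
  refine (hyp h c h3 ht).exists_out hw ?_ ?_ ww
  · rw [ct h, tw, mul_assoc, h.t_sq, mul_one]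
  · rintro ⟨a, ha, b, hb, e⟩
    rw [ct h] at e
    exact wJ (h.mem_J.2 ⟨a, ha, b, hb, e⟩)

/-- **(D3)** in terms of `Inp`, `Common`, when `|S : J| = 8`. -/
theorem exists_out (h3 : Inp3 t u A M₁ M₂) (hc : 2 ^ 16 < Nat.card S) {w : G} (hw : w ∈ S) (hwu : w * u = u * w)
    (tw : t * w = w * t) (wJ : w ∉ h.J) (ww : w * w = 1) :
    ∃ (x : G) (D : Subgroup G), Out (S0 S u) A M₁ M₂ D t u x w :=
  exists_out_of h c h3 (exists_type h c hc) (mem_S0.2 ⟨hw, hwu⟩) tw wJ ww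

/-- **(D3)**, when some `s ∈ S⁰` does not lie in `J⟨w⟩`. -/
theorem exists_out' (h3 : Inp3 t u A M₁ M₂) {w s : G} (hw : w ∈ S) (hwu : w * u = u * w)
    (tw : t * w = w * t) (wJ : w ∉ h.J) (ww : w * w = 1) (hs : s ∈ S) (hsu : s * u = u * s) (sJ : s ∉ h.J)
    (swJ : s * w ∉ h.J) : ∃ (x : G) (D : Subgroup G), Out (S0 S u) A M₁ M₂ D t u x w :=
  exists_out_of h c h3 (exists_type' h c (mem_S0.2 ⟨hw, hwu⟩) tw wJ (mem_S0.2 ⟨hs, hsu⟩) sJ swJ)
    (mem_S0.2 ⟨hw, hwu⟩) tw wJ ww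

/-- the form used in (D2) -/
theorem d3 (h3 : Inp3 t u A M₁ M₂) {w : G} (hw : w ∈ S) (hwu : w * u * w⁻¹ = u) (tw : w * t = t * w) (wJ : w ∉ h.J)
    (ww : w * w = 1) (hs : ∃ s ∈ S, s * u * s⁻¹ = u ∧ s ∉ h.J ∧ s * w ∉ h.J) :
    ∃ x ∈ S, x * x = 1 ∧ x ∉ h.J ∧ (∀ b ∈ A, x * (t * b * t) = (t * b * t) * x) ∧ (∀ a ∈ A, x * a * x⁻¹ ∈ A) ∧
      (∀ m ∈ M₁, x * m * x⁻¹ ∈ M₂) ∧ w = x * (t * x * t) ∧ x * (t * x * t) = (t * x * t) * x ∧
      ∀ a ∈ A, (a * x) * (a * x) = 1 → ∀ b ∈ A, b * b = 1 → b ≠ 1 →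
        ∃ k, (∀ a ∈ A, k * a = a * k) ∧ k * (a * x) = (a * x) * k ∧ k * (t * b * t) * k⁻¹ = t * u * t := by
  obtain ⟨s, hs, hsu, sJ, swJ⟩ := hs
  obtain ⟨x, D, O⟩ := exists_out' h c h3 hw (mul_inv_eq_iff_eq_mul.1 hwu) tw.symm wJ ww hs
    (mul_inv_eq_iff_eq_mul.1 hsu) sJ swJ
  have hct := ct h
  have hxS := O.DS O.xD
  refine ⟨x, (mem_S0.1 hxS).1, O.xx, ?_, ?_, O.xn, O.sw x O.xD O.xA, ?_, ?_, ?_⟩
  · intro hx
    -- elements of `J` fix `M₁`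
    obtain ⟨a, ha, b, hb, e⟩ := h.mem_J.1 hx
    have hsw := O.sw x O.xD O.xA
    refine not_fix_swap h.facts (s := x) ?_ hsw
    have f1 : Fix M₁ M₂ a := ⟨h.facts.norm₁ a ha, h.facts.norm₂ a ha⟩
    have f2 : Fix M₁ M₂ (t * b * t) := fix_of_comm h.facts.le₁ h.facts.le₂ fun a ha => (h.comm a ha b hb).symm
    rw [e]
    exact f1.mul f2
  · intro b hb
    have := O.comm x O.xD b (O.AD hb)
    rwa [hct] at this
  · have := O.weq
    rwa [hct] at this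
  · have := O.comm x O.xD x O.xD
    rwa [hct] at this
  · intro a ha hax b hb hbb hb1
    have haxD : a * x ∈ D := D.mul_mem (O.AD ha) O.xD
    have haxA : a * x ∉ A := by
      intro h1
      apply O.xA
      have := A.mul_mem (A.inv_mem ha) h1
      rwa [inv_mul_cancel_left] at this
    obtain ⟨k, hk1, hk2, hk3⟩ := O.fus' _ haxD haxA hax b hb hbb hb1
    refine ⟨k, hk1, hk2, ?_⟩
    rw [MulAut.conj_apply, hct, hct] at hk3
    exact hk3

end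

end Cfsg.Agent.Wreath.DThreeGlue
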