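import Cfsg.Agent.Wreath.AData

/-!
# The end of the wreath pattern (S1739): input and the base group `J = A × Aᵗ`

`pr t a b = a * bᵗ` for `a, b ∈ A`.
-/

set_option autoImplicit false

namespace Cfsg.Agent.Wreath.End

open Subgroup
open Cfsg.Agent.Wreath.AData (Facts)

/-- Input of the end of the wreath pattern (bb S1739 #7765): `A` a Sylow 2-subgroup of `2⁴ : A₇`, `[A, Aᵗ] = 1`. -/
structure Inp {G : Type*} [Group G] (t u : G) (A M₁ M₂ : Subgroup G) : Prop where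
  facts : Facts A M₁ M₂ u
  t_ne : t ≠ 1
  t_sq : t * t = 1
  comm : ∀ a ∈ A, ∀ b ∈ A, a * (t * b * t) = (t * b * t) * a
  disj : ∀ a ∈ A, t * a * t ∈ A → a = 1
  /-- `A` lies in every normal subgroup of index 2 -/
  w1 : ∀ f : G →* ℤˣ, ∀ a ∈ A, f a = 1
  w4 : ∀ g : G, (∃ k : ℕ, g ^ 2 ^ k = 1) → (∀ m ∈ M₁, g * m = m * g) →
    (∀ m ∈ M₁, g * (t * m * t) = (t * m * t) * g) → ∃ m ∈ M₁, ∃ n ∈ M₁, g = m * (t * n * t)
  w5 : ∀ a ∈ A, a * a = 1 → a ≠ 1 → ∃ k : G, (∀ b ∈ A, k * (t * b * t) = (t * b * t) * k) ∧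
    k * a * k⁻¹ = u ∧ ∀ f : G →* ℤˣ, f k = 1
  w6 : ∀ T : Subgroup G, IsPGroup 2 T → (∀ x ∈ T, x * t = t * x) →
    (∀ x ∈ T, ∀ m ∈ M₁, ∃ n ∈ M₁, x * (m * (t * m * t)) * x⁻¹ = n * (t * n * t)) → Nat.card T ≤ 2 ^ 8
  w7 : ∀ T : Subgroup G, IsPGroup 2 T → (∀ x ∈ T, x * t = t * x) → Nat.card T ≤ 2 ^ 9

/-- `pr t a b = a * bᵗ` -/
def pr {G : Type*} [Group G] (t a b : G) : G := a * (t * b * t)

variable {G : Type*} [Group G] {t u : G} {A M₁ M₂ : Subgroup G}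

namespace Inp

theorem t_inv (h : Inp t u A M₁ M₂) : t⁻¹ = t := inv_eq_of_mul_eq_one_left h.t_sq

theorem tt (h : Inp t u A M₁ M₂) (x : G) : t * (t * x) = x := by rw [← mul_assoc, h.t_sq, one_mul]

theorem cj_mul (h : Inp t u A M₁ M₂) (x y : G) : t * (x * y) * t = (t * x * t) * (t * y * t) := by
  calc t * (x * y) * t = t * x * (1 * (y * t)) := by group
    _ = t * x * ((t * t) * (y * t)) := by rw [h.t_sq]
    _ = _ := by group

theorem cj_cj (h : Inp t u A M₁ M₂) (x : G) : t * (t * x * t) * t = x := by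
  calc t * (t * x * t) * t = (t * t) * x * (t * t) := by group
    _ = x := by rw [h.t_sq]; group

theorem cj_inv (h : Inp t u A M₁ M₂) (x : G) : t * x⁻¹ * t = (t * x * t)⁻¹ := by
  rw [mul_inv_rev, mul_inv_rev, h.t_inv, ← mul_assoc]

theorem pr_mul (h : Inp t u A M₁ M₂) {a b a' b' : G} (_ha : a ∈ A) (hb : b ∈ A) (ha' : a' ∈ A) (_hb' : b' ∈ A) :
    pr t a b * pr t a' b' = pr t (a * a') (b * b') := by
  unfold pr
  rw [h.cj_mul]
  calc a * (t * b * t) * (a' * (t * b' * t)) = a * ((t * b * t) * a') * (t * b' * t) := by group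
    _ = a * (a' * (t * b * t)) * (t * b' * t) := by rw [h.comm a' ha' b hb]
    _ = _ := by group

theorem pr_one_one (h : Inp t u A M₁ M₂) : pr t 1 1 = 1 := by
  unfold pr; rw [mul_one, h.t_sq, one_mul]

theorem pr_one_right (h : Inp t u A M₁ M₂) (a : G) : pr t a 1 = a := by
  unfold pr; rw [mul_one, h.t_sq, mul_one]

theorem pr_one_left (_h : Inp t u A M₁ M₂) (b : G) : pr t 1 b = t * b * t := by
  unfold pr; rw [one_mul]

/-- The homomorphism `A × A → G`, `(a, b) ↦ a bᵗ`. -/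
def phi (h : Inp t u A M₁ M₂) : A × A →* G where
  toFun p := pr t (p.1 : G) (p.2 : G)
  map_one' := h.pr_one_one
  map_mul' p q := (h.pr_mul p.1.2 p.2.2 q.1.2 q.2.2).symm

theorem phi_apply (h : Inp t u A M₁ M₂) (p : A × A) : h.phi p = pr t (p.1 : G) (p.2 : G) := rfl

theorem phi_inj (h : Inp t u A M₁ M₂) : Function.Injective h.phi := by
  rw [injective_iff_map_eq_one]
  rintro ⟨⟨a, ha⟩, ⟨b, hb⟩⟩ hab
  have h1 : a * (t * b * t) = 1 := hab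
  have h2 : a = (t * b * t)⁻¹ := eq_inv_of_mul_eq_one_left h1
  have h3 : a = 1 := h.disj a ha (by
    rw [h2, ← h.cj_inv, h.cj_cj]; exact A.inv_mem hb)
  have h4 : t * b * t = 1 := by rw [h3, one_mul] at h1; exact h1
  have h5 : b = 1 := by
    have := h.cj_cj b
    rw [h4, mul_one, h.t_sq] at this
    exact this.symm
  subst h3; subst h5; rfl

theorem pr_inj (h : Inp t u A M₁ M₂) {a b a' b' : G} (ha : a ∈ A) (hb : b ∈ A) (ha' : a' ∈ A) (hb' : b' ∈ A)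
    (he : pr t a b = pr t a' b') : a = a' ∧ b = b' := by
  have := h.phi_inj (a₁ := ((⟨a, ha⟩ : A), (⟨b, hb⟩ : A))) (a₂ := ((⟨a', ha'⟩ : A), (⟨b', hb'⟩ : A))) he
  simp only [Prod.mk.injEq, Subtype.mk.injEq] at this
  exact this

theorem pr_inv (h : Inp t u A M₁ M₂) {a b : G} (ha : a ∈ A) (hb : b ∈ A) : (pr t a b)⁻¹ = pr t a⁻¹ b⁻¹ := by
  symm
  apply eq_inv_of_mul_eq_one_left
  rw [h.pr_mul (A.inv_mem ha) (A.inv_mem hb) ha hb, inv_mul_cancel, inv_mul_cancel, h.pr_one_one]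

theorem pr_conj (h : Inp t u A M₁ M₂) {a b x y : G} (ha : a ∈ A) (hb : b ∈ A) (hx : x ∈ A) (hy : y ∈ A) :
    pr t a b * pr t x y * (pr t a b)⁻¹ = pr t (a * x * a⁻¹) (b * y * b⁻¹) := by
  rw [h.pr_inv ha hb, h.pr_mul ha hb hx hy, h.pr_mul (A.mul_mem ha hx) (A.mul_mem hb hy) (A.inv_mem ha) (A.inv_mem hb)]

theorem pr_swap (h : Inp t u A M₁ M₂) {a b : G} (ha : a ∈ A) (hb : b ∈ A) : t * pr t a b * t = pr t b a := by
  unfold pr
  rw [h.cj_mul, h.cj_cj, h.comm b hb a ha]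

theorem pr_eq_one (h : Inp t u A M₁ M₂) {a b : G} (ha : a ∈ A) (hb : b ∈ A) (he : pr t a b = 1) : a = 1 ∧ b = 1 :=
  h.pr_inj ha hb A.one_mem A.one_mem (he.trans h.pr_one_one.symm)

/-- The subgroup `X × Yᵗ`. -/
def PR (h : Inp t u A M₁ M₂) (X Y : Subgroup G) : Subgroup G := ((X.subgroupOf A).prod (Y.subgroupOf A)).map h.phi

theorem mem_PR (h : Inp t u A M₁ M₂) {X Y : Subgroup G} (hX : X ≤ A) (hY : Y ≤ A) {g : G} :
    g ∈ h.PR X Y ↔ ∃ x ∈ X, ∃ y ∈ Y, g = pr t x y := by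
  constructor
  · rintro ⟨⟨x, y⟩, ⟨hx, hy⟩, rfl⟩
    exact ⟨x, hx, y, hy, rfl⟩
  · rintro ⟨x, hx, y, hy, rfl⟩
    exact ⟨(⟨x, hX hx⟩, ⟨y, hY hy⟩), ⟨hx, hy⟩, rfl⟩

theorem pr_mem_PR (h : Inp t u A M₁ M₂) {X Y : Subgroup G} (hX : X ≤ A) (hY : Y ≤ A) {x y : G} (hx : x ∈ X) (hy : y ∈ Y) :
    pr t x y ∈ h.PR X Y := (h.mem_PR hX hY).2 ⟨x, hx, y, hy, rfl⟩

theorem pr_mem_iff (h : Inp t u A M₁ M₂) {X Y : Subgroup G} (hX : X ≤ A) (hY : Y ≤ A) {x y : G} (hx : x ∈ A) (hy : y ∈ A) :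
    pr t x y ∈ h.PR X Y ↔ x ∈ X ∧ y ∈ Y := by
  rw [h.mem_PR hX hY]
  constructor
  · rintro ⟨x', hx', y', hy', he⟩
    obtain ⟨rfl, rfl⟩ := h.pr_inj hx hy (hX hx') (hY hy') he
    exact ⟨hx', hy'⟩
  · rintro ⟨h1, h2⟩
    exact ⟨x, h1, y, h2, rfl⟩

theorem PR_mono (h : Inp t u A M₁ M₂) {X Y X' Y' : Subgroup G} (hX : X ≤ X') (hY : Y ≤ Y') (hX' : X' ≤ A) (hY' : Y' ≤ A) :
    h.PR X Y ≤ h.PR X' Y' := by
  intro g hg
  obtain ⟨x, hx, y, hy, rfl⟩ := (h.mem_PR (hX.trans hX') (hY.trans hY')).1 hg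
  exact h.pr_mem_PR hX' hY' (hX hx) (hY hy)

theorem card_PR (h : Inp t u A M₁ M₂) {X Y : Subgroup G} (hX : X ≤ A) (hY : Y ≤ A) :
    Nat.card (h.PR X Y) = Nat.card X * Nat.card Y := by
  unfold PR
  rw [Nat.card_congr (Subgroup.equivMapOfInjective _ _ h.phi_inj).toEquiv.symm,
    Nat.card_congr (Subgroup.prodEquiv _ _).toEquiv, Nat.card_prod,
    Nat.card_congr (Subgroup.subgroupOfEquivOfLe hX).toEquiv, Nat.card_congr (Subgroup.subgroupOfEquivOfLe hY).toEquiv]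

/-- The base group. -/
def J (h : Inp t u A M₁ M₂) : Subgroup G := h.PR A A

theorem mem_J (h : Inp t u A M₁ M₂) {g : G} : g ∈ h.J ↔ ∃ a ∈ A, ∃ b ∈ A, g = pr t a b := h.mem_PR le_rfl le_rfl

theorem pr_mem_J (h : Inp t u A M₁ M₂) {a b : G} (ha : a ∈ A) (hb : b ∈ A) : pr t a b ∈ h.J := h.mem_J.2 ⟨a, ha, b, hb, rfl⟩

theorem card_J (h : Inp t u A M₁ M₂) : Nat.card h.J = 2 ^ 14 := by
  unfold J; rw [h.card_PR le_rfl le_rfl, h.facts.card]; norm_num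

theorem A_le_J (h : Inp t u A M₁ M₂) : A ≤ h.J := fun a ha => by
  rw [← h.pr_one_right a]; exact h.pr_mem_J ha A.one_mem

theorem isPGroup_J (h : Inp t u A M₁ M₂) : IsPGroup 2 h.J := IsPGroup.of_card h.card_J

theorem u_mem_A (h : Inp t u A M₁ M₂) : u ∈ A := h.facts.le₁ h.facts.u_mem.1

theorem u_sq (h : Inp t u A M₁ M₂) : u * u = 1 := h.facts.sq₁ u h.facts.u_mem.1

/-- `v = uᵗ` -/
theorem v_mem (h : Inp t u A M₁ M₂) : t * u * t ∈ h.J := by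
  rw [← h.pr_one_left]; exact h.pr_mem_J A.one_mem h.u_mem_A

theorem P_le (h : Inp t u A M₁ M₂) : M₁ ⊔ M₂ ≤ A := sup_le h.facts.le₁ h.facts.le₂

theorem V_le (h : Inp t u A M₁ M₂) : M₁ ⊓ M₂ ≤ A := inf_le_left.trans h.facts.le₁

theorem t_not_mem (h : Inp t u A M₁ M₂) : t ∉ h.J := by
  intro ht
  obtain ⟨a, ha, b, hb, he⟩ := h.mem_J.1 ht
  have h1 : t * t * t = t := by rw [h.t_sq, one_mul]
  have h2 : pr t b a = pr t a b := by rw [← h.pr_swap ha hb, ← he, h1]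
  obtain ⟨h3, -⟩ := h.pr_inj hb ha ha hb h2
  subst h3
  -- `t = b bᵗ` commutes with `t`, so `t` centralises `A`
  have h4 : ∀ x ∈ A, b * x * b⁻¹ = 1 := by
    intro x hx
    have h5 : t * pr t x 1 * t = pr t 1 x := h.pr_swap hx A.one_mem
    have h6 : pr t b b * pr t x 1 * (pr t b b)⁻¹ = pr t (b * x * b⁻¹) (b * 1 * b⁻¹) := h.pr_conj hb hb hx A.one_mem
    rw [← he, h.t_inv, h5] at h6
    exact ((h.pr_inj A.one_mem hx (A.mul_mem (A.mul_mem hb hx) (A.inv_mem hb))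
      (A.mul_mem (A.mul_mem hb A.one_mem) (A.inv_mem hb)) h6).1).symm
  have h7 := h4 u h.u_mem_A
  have h8 : u = 1 := by
    have : u = b⁻¹ * (b * u * b⁻¹) * b := by group
    rw [this, h7]; group
  exact h.facts.u_ne h8

end Inp

end Cfsg.Agent.Wreath.End
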