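import Cfsg.Agent.Wreath.AZeroEnd
import Cfsg.Agent.TypeM.SRel

/-!
# `AData.Facts` for the group `S = {μ i * ν (4 j) * β ^ k}` of `TypeM.SRel`

The model group `A0` is mapped isomorphically onto `S` by a table.
-/

set_option autoImplicit false

namespace Cfsg.Agent.Wreath.FactsRel

open Subgroup Cfsg.Agent.TypeM Cfsg.Agent.TypeM.LyL Cfsg.Agent.Wreath.AZero

/-- the table (7 bits each) -/
def FT : ℕ := 474413132444821055217197021350688502112796036810914762142466055882112510771978248972473728670077972845762536872842483048047830664838488070785451342332294974185913999345240165497693072674537447451541202641651487433068195915232473393541461402595412645263677783071514657280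

/-- the code `i + 16 j + 64 k` of the image of the element with code `a` -/
def ft (a : ℕ) : ℕ := Nat.land (Nat.shiftRight FT (Nat.mul 7 a)) 127

/-- components of a code -/
def ci (c : ℕ) : ℕ := c % 16
def cj (c : ℕ) : ℕ := c / 16 % 4
def ck (c : ℕ) : Bool := Nat.beq (c / 64) 1

/-- product of codes -/
def smul (c d : ℕ) : ℕ :=
  match ck c with
  | false => (ci c ^^^ act (cl (cj c)) (ci d)) + 16 * (cj c ^^^ cj d) + (if ck d then 64 else 0)
  | true => (ci c ^^^ act (cl (cj c)) (gm 1 (ci d))) + 16 * (cj c ^^^ (gm 1 (4 * cj d) / 4)) +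
      (if ck d then 0 else 64)

theorem ft_mul : allB 128 (fun a => allB 128 fun b => Nat.beq (ft (mulN a b)) (smul (ft a) (ft b))) = true := by
  decide +kernel

theorem ft_lt : allB 128 (fun a => Nat.blt (ft a) 128) = true := by decide +kernel

theorem ft_ker : allB 128 (fun a => !(Nat.beq (ft a) 0) || Nat.beq a 0) = true := by decide +kernel

theorem ci_lt (c : ℕ) : ci c < 16 := Nat.mod_lt _ (by norm_num)
theorem cj_lt (c : ℕ) : cj c < 4 := Nat.mod_lt _ (by norm_num)

theorem dec {i j k : ℕ} (hi : i < 16) (hj : j < 4) (hk : k < 2) :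
    ci (i + 16 * j + 64 * k) = i ∧ cj (i + 16 * j + 64 * k) = j ∧ ck (i + 16 * j + 64 * k) = decide (k = 1) := by
  refine ⟨?_, ?_, ?_⟩
  · unfold ci; omega
  · unfold cj; omega
  · unfold ck
    have : (i + 16 * j + 64 * k) / 64 = k := by omega
    rw [this]
    rcases (show k = 0 ∨ k = 1 by omega) with rfl | rfl <;> rfl

section

variable {G : Type*} [Group G] {μ ν : ℕ → G} {β : G}

/-- the element with a given code -/
def tg (μ ν : ℕ → G) (β : G) (c : ℕ) : G := μ (ci c) * ν (4 * cj c) * (if ck c then β else 1)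

theorem tg_mk {i j k : ℕ} (hi : i < 16) (hj : j < 4) (hk : k < 2) :
    tg μ ν β (i + 16 * j + 64 * k) = μ i * ν (4 * j) * (if k = 1 then β else 1) := by
  obtain ⟨h1, h2, h3⟩ := dec hi hj hk
  unfold tg
  rw [h1, h2, h3]
  rcases (show k = 0 ∨ k = 1 by omega) with rfl | rfl <;> rfl

theorem tg_mul (H : SRel μ ν β) (c d : ℕ) : tg μ ν β c * tg μ ν β d = tg μ ν β (smul c d) := by
  have h0 := ci_lt c
  have h1 := cj_lt c
  have h2 := ci_lt d
  have h3 := cj_lt d
  have e : tg μ ν β c * tg μ ν β d =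
      μ (ci c) * ν (4 * cj c) * ((if ck c then β else 1) * (μ (ci d) * ν (4 * cj d)) * (if ck d then β else 1)) := by
    unfold tg
    simp only [mul_assoc]
  rw [e]
  cases hc : ck c
  · have e2 : smul c d = (ci c ^^^ act (cl (cj c)) (ci d)) + 16 * (cj c ^^^ cj d) + 64 * (if ck d then 1 else 0) := by
      unfold smul
      rw [hc]
      cases ck d <;> rfl
    rw [e2, tg_mk (TypeM.xor_lt h0 (TypeM.act_lt (cl (cj c)) h2)) (SRel.xor_lt4 _ h1 _ h3)
      (show (if ck d then 1 else 0) < 2 by split_ifs <;> omega), ← H.mulP h0 h2 h1 h3]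
    cases ck d
    · simp only [Bool.false_eq_true, if_false, one_mul, mul_one, mul_assoc, zero_ne_one]
    · simp only [Bool.false_eq_true, if_false, one_mul, if_true, mul_assoc]
  · have g1 : gm 1 (ci d) < 16 := gm_lt 1 _
    have g2 : gm 1 (4 * cj d) / 4 < 4 := SRel.div_lt _ (gm_lt 1 _)
    have e2 : smul c d = (ci c ^^^ act (cl (cj c)) (gm 1 (ci d))) + 16 * (cj c ^^^ (gm 1 (4 * cj d) / 4)) +
        64 * (if ck d then 0 else 1) := by
      unfold smul
      rw [hc]
      cases ck d <;> rfl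
    rw [e2, tg_mk (TypeM.xor_lt h0 (TypeM.act_lt (cl (cj c)) g1)) (SRel.xor_lt4 _ h1 _ g2)
      (show (if ck d then 0 else 1) < 2 by split_ifs <;> omega), ← H.mulP h0 g1 h1 g2]
    have e3 := H.conjP h2 h3
    cases ck d
    · simp only [Bool.false_eq_true, if_false, if_true, mul_one]
      rw [e3]
      simp only [mul_assoc]
    · simp only [if_true, zero_ne_one, if_false, mul_one]
      rw [e3, mul_assoc _ β β, H.ββ, mul_one]

theorem tg_mem (H : SRel μ ν β) (c : ℕ) : tg μ ν β c ∈ H.S := by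
  have h0 := ci_lt c
  have h1 := SRel.four_mul_lt _ (cj_lt c)
  unfold tg
  refine mul_mem (mul_mem (H.mu_mem h0) (H.nu_mem h1)) ?_
  split_ifs
  · exact H.β_mem
  · exact one_mem _

theorem tg_ker (H : SRel μ ν β) {c : ℕ} (hc : c < 128) (h : tg μ ν β c = 1) : c = 0 := by
  have h0 := ci_lt c
  have h1 := cj_lt c
  cases hk : ck c
  · have h2 : μ (ci c) * ν (4 * cj c) = μ 0 * ν (4 * 0) := by
      rw [mul_zero, H.zero, H.zero', one_mul]
      unfold tg at h
      rw [hk] at h
      simpa using h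
    have h3 := H.uniqP h0 (by norm_num) h1 (by norm_num) h2
    have h4 : c / 64 ≠ 1 := by
      intro h5
      unfold ck at hk
      rw [h5] at hk
      exact absurd hk (by decide)
    unfold ci cj at h3
    omega
  · exfalso
    unfold tg at h
    rw [hk, if_pos rfl] at h
    apply H.β_not_mem
    have h2 : (μ (ci c) * ν (4 * cj c))⁻¹ = β := inv_eq_of_mul_eq_one_right h
    have h3 : (μ (ci c) * ν (4 * cj c))⁻¹ ∈ H.P := inv_mem ⟨_, h0, _, h1, rfl⟩
    exact h2 ▸ h3

/-- the homomorphism -/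
def hom (H : SRel μ ν β) : A0 →* H.S where
  toFun a := ⟨tg μ ν β (ft a.c), tg_mem H _⟩
  map_one' := by
    apply Subtype.ext
    show tg μ ν β (ft 0) = 1
    have : ft 0 = 0 + 16 * 0 + 64 * 0 := by decide +kernel
    rw [this, tg_mk (by norm_num) (by norm_num) (by norm_num), mul_zero, H.zero, H.zero']
    simp
  map_mul' a b := by
    apply Subtype.ext
    show tg μ ν β (ft (mulN a.c b.c)) = tg μ ν β (ft a.c) * tg μ ν β (ft b.c)
    rw [tg_mul H, Nat.eq_of_beq_eq_true (allB_spec (allB_spec ft_mul a.c a.h) b.c b.h)]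

theorem hom_inj (H : SRel μ ν β) : Function.Injective (hom H) := by
  rw [injective_iff_map_eq_one]
  intro a ha
  have h1 : tg μ ν β (ft a.c) = 1 := congrArg Subtype.val ha
  have h2 : ft a.c < 128 := by simpa [Nat.blt] using allB_spec ft_lt a.c a.h
  have h3 := tg_ker H h2 h1
  have h4 := allB_spec ft_ker a.c a.h
  rw [h3, Nat.beq_refl, Bool.not_true, Bool.false_or] at h4
  exact A0.ext (Nat.eq_of_beq_eq_true h4)

/-- the isomorphism -/
noncomputable def iso (H : SRel μ ν β) : A0 ≃* H.S :=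
  MulEquiv.ofBijective (hom H) (by
    have : Finite H.S := Nat.finite_of_card_ne_zero (by rw [H.card_S]; norm_num)
    rw [Nat.bijective_iff_injective_and_card]
    exact ⟨hom_inj H, by rw [card_A0, H.card_S]⟩)

theorem emb_iso (H : SRel μ ν β) (a : A0) : emb (iso H) a = tg μ ν β (ft a.c) := rfl

theorem ck1 : allB 128 (fun a => !(tb m1 a) || Nat.blt (ft a) 16) = true := by decide +kernel
theorem ck1' : allB 16 (fun i => anyB 128 fun a => tb m1 a && Nat.beq (ft a) i) = true := by decide +kernel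
theorem ck2 : allB 128 (fun a => !(tb m2 a) || (Nat.blt (ci (ft a)) 4 && !(ck (ft a)))) = true := by decide +kernel
theorem ck2' : allB 16 (fun i => anyB 128 fun a => tb m2 a && Nat.beq (ft a) (i % 4 + 16 * (i / 4))) = true := by
  decide +kernel
theorem cku : ft u0.c = 1 + 16 * 0 + 64 * 0 := by decide +kernel

theorem tg_mu (H : SRel μ ν β) {i : ℕ} (hi : i < 16) : tg μ ν β i = μ i := by
  have h := tg_mk (μ := μ) (ν := ν) (β := β) hi (show (0 : ℕ) < 4 by norm_num) (show (0 : ℕ) < 2 by norm_num)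
  rw [mul_zero, mul_zero, add_zero, add_zero, mul_zero, H.zero', mul_one] at h
  simpa using h

theorem tg_nu (H : SRel μ ν β) {i : ℕ} (hi : i < 16) : tg μ ν β (i % 4 + 16 * (i / 4)) = ν i := by
  have h := tg_mk (μ := μ) (ν := ν) (β := β) (show i % 4 < 16 by omega) (SRel.div_lt i hi)
    (show (0 : ℕ) < 2 by norm_num)
  rw [mul_zero, add_zero] at h
  rw [h, H.nu_split hi]
  simp

theorem im_one (H : SRel μ ν β) {x : G} : x ∈ im (iso H) m1 is1 ↔ ∃ i < 16, x = μ i := by
  constructor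
  · rintro ⟨a, ha, rfl⟩
    have h1 : Nat.blt (ft a.c) 16 = true := imp (allB_spec ck1 a.c a.h) ha
    have h2 : ft a.c < 16 := by simpa [Nat.blt] using h1
    exact ⟨ft a.c, h2, by rw [emb_iso, tg_mu H h2]⟩
  · rintro ⟨i, hi, rfl⟩
    obtain ⟨a, ha, h⟩ := anyB_spec (allB_spec ck1' i hi)
    rw [Bool.and_eq_true] at h
    refine ⟨⟨a, ha⟩, h.1, ?_⟩
    rw [emb_iso]
    show tg μ ν β (ft a) = μ i
    rw [Nat.eq_of_beq_eq_true h.2, tg_mu H hi]

theorem im_two (H : SRel μ ν β) {x : G} : x ∈ im (iso H) m2 is2 ↔ ∃ i < 16, x = ν i := by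
  constructor
  · rintro ⟨a, ha, rfl⟩
    have h1 := imp (allB_spec ck2 a.c a.h) ha
    rw [Bool.and_eq_true] at h1
    have h2 : ci (ft a.c) < 4 := by simpa [Nat.blt] using h1.1
    have h3 : ck (ft a.c) = false := by simpa using h1.2
    have hj := cj_lt (ft a.c)
    refine ⟨ci (ft a.c) + 4 * cj (ft a.c), by omega, ?_⟩
    have e1 : (ci (ft a.c) + 4 * cj (ft a.c)) % 4 = ci (ft a.c) := by omega
    have e2 : (ci (ft a.c) + 4 * cj (ft a.c)) / 4 = cj (ft a.c) := by omega
    rw [H.nu_split (by omega), e1, e2, emb_iso]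
    unfold tg
    rw [h3]
    simp
  · rintro ⟨i, hi, rfl⟩
    obtain ⟨a, ha, h⟩ := anyB_spec (allB_spec ck2' i hi)
    rw [Bool.and_eq_true] at h
    refine ⟨⟨a, ha⟩, h.1, ?_⟩
    rw [emb_iso]
    show tg μ ν β (ft a) = ν i
    rw [Nat.eq_of_beq_eq_true h.2, tg_nu H hi]

/-- **The facts for the group `S`.** -/
theorem facts_S (H : SRel μ ν β) {M₁ M₂ : Subgroup G} (h1 : ∀ x, x ∈ M₁ ↔ ∃ i < 16, x = μ i)
    (h2 : ∀ x, x ∈ M₂ ↔ ∃ i < 16, x = ν i) : AData.Facts H.S M₁ M₂ (μ 1) := by
  have e1 : M₁ = im (iso H) m1 is1 := Subgroup.ext fun x => by rw [h1, im_one]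
  have e2 : M₂ = im (iso H) m2 is2 := Subgroup.ext fun x => by rw [h2, im_two]
  have e3 : μ 1 = emb (iso H) u0 := by
    rw [emb_iso, cku, tg_mk (by norm_num) (by norm_num) (by norm_num), mul_zero, H.zero']
    simp
  rw [e1, e2, e3]
  exact facts (iso H)

/-- the same for a subgroup `A` of order 128 which contains the elements -/
theorem facts_of_rel (H : SRel μ ν β) {A M₁ M₂ : Subgroup G} (hm : ∀ i < 16, μ i ∈ A) (hn : ∀ i < 16, ν i ∈ A)
    (hb : β ∈ A) (hc : Nat.card A = 128) (h1 : ∀ x, x ∈ M₁ ↔ ∃ i < 16, x = μ i)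
    (h2 : ∀ x, x ∈ M₂ ↔ ∃ i < 16, x = ν i) : AData.Facts A M₁ M₂ (μ 1) := by
  have : Finite A := Nat.finite_of_card_ne_zero (by rw [hc]; norm_num)
  have h3 : H.S = A := by
    apply Subgroup.eq_of_le_of_card_ge (H.S_le hm hn hb)
    rw [hc, H.card_S]
  rw [← h3]
  exact facts_S H h1 h2

end

end Cfsg.Agent.Wreath.FactsRel
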