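import Mathlib

/-!
# The number of conjugates of a 2-element in a Sylow 2-subgroup

`|t ^ G| * n = |Syl| * |t ^ G ∩ P|`, where `n`, the number of Sylow 2-subgroups containing `t`, is odd.
-/

set_option autoImplicit false

namespace Cfsg.Agent.Wreath.Count

open Subgroup

variable {G : Type*} [Group G]

/-- the conjugacy class of `t` -/
def Cls (t : G) : Set G := {c | ∃ g, g * t * g⁻¹ = c}

/-- `G / C(t) ≃ t ^ G` -/
noncomputable def quotEquiv (t : G) : (G ⧸ centralizer ({t} : Set G)) ≃ Cls t := by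
  refine Equiv.ofBijective (Quotient.lift (s := QuotientGroup.leftRel (centralizer ({t} : Set G)))
    (fun g => (⟨g * t * g⁻¹, g, rfl⟩ : Cls t)) ?_) ⟨?_, ?_⟩
  · intro a b hab
    have h1 : a⁻¹ * b ∈ centralizer ({t} : Set G) := QuotientGroup.leftRel_apply.mp hab
    rw [mem_centralizer_singleton_iff] at h1
    apply Subtype.ext
    show a * t * a⁻¹ = b * t * b⁻¹
    calc a * t * a⁻¹ = a * (t * (a⁻¹ * b)) * b⁻¹ := by group
      _ = a * (a⁻¹ * b * t) * b⁻¹ := by rw [h1]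
      _ = b * t * b⁻¹ := by group
  · intro x y
    induction x using Quotient.inductionOn with
    | _ a =>
      induction y using Quotient.inductionOn with
      | _ b =>
        intro h
        have h1 : a * t * a⁻¹ = b * t * b⁻¹ := congrArg Subtype.val h
        apply Quotient.sound
        show QuotientGroup.leftRel (centralizer ({t} : Set G)) a b
        rw [QuotientGroup.leftRel_apply, mem_centralizer_singleton_iff]
        calc a⁻¹ * b * t = a⁻¹ * (b * t * b⁻¹) * b := by group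
          _ = a⁻¹ * (a * t * a⁻¹) * b := by rw [h1]
          _ = t * (a⁻¹ * b) := by group
  · rintro ⟨c, g, rfl⟩
    exact ⟨QuotientGroup.mk g, rfl⟩

theorem card_cls (t : G) : Nat.card (Cls t) * Nat.card (centralizer ({t} : Set G)) = Nat.card G := by
  rw [← Nat.card_congr (quotEquiv t)]
  exact (Subgroup.card_eq_card_quotient_mul_card_subgroup _).symm

/-- conjugation on Sylow subgroups containing an element -/
noncomputable def conjEquiv (t g : G) :
    {Q : Sylow 2 G // t ∈ Q} ≃ {Q : Sylow 2 G // g * t * g⁻¹ ∈ Q} where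
  toFun Q := ⟨g • Q.1, by
    have : g * t * g⁻¹ ∈ ((g • Q.1 : Sylow 2 G) : Subgroup G) := ⟨t, Q.2, rfl⟩
    exact this⟩
  invFun Q := ⟨g⁻¹ • Q.1, by
    have h1 : t ∈ ((g⁻¹ • Q.1 : Sylow 2 G) : Subgroup G) := ⟨g * t * g⁻¹, Q.2, by
      show g⁻¹ * (g * t * g⁻¹) * g⁻¹⁻¹ = t
      group⟩
    exact h1⟩
  left_inv Q := Subtype.ext (inv_smul_smul g Q.1)
  right_inv Q := Subtype.ext (smul_inv_smul g Q.1)

theorem mem_smul_iff (P : Sylow 2 G) (g x : G) : x ∈ g • P ↔ g⁻¹ * x * g ∈ P := by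
  constructor
  · intro hx
    obtain ⟨y, hy, e⟩ : x ∈ ((g • P : Sylow 2 G) : Subgroup G) := hx
    have h4 : g * y * g⁻¹ = x := e
    have h5 : g⁻¹ * x * g = y := by rw [← h4]; group
    rw [h5]; exact hy
  · intro hx
    have : x ∈ ((g • P : Sylow 2 G) : Subgroup G) := ⟨g⁻¹ * x * g, hx, by
      show g * (g⁻¹ * x * g) * g⁻¹ = x
      group⟩
    exact this

/-- conjugation on the elements of the class in a Sylow subgroup -/
noncomputable def clsEquiv (t g : G) (P : Sylow 2 G) :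
    {c : Cls t // (c : G) ∈ P} ≃ {c : Cls t // (c : G) ∈ g • P} where
  toFun c := ⟨⟨g * c.1.1 * g⁻¹, by
    obtain ⟨k, hk⟩ := c.1.2
    exact ⟨g * k, by rw [← hk]; group⟩⟩, by
      rw [mem_smul_iff]
      have : g⁻¹ * (g * c.1.1 * g⁻¹) * g = c.1.1 := by group
      rw [this]; exact c.2⟩
  invFun c := ⟨⟨g⁻¹ * c.1.1 * g, by
    obtain ⟨k, hk⟩ := c.1.2
    exact ⟨g⁻¹ * k, by rw [← hk]; group⟩⟩, (mem_smul_iff P g c.1.1).mp c.2⟩
  left_inv c := by
    apply Subtype.ext; apply Subtype.ext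
    show g⁻¹ * (g * c.1.1 * g⁻¹) * g = c.1.1
    group
  right_inv c := by
    apply Subtype.ext; apply Subtype.ext
    show g * (g⁻¹ * c.1.1 * g) * g⁻¹ = c.1.1
    group

variable [Finite G]

/-- double counting -/
theorem double (P : Sylow 2 G) (t : G) :
    Nat.card (Cls t) * Nat.card {Q : Sylow 2 G // t ∈ Q} =
      Nat.card (Sylow 2 G) * Nat.card {c : Cls t // (c : G) ∈ P} := by
  classical
  have : Fintype (Cls t) := Fintype.ofFinite _
  have : Fintype (Sylow 2 G) := Fintype.ofFinite _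
  have e : (Σ c : Cls t, {Q : Sylow 2 G // (c : G) ∈ Q}) ≃
      (Σ Q : Sylow 2 G, {c : Cls t // (c : G) ∈ Q}) :=
    { toFun := fun x => ⟨x.2.1, x.1, x.2.2⟩
      invFun := fun x => ⟨x.2.1, x.1, x.2.2⟩
      left_inv := fun _ => rfl
      right_inv := fun _ => rfl }
  have h1 := Nat.card_congr e
  rw [Nat.card_sigma, Nat.card_sigma] at h1
  have h2 : ∀ c : Cls t, Nat.card {Q : Sylow 2 G // (c : G) ∈ Q} = Nat.card {Q : Sylow 2 G // t ∈ Q} := by
    rintro ⟨c, g, rfl⟩
    exact (Nat.card_congr (conjEquiv t g)).symm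
  have h3 : ∀ Q : Sylow 2 G, Nat.card {c : Cls t // (c : G) ∈ Q} =
      Nat.card {c : Cls t // (c : G) ∈ P} := by
    intro Q
    obtain ⟨g, rfl⟩ := MulAction.exists_smul_eq G P Q
    exact (Nat.card_congr (clsEquiv t g P)).symm
  simp only [h2, h3] at h1
  rw [Finset.sum_const, Finset.sum_const, Finset.card_univ, Finset.card_univ, smul_eq_mul, smul_eq_mul,
    ← Nat.card_eq_fintype_card, ← Nat.card_eq_fintype_card] at h1
  exact h1

/-- the number of Sylow 2-subgroups containing a 2-element is odd -/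
theorem odd_card {t : G} {n : ℕ} (ht : t ^ 2 ^ n = 1) : Odd (Nat.card {Q : Sylow 2 G // t ∈ Q}) := by
  have : Fact (Nat.Prime 2) := ⟨Nat.prime_two⟩
  have hp : IsPGroup 2 (zpowers t) := by
    intro ⟨x, hx⟩
    obtain ⟨i, rfl⟩ := mem_zpowers_iff.mp hx
    refine ⟨n, ?_⟩
    apply Subtype.ext
    show (t ^ i) ^ 2 ^ n = 1
    rw [← zpow_natCast, ← zpow_mul, mul_comm i, zpow_mul, zpow_natCast, ht, one_zpow]
  have h1 := hp.card_modEq_card_fixedPoints (Sylow 2 G)
  have h2 : Nat.card (MulAction.fixedPoints (zpowers t) (Sylow 2 G)) =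
      Nat.card {Q : Sylow 2 G // t ∈ Q} := by
    apply Nat.card_congr
    apply Equiv.subtypeEquivRight
    intro Q
    rw [hp.sylow_mem_fixedPoints_iff, zpowers_le]
    rfl
  rw [h2] at h1
  have h3 := card_sylow_modEq_one 2 G
  have h4 := h1.symm.trans h3
  rw [Nat.odd_iff]
  exact h4

/-- `2 ^ k ∣ |t ^ G ∩ P|` implies `2 ^ k |C_G(t)|_2 ≤ |P|`, in the form: -/
theorem dvd_of_dvd (P : Sylow 2 G) {t : G} {n : ℕ} (ht : t ^ 2 ^ n = 1) {k : ℕ}
    (hk : 2 ^ k ∣ Nat.card {c : Cls t // (c : G) ∈ P}) : 2 ^ k ∣ Nat.card (Cls t) := by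
  have h1 := double P t
  have h2 : 2 ^ k ∣ Nat.card (Cls t) * Nat.card {Q : Sylow 2 G // t ∈ Q} := by
    rw [h1]; exact hk.mul_left _
  refine Nat.Coprime.dvd_of_dvd_mul_right ?_ h2
  apply Nat.Coprime.pow_left
  rw [Nat.coprime_two_left]
  exact odd_card ht

end Cfsg.Agent.Wreath.Count
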