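import Cfsg.Agent.Wreath.CFour
import Cfsg.Agent.Wreath.Count

/-!
# The wreath pattern: `t ~ t w` implies `|S₀ : J| = 4`
-/

set_option autoImplicit false

namespace Cfsg.Agent.Wreath.CountLy

open Subgroup Cfsg.Agent.Wreath.End Cfsg.Agent.StdEven.Syl Cfsg.Agent.Wreath.CommonDef
open Cfsg.Agent.Wreath.Count

variable {G : Type*} [Group G] {t u : G} {A M₁ M₂ : Subgroup G} {h : Inp t u A M₁ M₂}
  {S S₀ : Subgroup G} [Finite G]

section

variable (c : Com h S S₀) {w : G} (hw : w ∈ S₀) (hww : w * w = 1) (hwt : w * t = t * w)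
include c hw hww hwt

omit [Finite G] in
/-- `w` normalises `A` -/
theorem wA {a : G} (ha : a ∈ A) : w * a * w ∈ A := by
  have := c.nA w hw a ha
  rwa [inv_eq_of_mul_eq_one_left hww] at this

omit [Finite G] in
theorem tw_sq : (t * w) * (t * w) = 1 := by
  calc (t * w) * (t * w) = t * (w * t) * w := by group
    _ = (t * t) * (w * w) := by rw [hwt]; group
    _ = 1 := by rw [h.t_sq, hww, one_mul]

omit c hw hww hwt [Finite G] in
include h in
theorem conj_t (a : G) : a * t * a⁻¹ = pr t a a⁻¹ * t := by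
  unfold pr
  calc a * t * a⁻¹ = a * t * a⁻¹ * 1 := by rw [mul_one]
    _ = a * t * a⁻¹ * (t * t) := by rw [h.t_sq]
    _ = a * (t * a⁻¹ * t) * t := by group

omit c hw [Finite G] in
include h in
theorem conj_tw (a : G) : a * (t * w) * a⁻¹ = pr t a (w * a⁻¹ * w) * (w * t) := by
  unfold pr
  calc a * (t * w) * a⁻¹ = a * (t * (w * a⁻¹) * 1) := by group
    _ = a * (t * (w * a⁻¹) * ((w * w) * (t * t))) := by rw [hww, h.t_sq, one_mul]
    _ = a * (t * (w * a⁻¹ * w) * (w * t) * t) := by group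
    _ = a * (t * (w * a⁻¹ * w) * (t * w) * t) := by rw [hwt]
    _ = a * (t * (w * a⁻¹ * w) * t) * (w * t) := by group

/-- the involutions of `S - S₀` -/
theorem of_involution (hwJ : w ∉ h.J) {y : G} (hy : y ∈ S) (hyS : y ∉ S₀) (hyy : y * y = 1) :
    ∃ a ∈ A, y = a * t * a⁻¹ ∨ y = a * (t * w) * a⁻¹ := by
  have h1 := (c.idx y hy).resolve_left hyS
  obtain ⟨s, hs⟩ : ∃ s, s = y * t := ⟨_, rfl⟩
  rw [← hs] at h1
  have hys : y = s * t := by rw [hs, mul_assoc, h.t_sq, mul_one]
  have h2 : s * (t * s * t) = 1 := by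
    calc s * (t * s * t) = (s * t) * (s * t) := by group
      _ = 1 := by rw [← hys, hyy]
  have h3 : t * s * t = s⁻¹ := (inv_eq_of_mul_eq_one_right h2).symm
  by_cases hJ : s ∈ h.J
  · obtain ⟨a, ha, b, hb, e⟩ := h.mem_J.mp hJ
    have h4 : pr t a b * pr t b a = 1 := by rw [← h.pr_swap ha hb, ← e, h2]
    rw [h.pr_mul ha hb hb ha] at h4
    obtain ⟨h5, -⟩ := h.pr_eq_one (A.mul_mem ha hb) (A.mul_mem hb ha) h4
    have h6 : b = a⁻¹ := (inv_eq_of_mul_eq_one_right h5).symm
    refine ⟨a, ha, Or.inl ?_⟩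
    rw [conj_t (h := h) a, hys, e, h6]
  · -- `s w ∈ J`
    have htwt : t * w * t = w := by rw [← hwt, mul_assoc, h.t_sq, mul_one]
    have hFw : ¬ Com.Fx M₁ w := by
      intro h4
      apply hwJ
      rw [c.mem_J_iff hw, htwt]
      exact ⟨h4, h4⟩
    have hFs : ¬ Com.Fx M₁ s := by
      intro h4
      apply hJ
      rw [c.mem_J_iff h1, h3, c.fx_inv]
      exact ⟨h4, h4⟩
    have h4 : s * w ∈ h.J := by
      rw [c.mem_J_iff (S₀.mul_mem h1 hw), h.cj_mul, h3, htwt, c.fx_mul h1 hw,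
        c.fx_mul (S₀.inv_mem h1) hw, c.fx_inv]
      simp only [hFs, hFw, and_self]
    obtain ⟨a, ha, b, hb, e⟩ := h.mem_J.mp h4
    have h5 : y = pr t a b * (w * t) := by
      rw [← e, hys]
      calc s * t = s * (w * w) * t := by rw [hww, mul_one]
        _ = s * w * (w * t) := by group
    have hwi : w⁻¹ = w := inv_eq_of_mul_eq_one_left hww
    -- `(w t) (a, b) (w t) = (w b w, w a w)`
    have h6 : (w * t) * pr t a b * (w * t) = pr t (w * b * w) (w * a * w) := by
      have h7 := h.comm _ (wA c hw hww hwt hb) _ (wA c hw hww hwt ha)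
      unfold pr
      rw [h7]
      calc w * t * (a * (t * b * t)) * (w * t)
          = (w * t) * a * (t * b * t) * (w * t) := by group
        _ = (t * w) * a * 1 * (t * b * t) * (t * w) := by rw [hwt]; group
        _ = (t * w) * a * (w * w) * (t * b * t) * (t * w) := by rw [hww]
        _ = (t * (w * a * w) * 1) * (w * (t * b * (t * t)) * w) := by group
        _ = (t * (w * a * w) * (t * t)) * (w * (t * b * (t * t)) * w) := by rw [h.t_sq]
        _ = (t * (w * a * w) * t) * ((t * w) * t * (b * (t * t)) * w) := by group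
        _ = (t * (w * a * w) * t) * ((w * t) * t * (b * (t * t)) * w) := by rw [hwt]
        _ = (t * (w * a * w) * t) * (w * (t * t) * (b * (t * t)) * w) := by group
        _ = (t * (w * a * w) * t) * (w * b * w) := by rw [h.t_sq]; group
    have h8 : pr t a b * pr t (w * b * w) (w * a * w) = 1 := by
      rw [← h6]
      calc pr t a b * (w * t * pr t a b * (w * t)) = (pr t a b * (w * t)) * (pr t a b * (w * t)) := by
            group
        _ = 1 := by rw [← h5, hyy]
    rw [h.pr_mul ha hb (wA c hw hww hwt hb) (wA c hw hww hwt ha)] at h8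
    obtain ⟨h9, -⟩ := h.pr_eq_one (A.mul_mem ha (wA c hw hww hwt hb))
      (A.mul_mem hb (wA c hw hww hwt ha)) h8
    have h10 : b = w * a⁻¹ * w := by
      have h11 : w * b * w = a⁻¹ := (inv_eq_of_mul_eq_one_right h9).symm
      rw [← h11]
      calc b = (w * w) * b * (w * w) := by rw [hww, one_mul, mul_one]
        _ = w * (w * b * w) * w := by group
    refine ⟨a, ha, Or.inr ?_⟩
    rw [conj_tw (h := h) hww hwt a, h5, h10]

/-- **Counting**: if `t ~ t w`, then `2 ^ 17` divides `|S|`. -/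
theorem dvd_card (hwJ : w ∉ h.J) (htw : ∃ g, g * t * g⁻¹ = t * w) : 2 ^ 17 ∣ Nat.card S := by
  classical
  have hne : S₀ ≠ h.J := fun e => hwJ (e ▸ hw)
  obtain ⟨P, hP⟩ := c.syl.exists_sylow
  have hAS : A ≤ S := (h.A_le_J.trans c.J_le).trans c.le
  have hwA : ∀ {a : G}, a ∈ A → w * a * w ∈ A := fun ha => wA c hw hww hwt ha
  let f : ↥A × Bool → {x : Cls t // (x : G) ∈ P} := fun p =>
    if p.2 then ⟨⟨p.1 * (t * w) * (p.1 : G)⁻¹, by
      obtain ⟨g, hg⟩ := htw
      exact ⟨p.1 * g, by rw [← hg]; group⟩⟩, by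
        show (p.1 : G) * (t * w) * (p.1 : G)⁻¹ ∈ (P : Subgroup G)
        rw [hP]
        exact S.mul_mem (S.mul_mem (hAS p.1.2) (S.mul_mem c.tS (c.le hw))) (S.inv_mem (hAS p.1.2))⟩
    else ⟨⟨p.1 * t * (p.1 : G)⁻¹, p.1, rfl⟩, by
        show (p.1 : G) * t * (p.1 : G)⁻¹ ∈ (P : Subgroup G)
        rw [hP]
        exact S.mul_mem (S.mul_mem (hAS p.1.2) c.tS) (S.inv_mem (hAS p.1.2))⟩
  have hf0 : ∀ a : ↥A, ((f (a, false)).1 : G) = a * t * (a : G)⁻¹ := fun a => rfl
  have hf1 : ∀ a : ↥A, ((f (a, true)).1 : G) = a * (t * w) * (a : G)⁻¹ := fun a => rfl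
  have hmix : ∀ a b : ↥A, (a : G) * t * (a : G)⁻¹ ≠ b * (t * w) * (b : G)⁻¹ := by
    intro a b e
    rw [conj_t (h := h), conj_tw (h := h) hww hwt, ← mul_assoc] at e
    have e1 := mul_right_cancel e
    apply hwJ
    have h1 : w = (pr t (b : G) (w * (b : G)⁻¹ * w))⁻¹ * pr t (a : G) (a : G)⁻¹ := by
      rw [e1]; group
    rw [h1]
    exact h.J.mul_mem (h.J.inv_mem (h.pr_mem_J b.2 (hwA (A.inv_mem b.2))))
      (h.pr_mem_J a.2 (A.inv_mem a.2))
  have hbij : Function.Bijective f := by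
    constructor
    · rintro ⟨a, i⟩ ⟨b, j⟩ hab
      have hab' : ((f (a, i)).1 : G) = ((f (b, j)).1 : G) := by rw [hab]
      cases i <;> cases j
      · rw [hf0, hf0, conj_t (h := h), conj_t (h := h)] at hab'
        have h1 := h.pr_inj a.2 (A.inv_mem a.2) b.2 (A.inv_mem b.2) (mul_right_cancel hab')
        exact Prod.ext (Subtype.ext h1.1) rfl
      · rw [hf0, hf1] at hab'
        exact absurd hab' (hmix a b)
      · rw [hf0, hf1] at hab'
        exact absurd hab'.symm (hmix b a)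
      · rw [hf1, hf1, conj_tw (h := h) hww hwt, conj_tw (h := h) hww hwt] at hab'
        have h1 := h.pr_inj a.2 (hwA (A.inv_mem a.2)) b.2 (hwA (A.inv_mem b.2))
          (mul_right_cancel hab')
        exact Prod.ext (Subtype.ext h1.1) rfl
    · rintro ⟨⟨y, g, hg⟩, hy⟩
      have hyP : y ∈ (P : Subgroup G) := hy
      rw [hP] at hyP
      have hyy : y * y = 1 := by
        rw [← hg]
        calc g * t * g⁻¹ * (g * t * g⁻¹) = g * (t * t) * g⁻¹ := by group
          _ = 1 := by rw [h.t_sq]; group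
      obtain ⟨a, ha, e | e⟩ := of_involution c hw hww hwt hwJ hyP (fun h1 => c.noT g (hg ▸ h1)) hyy
      · exact ⟨(⟨a, ha⟩, false), Subtype.ext (Subtype.ext e.symm)⟩
      · exact ⟨(⟨a, ha⟩, true), Subtype.ext (Subtype.ext e.symm)⟩
  have hcard : Nat.card {x : Cls t // (x : G) ∈ P} = 2 ^ 8 := by
    rw [← Nat.card_congr (Equiv.ofBijective f hbij), Nat.card_prod, h.facts.card]
    simp
  have h1 : 2 ^ 8 ∣ Nat.card (Cls t) := dvd_of_dvd P (n := 1) (by rw [pow_one, pow_two, h.t_sq])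
    (by rw [hcard])
  have h2 : 2 ^ 9 ∣ Nat.card (centralizer ({t} : Set G)) := by
    rw [← (c.sylt hne).2]
    exact Subgroup.card_dvd_of_le inf_le_right
  have h3 : 2 ^ 17 ∣ Nat.card G := by
    rw [← card_cls t, show (2 : ℕ) ^ 17 = 2 ^ 8 * 2 ^ 9 from by norm_num]
    exact mul_dvd_mul h1 h2
  have : Fact (Nat.Prime 2) := ⟨Nat.prime_two⟩
  have h4 := P.pow_dvd_card_of_pow_dvd_card h3
  rw [← hP]
  exact h4

/-- `|S₀ : J| = 4`: some element of `S₀` lies outside `J ∪ J w`. -/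
theorem exists_out (hwJ : w ∉ h.J) (htw : ∃ g, g * t * g⁻¹ = t * w) :
    ∃ s ∈ S₀, s ∉ h.J ∧ s * w ∉ h.J := by
  by_contra hcon
  push Not at hcon
  have h1 := dvd_card c hw hww hwt hwJ htw
  -- `S ⊆ J ∪ J w ∪ J t ∪ J w t`
  have h2 : (S : Set G) ⊆ ((h.J : Set G) ∪ (fun x => x * w) '' (h.J : Set G)) ∪
      ((fun x => x * t) '' (h.J : Set G) ∪ (fun x => x * (w * t)) '' (h.J : Set G)) := by
    intro s hs
    have key : ∀ s ∈ S₀, s ∈ h.J ∨ s * w ∈ h.J := by
      intro s hs
      by_cases h3 : s ∈ h.J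
      · exact Or.inl h3
      · exact Or.inr (hcon s hs h3)
    rcases c.idx s hs with h3 | h3
    · left
      rcases key s h3 with h4 | h4
      · exact Or.inl h4
      · exact Or.inr ⟨_, h4, by show s * w * w = s; rw [mul_assoc, hww, mul_one]⟩
    · right
      rcases key _ h3 with h4 | h4
      · exact Or.inl ⟨_, h4, by show s * t * t = s; rw [mul_assoc, h.t_sq, mul_one]⟩
      · refine Or.inr ⟨_, h4, ?_⟩
        show s * t * w * (w * t) = s
        calc s * t * w * (w * t) = s * t * (w * w) * t := by group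
          _ = s := by rw [hww, mul_one, mul_assoc, h.t_sq, mul_one]
  have h3 := Set.ncard_le_ncard h2 (Set.toFinite _)
  have hJ : (h.J : Set G).ncard = 2 ^ 14 := by
    rw [← Nat.card_coe_set_eq]; exact h.card_J
  have h4 : ∀ x : G, ((fun y => y * x) '' (h.J : Set G)).ncard = 2 ^ 14 := by
    intro x
    rw [Set.ncard_image_of_injective _ (mul_left_injective x), hJ]
  have h5 := Set.ncard_union_le ((h.J : Set G) ∪ (fun x => x * w) '' (h.J : Set G))
    ((fun x => x * t) '' (h.J : Set G) ∪ (fun x => x * (w * t)) '' (h.J : Set G))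
  have h6 := Set.ncard_union_le (h.J : Set G) ((fun x => x * w) '' (h.J : Set G))
  have h7 := Set.ncard_union_le ((fun x => x * t) '' (h.J : Set G))
    ((fun x => x * (w * t)) '' (h.J : Set G))
  rw [h4, h4] at h7
  rw [h4, hJ] at h6
  have h8 : (S : Set G).ncard = Nat.card S := by rw [← Nat.card_coe_set_eq]; rfl
  rw [h8] at h3
  have h9 := Nat.le_of_dvd Nat.card_pos h1
  omega

end

end Cfsg.Agent.Wreath.CountLy
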