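import Mathlib.GroupTheory.Sylow
import Cfsg.Prelude.Def_TwoFusion
import Mathlib.GroupTheory.Transfer

/-!
# Lemma SC: the factors of `S = A × B` are strongly closed

`S` is a Sylow 2-subgroup of `G`, `S = A B` with `[A, B] = 1`, `A ∩ B = 1`, `u ∈ A`, `v ∈ B` involutions, `Z(A) = ⟨u⟩`,
`Z(B) = ⟨v⟩`, `A` and `B` are generated by their involutions, and an involution of `S` is conjugate to `u` (to `v`) if and
only if it lies in `A` (in `B`). Then `A` and `B` are strongly closed in `S`, and their normal closures commute modulo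
`O(G)`.
-/

set_option autoImplicit false

namespace Cfsg.Agent.Wreath.StrongClosure

open Subgroup
open scoped Pointwise

/-! ### transfer -/

/-- The transfer into `P / T`, `T` of index two in the Sylow subgroup `P`, with a central involution `v` outside `T`. -/
theorem exists_hom {H : Type*} [Group H] [Finite H] (P : Sylow 2 H) (T : Subgroup H) {v : H}
    (hvc : ∀ h, h * v = v * h) (hvv : v * v = 1) (hvT : v ∉ T) (hP : ∀ x ∈ P, x ∈ T ∨ x * v ∈ T) :
    ∃ f : H →* ℤˣ, f v = -1 ∧ ∀ i, i * i = 1 → (∀ x, x⁻¹ * i * x ∈ P → x⁻¹ * i * x ∈ T) → f i = 1 := by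
  classical
  let ϕ : (P : Subgroup H) →* ℤˣ :=
    { toFun := fun x => if (x : H) ∈ T then 1 else -1
      map_one' := by rw [if_pos]; exact T.one_mem
      map_mul' := by
        rintro ⟨x, hx⟩ ⟨y, hy⟩
        show (if x * y ∈ T then (1 : ℤˣ) else -1) = (if x ∈ T then 1 else -1) * (if y ∈ T then 1 else -1)
        by_cases hxT : x ∈ T
        · by_cases hyT : y ∈ T
          · rw [if_pos hxT, if_pos hyT, if_pos (T.mul_mem hxT hyT), one_mul]
          · rw [if_pos hxT, if_neg hyT, if_neg, one_mul]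
            intro h
            exact hyT ((T.mul_mem_cancel_left hxT).1 h)
        · by_cases hyT : y ∈ T
          · rw [if_neg hxT, if_pos hyT, if_neg, mul_one]
            intro h
            exact hxT ((T.mul_mem_cancel_right hyT).1 h)
          · have h1 := (hP x hx).resolve_left hxT
            have h2 := (hP y hy).resolve_left hyT
            have h3 : x * y ∈ T := by
              have h4 := T.mul_mem h1 h2
              have h5 : x * v * (y * v) = x * y := by
                calc x * v * (y * v) = x * (v * y) * v := by group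
                  _ = x * y * (v * v) := by rw [← hvc y]; group
                  _ = x * y := by rw [hvv, mul_one]
              rwa [h5] at h4
            rw [if_neg hxT, if_neg hyT, if_pos h3]
            rfl }
  refine ⟨MonoidHom.transfer ϕ, ?_, ?_⟩
  · rw [MonoidHom.transfer_eq_pow ϕ v (fun k g₀ _ => by
      have h1 : Commute g₀ (v ^ k) := (show Commute g₀ v from hvc g₀).pow_right k
      rw [mul_assoc, ← h1.eq, inv_mul_cancel_left])]
    have hodd : Odd (P : Subgroup H).index := by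
      rw [← Nat.not_even_iff_odd, even_iff_two_dvd]
      exact P.not_dvd_index
    obtain ⟨m, hm⟩ := hodd
    have h2 : v ^ (P : Subgroup H).index = v := by
      rw [hm, pow_succ, pow_mul, pow_two, hvv, one_pow, one_mul]
    show (if v ^ (P : Subgroup H).index ∈ T then (1 : ℤˣ) else -1) = -1
    rw [h2, if_neg hvT]
  · intro i hi h
    let _ : Fintype (Quotient (MulAction.orbitRel (zpowers i) (H ⧸ (P : Subgroup H)))) := Fintype.ofFinite _
    rw [MonoidHom.transfer_eq_prod_quotient_orbitRel_zpowers_quot]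
    apply Finset.prod_eq_one
    intro q _
    show (if _ ∈ T then (1 : ℤˣ) else -1) = 1
    rw [if_pos]
    have h1 := QuotientGroup.out_conj_pow_minimalPeriod_mem (P : Subgroup H) i q.out
    show (Quotient.out q.out)⁻¹ * i ^ Function.minimalPeriod (i • ·) q.out * Quotient.out q.out ∈ T
    generalize Function.minimalPeriod (i • ·) q.out = n at h1 ⊢
    rcases Nat.even_or_odd' n with ⟨k, hk | hk⟩
    · rw [hk, pow_mul, pow_two, hi, one_pow, mul_one, inv_mul_cancel]
      exact T.one_mem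
    · have h2 : i ^ n = i := by rw [hk, pow_succ, pow_mul, pow_two, hi, one_pow, one_mul]
      rw [h2] at h1 ⊢
      exact h _ h1

/-! ### extremal conjugates -/

section

variable {G : Type*} [Group G] [Finite G] (S : Sylow 2 G)

/-- `y` is extremal in `S` -/
def Ext (y : G) : Prop := y ∈ S ∧ ∀ R : Subgroup G, IsPGroup 2 R → (∀ r ∈ R, r * y = y * r) →
  ∃ c, c * y = y * c ∧ ∀ r ∈ R, c * r * c⁻¹ ∈ S

/-- every element of `S` has an extremal conjugate -/
theorem exists_ext {y : G} (hy : y ∈ S) {R : Subgroup G} (hR : IsPGroup 2 R) (hRy : ∀ r ∈ R, r * y = y * r) :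
    ∃ g, Ext S (g * y * g⁻¹) ∧ ∀ r ∈ R, g * r * g⁻¹ ∈ S := by
  -- a Sylow subgroup of `C(y)` which contains `R`
  have hRC : R ≤ centralizer ({y} : Set G) := fun r hr => mem_centralizer_singleton_iff.2 (hRy r hr)
  obtain ⟨Q, hQ⟩ := (hR.comap_of_injective (centralizer ({y} : Set G)).subtype (subtype_injective _)).exists_le_sylow
  have hQp : IsPGroup 2 ((Q : Subgroup (centralizer ({y} : Set G))).map (centralizer ({y} : Set G)).subtype) :=
    Q.isPGroup'.map _
  obtain ⟨g, hg⟩ : ∃ g : G, ∀ q ∈ (Q : Subgroup (centralizer ({y} : Set G))).map (centralizer ({y} : Set G)).subtype,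
      g * q * g⁻¹ ∈ S := by
    obtain ⟨S', hS'⟩ := hQp.exists_le_sylow
    obtain ⟨g, hg⟩ := MulAction.exists_smul_eq G S' S
    refine ⟨g, fun q hq => ?_⟩
    rw [← hg]
    show g * q * g⁻¹ ∈ MulAut.conj g • (S' : Subgroup G)
    have h1 := Subgroup.smul_mem_pointwise_smul q (MulAut.conj g) (S' : Subgroup G) (hS' hq)
    rwa [MulAut.smul_def, MulAut.conj_apply] at h1
  have hRQ : ∀ r ∈ R, r ∈ (Q : Subgroup (centralizer ({y} : Set G))).map (centralizer ({y} : Set G)).subtype := by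
    intro r hr
    exact ⟨⟨r, hRC hr⟩, hQ hr, rfl⟩
  -- `y` lies in `Q`
  have hyQ : y ∈ (Q : Subgroup (centralizer ({y} : Set G))).map (centralizer ({y} : Set G)).subtype := by
    have hyC : y ∈ centralizer ({y} : Set G) := mem_centralizer_singleton_iff.2 rfl
    have hp : IsPGroup 2 (zpowers (⟨y, hyC⟩ : centralizer ({y} : Set G))) := by
      have h1 : IsPGroup 2 (zpowers y) := S.isPGroup'.to_le (by rw [zpowers_le]; exact hy)
      have h2 := h1.comap_of_injective (centralizer ({y} : Set G)).subtype (subtype_injective _)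
      refine h2.to_le ?_
      rw [zpowers_le]
      exact mem_zpowers y
    have hn : (zpowers (⟨y, hyC⟩ : centralizer ({y} : Set G))).Normal := by
      refine ⟨fun x hx c => ?_⟩
      obtain ⟨k, rfl⟩ := mem_zpowers_iff.1 hx
      have h1 : Commute c (⟨y, hyC⟩ : centralizer ({y} : Set G)) :=
        Subtype.ext (mem_centralizer_singleton_iff.1 c.2)
      rw [(h1.zpow_right k).eq, mul_inv_cancel_right]
      exact hx
    have h3 : zpowers (⟨y, hyC⟩ : centralizer ({y} : Set G)) ≤ Q := by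
      have h4 := hp.to_sup_of_normal_left Q.isPGroup'
      have h5 := Q.is_maximal' h4 le_sup_right
      rw [← h5]
      exact le_sup_left
    exact ⟨⟨y, hyC⟩, h3 (mem_zpowers _), rfl⟩
  refine ⟨g, ⟨hg y hyQ, ?_⟩, fun r hr => hg r (hRQ r hr)⟩
  intro R' hR' hR'y
  -- conjugate `R'` into `Q`
  have h1 : (R'.map (MulAut.conj g⁻¹).toMonoidHom) ≤ centralizer ({y} : Set G) := by
    rintro _ ⟨r, hr, rfl⟩
    rw [mem_centralizer_singleton_iff]
    have h2 := hR'y r hr
    show g⁻¹ * r * g⁻¹⁻¹ * y = y * (g⁻¹ * r * g⁻¹⁻¹)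
    calc g⁻¹ * r * g⁻¹⁻¹ * y = g⁻¹ * (r * (g * y * g⁻¹)) * g := by group
      _ = g⁻¹ * (g * y * g⁻¹ * r) * g := by rw [h2]
      _ = _ := by group
  have h2 : IsPGroup 2 (R'.map (MulAut.conj g⁻¹).toMonoidHom) := hR'.map _
  obtain ⟨Q', hQ'⟩ := (h2.comap_of_injective (centralizer ({y} : Set G)).subtype (subtype_injective _)).exists_le_sylow
  obtain ⟨c, hc⟩ := MulAction.exists_smul_eq (centralizer ({y} : Set G)) Q' Q
  have hcy := mem_centralizer_singleton_iff.1 c.2
  refine ⟨g * c * g⁻¹, ?_, fun r hr => ?_⟩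
  · calc g * (c : G) * g⁻¹ * (g * y * g⁻¹) = g * ((c : G) * y) * g⁻¹ := by group
      _ = g * (y * (c : G)) * g⁻¹ := by rw [hcy]
      _ = _ := by group
  · have h3 : g⁻¹ * r * g⁻¹⁻¹ ∈ R'.map (MulAut.conj g⁻¹).toMonoidHom := ⟨r, hr, rfl⟩
    have h4 : (⟨g⁻¹ * r * g⁻¹⁻¹, h1 h3⟩ : centralizer ({y} : Set G)) ∈ Q' := hQ' h3
    have h5 := Subgroup.smul_mem_pointwise_smul _ (MulAut.conj c) (Q' : Subgroup (centralizer ({y} : Set G))) h4
    rw [MulAut.smul_def, MulAut.conj_apply] at h5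
    have h6 : c * ⟨g⁻¹ * r * g⁻¹⁻¹, h1 h3⟩ * c⁻¹ ∈ (Q : Subgroup (centralizer ({y} : Set G))) := by
      rw [← hc]; exact h5
    have h7 := hg _ ⟨_, h6, rfl⟩
    have h8 : g * ((c * ⟨g⁻¹ * r * g⁻¹⁻¹, h1 h3⟩ * c⁻¹ : centralizer ({y} : Set G)) : G) * g⁻¹ =
        g * c * g⁻¹ * r * (g * c * g⁻¹)⁻¹ := by
      rw [Subgroup.coe_mul, Subgroup.coe_mul, Subgroup.coe_inv]
      group
    rw [← h8]
    exact h7

/-- an element which is central in `S` is extremal -/
theorem ext_of_central {y : G} (hy : y ∈ S) (hc : ∀ s ∈ S, s * y = y * s) : Ext S y := by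
  obtain ⟨g, ⟨hg1, hg2⟩, hg3⟩ := exists_ext S hy S.isPGroup' hc
  -- `g` normalises `S`
  refine ⟨hy, fun R hR hRy => ?_⟩
  obtain ⟨c, hc1, hc2⟩ := hg2 (R.map (MulAut.conj g).toMonoidHom) (hR.map _) (by
    rintro _ ⟨r, hr, rfl⟩
    show g * r * g⁻¹ * (g * y * g⁻¹) = g * y * g⁻¹ * (g * r * g⁻¹)
    calc g * r * g⁻¹ * (g * y * g⁻¹) = g * (r * y) * g⁻¹ := by group
      _ = g * (y * r) * g⁻¹ := by rw [hRy r hr]
      _ = _ := by group)
  have hn : S.map (MulAut.conj g).toMonoidHom = (S : Subgroup G) := by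
    apply Subgroup.eq_of_le_of_card_ge
    · rintro _ ⟨s, hs, rfl⟩
      exact hg3 s hs
    · rw [Nat.card_congr ((S : Subgroup G).equivMapOfInjective _ (MulAut.conj g).injective).symm.toEquiv]
  refine ⟨g⁻¹ * c * g, ?_, fun r hr => ?_⟩
  · calc g⁻¹ * c * g * y = g⁻¹ * (c * (g * y * g⁻¹)) * g := by group
      _ = g⁻¹ * (g * y * g⁻¹ * c) * g := by rw [hc1]
      _ = _ := by group
  · have h1 : c * (g * r * g⁻¹) * c⁻¹ ∈ (S : Subgroup G) := hc2 (g * r * g⁻¹) ⟨r, hr, rfl⟩
    rw [← hn] at h1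
    obtain ⟨s, hs, h2⟩ := h1
    have h3 : g * s * g⁻¹ = c * (g * r * g⁻¹) * c⁻¹ := h2
    have h4 : g⁻¹ * c * g * r * (g⁻¹ * c * g)⁻¹ = s := by
      calc g⁻¹ * c * g * r * (g⁻¹ * c * g)⁻¹ = g⁻¹ * (c * (g * r * g⁻¹) * c⁻¹) * g := by group
        _ = g⁻¹ * (g * s * g⁻¹) * g := by rw [h3]
        _ = s := by group
    rw [h4]
    exact hs

end

/-! ### the main argument -/

/-- The hypotheses of Lemma SC. -/
structure SC {G : Type*} [Group G] (S : Sylow 2 G) (A B : Subgroup G) (u v : G) : Prop where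
  hA : A ≤ S
  hB : B ≤ S
  comm : ∀ a ∈ A, ∀ b ∈ B, a * b = b * a
  disj : A ⊓ B = ⊥
  prod : ∀ s ∈ S, ∃ a ∈ A, ∃ b ∈ B, s = a * b
  uA : u ∈ A
  uu : u * u = 1
  u1 : u ≠ 1
  vB : v ∈ B
  vv : v * v = 1
  v1 : v ≠ 1
  uc : ∀ a ∈ A, u * a = a * u
  zA : ∀ x ∈ A, (∀ a ∈ A, x * a = a * x) → x = 1 ∨ x = u
  vc : ∀ b ∈ B, v * b = b * v
  zB : ∀ x ∈ B, (∀ b ∈ B, x * b = b * x) → x = 1 ∨ x = v
  genA : A ≤ closure {x | x ∈ A ∧ x * x = 1}
  genB : B ≤ closure {x | x ∈ B ∧ x * x = 1}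
  fA : ∀ x ∈ S, x * x = 1 → x ≠ 1 → (IsConj u x ↔ x ∈ A)
  fB : ∀ x ∈ S, x * x = 1 → x ≠ 1 → (IsConj v x ↔ x ∈ B)

namespace SC

variable {G : Type*} [Group G] {S : Sylow 2 G} {A B : Subgroup G} {u v : G} (H : SC S A B u v)

include H

theorem symm : SC S B A v u where
  hA := H.hB
  hB := H.hA
  comm := fun b hb a ha => (H.comm a ha b hb).symm
  disj := by rw [inf_comm]; exact H.disj
  prod := fun s hs => by
    obtain ⟨a, ha, b, hb, h⟩ := H.prod s hs
    exact ⟨b, hb, a, ha, by rw [h, H.comm a ha b hb]⟩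
  uA := H.vB
  uu := H.vv
  u1 := H.v1
  vB := H.uA
  vv := H.uu
  v1 := H.u1
  uc := H.vc
  zA := H.zB
  vc := H.uc
  zB := H.zA
  genA := H.genB
  genB := H.genA
  fA := H.fB
  fB := H.fA

/-- if `g B g⁻¹ ≤ S` then `g B g⁻¹ ≤ B` -/
theorem conj_B {g : G} (hg : ∀ b ∈ B, g * b * g⁻¹ ∈ S) : ∀ b ∈ B, g * b * g⁻¹ ∈ B := by
  intro b hb
  have h1 : B ≤ B.comap (MulAut.conj g).toMonoidHom := by
    refine H.genB.trans ?_
    rw [closure_le]
    rintro x ⟨hx, hxx⟩
    show g * x * g⁻¹ ∈ B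
    by_cases hx1 : x = 1
    · rw [hx1, mul_one, mul_inv_cancel]
      exact B.one_mem
    · have h2 : IsConj v x := (H.fB x (H.hB hx) hxx hx1).2 hx
      refine (H.fB _ (hg x hx) ?_ ?_).1 ?_
      · calc g * x * g⁻¹ * (g * x * g⁻¹) = g * (x * x) * g⁻¹ := by group
          _ = 1 := by rw [hxx, mul_one, mul_inv_cancel]
      · intro h
        rw [mul_inv_eq_one, mul_eq_left] at h
        exact hx1 h
      · exact h2.trans (isConj_iff.2 ⟨g, rfl⟩)
  exact h1 hb

theorem conj_A {g : G} (hg : ∀ a ∈ A, g * a * g⁻¹ ∈ S) : ∀ a ∈ A, g * a * g⁻¹ ∈ A := H.symm.conj_B hg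

/-- `v` commutes with `S` -/
theorem v_comm : ∀ s ∈ S, s * v = v * s := by
  intro s hs
  obtain ⟨a, ha, b, hb, rfl⟩ := H.prod s hs
  calc a * b * v = a * (b * v) := by group
    _ = a * (v * b) := by rw [H.vc b hb]
    _ = a * v * b := by group
    _ = v * a * b := by rw [H.comm a ha v H.vB]
    _ = v * (a * b) := by group

/-- the elements of `S` which commute with `B` -/
theorem centB {s : G} (hs : s ∈ S) (h : ∀ b ∈ B, s * b = b * s) : s ∈ A ∨ s * v ∈ A := by
  obtain ⟨a, ha, b, hb, rfl⟩ := H.prod s hs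
  have h1 : ∀ c ∈ B, b * c = c * b := by
    intro c hc
    have h2 := h c hc
    have h3 := H.comm a ha c hc
    have h4 : a * (b * c) = a * (c * b) := by
      calc a * (b * c) = a * b * c := by group
        _ = c * a * b := by rw [h2]; group
        _ = a * c * b := by rw [h3]
        _ = a * (c * b) := by group
    exact mul_left_cancel h4
  rcases H.zB b hb h1 with h2 | h2
  · left
    rw [h2, mul_one]; exact ha
  · right
    rw [h2, mul_assoc, H.vv, mul_one]; exact ha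

omit H in
/-- the subgroup generated by the conjugates of `u` in `C(B)` -/
def NN (B : Subgroup G) (u : G) : Subgroup G := closure {h | (∀ b ∈ B, h * b = b * h) ∧ IsConj u h}

theorem A_le : A ≤ NN B u := by
  refine H.genA.trans ?_
  rw [closure_le]
  rintro x ⟨hx, hxx⟩
  by_cases hx1 : x = 1
  · rw [hx1]; exact (NN B u).one_mem
  · exact subset_closure ⟨fun b hb => H.comm x hx b hb, (H.fA x (H.hA hx) hxx hx1).2 hx⟩

omit H in
theorem NN_comm {x : G} (hx : x ∈ NN B u) : ∀ b ∈ B, x * b = b * x := by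
  have h1 : NN B u ≤ centralizer (B : Set G) := by
    unfold NN
    rw [closure_le]
    rintro h ⟨h1, -⟩
    rw [SetLike.mem_coe, mem_centralizer_iff]
    intro b hb
    exact (h1 b hb).symm
  intro b hb
  exact ((mem_centralizer_iff.1 (h1 hx)) b hb).symm

omit H in
theorem NN_conj [Finite G] {g : G} (hg : ∀ b ∈ B, g * b * g⁻¹ ∈ B) {x : G} (hx : x ∈ NN B u) : g * x * g⁻¹ ∈ NN B u := by
  have hgi : ∀ b ∈ B, g⁻¹ * b * g ∈ B := by
    have hn : B.map (MulAut.conj g).toMonoidHom = B := by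
      apply Subgroup.eq_of_le_of_card_ge
      · rintro _ ⟨s, hs, rfl⟩
        exact hg s hs
      · rw [Nat.card_congr (B.equivMapOfInjective _ (MulAut.conj g).injective).symm.toEquiv]
    intro b hb
    rw [← hn] at hb
    obtain ⟨c, hc, hcb⟩ := hb
    have h1 : g * c * g⁻¹ = b := hcb
    have h2 : g⁻¹ * b * g = c := by rw [← h1]; group
    rw [h2]; exact hc
  have h1 : NN B u ≤ (NN B u).comap (MulAut.conj g).toMonoidHom := by
    conv_lhs => unfold NN
    rw [closure_le]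
    rintro h ⟨h1, h2⟩
    show g * h * g⁻¹ ∈ NN B u
    refine subset_closure ⟨fun b hb => ?_, h2.trans (isConj_iff.2 ⟨g, rfl⟩)⟩
    have h3 := h1 _ (hgi b hb)
    calc g * h * g⁻¹ * b = g * (h * (g⁻¹ * b * g)) * g⁻¹ := by group
      _ = g * (g⁻¹ * b * g * h) * g⁻¹ := by rw [h3]
      _ = b * (g * h * g⁻¹) := by group
  exact h1 hx

theorem v_notMem_A : v ∉ A := by
  intro h
  apply H.v1
  have : v ∈ A ⊓ B := ⟨h, H.vB⟩
  rwa [H.disj, mem_bot] at this

variable [Finite G]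

theorem v_notMem : v ∉ NN B u := by
  intro hv
  -- `C(B)` and its Sylow subgroup
  set C := centralizer (B : Set G) with hC
  have hmC : ∀ x : G, x ∈ C ↔ ∀ b ∈ B, x * b = b * x := by
    intro x
    rw [hC, mem_centralizer_iff]
    exact ⟨fun h b hb => (h b hb).symm, fun h b hb => (h b hb).symm⟩
  have hAC : A ≤ C := fun a ha => (hmC a).2 (H.comm a ha)
  have hvC : v ∈ C := (hmC v).2 H.vc
  obtain ⟨Q, hQ⟩ := (S.isPGroup'.comap_of_injective C.subtype (subtype_injective _)).exists_le_sylow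
  have hQS : ∀ x ∈ Q, (x : G) ∈ S := by
    have h1 : IsPGroup 2 ((Q : Subgroup C).map C.subtype) := Q.isPGroup'.map _
    have h2 : IsPGroup 2 B := S.isPGroup'.to_le H.hB
    have h3 : IsPGroup 2 ((Q : Subgroup C).map C.subtype ⊔ B : Subgroup G) := by
      refine IsPGroup.to_sup_of_normal_right' h1 h2 ?_
      rintro _ ⟨x, -, rfl⟩
      have hx := (hmC x).1 x.2
      rw [mem_normalizer_iff]
      intro b
      constructor
      · intro hb
        show (x : G) * b * (x : G)⁻¹ ∈ B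
        rw [hx b hb, mul_inv_cancel_right]
        exact hb
      · intro hb
        have h4 : (x : G) * b * (x : G)⁻¹ ∈ B := hb
        have h5 := hx _ h4
        have h6 : b = (x : G) * b * (x : G)⁻¹ := by
          have h7 : (x : G)⁻¹ * ((x : G) * ((x : G) * b * (x : G)⁻¹)) * x = (x : G) * b := by group
          rw [h5] at h7
          have h8 : (x : G)⁻¹ * ((x : G) * b * (x : G)⁻¹ * (x : G)) * x = b * x := by group
          rw [h8] at h7
          rw [← h7]; group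
        rw [h6]; exact h4
    have h4 : (S : Subgroup G) ≤ (Q : Subgroup C).map C.subtype ⊔ B := by
      intro s hs
      obtain ⟨a, ha, b, hb, rfl⟩ := H.prod s hs
      refine mul_mem (mem_sup_left ?_) (mem_sup_right hb)
      exact ⟨⟨a, hAC ha⟩, hQ (H.hA ha), rfl⟩
    have h5 := S.is_maximal' h3 h4
    intro x hx
    show (x : G) ∈ (S : Subgroup G)
    rw [← h5]
    exact mem_sup_left ⟨x, hx, rfl⟩
  obtain ⟨f, hf1, hf2⟩ := exists_hom Q (A.subgroupOf C) (v := ⟨v, hvC⟩)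
    (fun h => Subtype.ext ((hmC h).1 h.2 v H.vB)) (Subtype.ext H.vv) (fun h => H.v_notMem_A h)
    (fun x hx => H.centB (hQS x hx) ((hmC x).1 x.2))
  have hle : NN B u ≤ (f.ker).map C.subtype := by
    unfold NN
    rw [closure_le]
    rintro h ⟨h1, h2⟩
    have hhC : h ∈ C := (hmC h).2 h1
    refine ⟨⟨h, hhC⟩, ?_, rfl⟩
    obtain ⟨c, hc⟩ := isConj_iff.1 h2
    have hhh : h * h = 1 := by
      rw [← hc]
      calc c * u * c⁻¹ * (c * u * c⁻¹) = c * (u * u) * c⁻¹ := by group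
        _ = 1 := by rw [H.uu, mul_one, mul_inv_cancel]
    show f ⟨h, hhC⟩ = 1
    refine hf2 _ (Subtype.ext hhh) (fun x hx => ?_)
    have h3 : (x : G)⁻¹ * h * x ∈ S := hQS _ hx
    show (x : G)⁻¹ * h * x ∈ A
    refine (H.fA _ h3 ?_ ?_).1 (h2.trans (isConj_iff.2 ⟨(x : G)⁻¹, by rw [inv_inv]⟩))
    · calc (x : G)⁻¹ * h * x * ((x : G)⁻¹ * h * x) = (x : G)⁻¹ * (h * h) * x := by group
        _ = 1 := by rw [hhh, mul_one, inv_mul_cancel]
    · intro h4
      have h5 : h = 1 := by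
        calc h = (x : G) * ((x : G)⁻¹ * h * x) * (x : G)⁻¹ := by group
          _ = 1 := by rw [h4, mul_one, mul_inv_cancel]
      rw [h5] at hc
      exact H.u1 (by rwa [mul_inv_eq_one, mul_eq_left] at hc)
  obtain ⟨v', hv', hvv'⟩ := hle hv
  have h6 : v' = ⟨v, hvC⟩ := Subtype.ext hvv'
  rw [h6] at hv'
  have h7 : f ⟨v, hvC⟩ = 1 := hv'
  rw [hf1] at h7
  exact absurd h7 (by decide)

theorem mem_A {y : G} (hy : y ∈ S) (hyN : y ∈ NN B u) : y ∈ A := by
  rcases H.centB hy (NN_comm hyN) with h | h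
  · exact h
  · exfalso
    apply H.v_notMem
    have h1 : v = y⁻¹ * (y * v) := by group
    rw [h1]
    exact mul_mem (inv_mem hyN) (H.A_le h)

/-- extremal conjugates of elements of `A` lie in `A` -/
theorem ext_mem {x y g : G} (hx : x ∈ A) (hy : Ext S y) (hg : g * x * g⁻¹ = y) : y ∈ A := by
  obtain ⟨c, hc1, hc2⟩ := hy.2 (B.map (MulAut.conj g).toMonoidHom) ((S.isPGroup'.to_le H.hB).map _) (by
    rintro _ ⟨b, hb, rfl⟩
    show g * b * g⁻¹ * y = y * (g * b * g⁻¹)
    rw [← hg]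
    calc g * b * g⁻¹ * (g * x * g⁻¹) = g * (b * x) * g⁻¹ := by group
      _ = g * (x * b) * g⁻¹ := by rw [H.comm x hx b hb]
      _ = _ := by group)
  have h1 : ∀ b ∈ B, c * g * b * (c * g)⁻¹ ∈ B := by
    apply H.conj_B
    intro b hb
    have h2 := hc2 (g * b * g⁻¹) ⟨b, hb, rfl⟩
    have h3 : c * g * b * (c * g)⁻¹ = c * (g * b * g⁻¹) * c⁻¹ := by group
    rw [h3]; exact h2
  refine H.mem_A hy.1 ?_
  have h2 := NN_conj h1 (H.A_le hx)
  have h3 : c * g * x * (c * g)⁻¹ = y := by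
    calc c * g * x * (c * g)⁻¹ = c * (g * x * g⁻¹) * c⁻¹ := by group
      _ = y := by rw [hg, hc1, mul_inv_cancel_right]
  rwa [h3] at h2

/-- **`A` is strongly closed in `S`.** -/
theorem closed : Cfsg.IsStronglyClosed A (S : Subgroup G) := by
  refine ⟨H.hA, fun x hx g hg => ?_⟩
  by_contra hcon
  obtain ⟨c1, hc1, c2, hc2, hy⟩ := H.prod _ hg
  have hc2n : c2 ≠ 1 := fun h => hcon (by rw [hy, h, mul_one]; exact hc1)
  -- a power with `c2` an involution
  obtain ⟨k, hk1, hk2⟩ : ∃ k : ℕ, c2 ^ k * c2 ^ k = 1 ∧ c2 ^ k ≠ 1 := by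
    obtain ⟨n, hn⟩ := (S.isPGroup'.to_le H.hB) ⟨c2, hc2⟩
    have hn' : c2 ^ 2 ^ n = 1 := congrArg Subtype.val hn
    have : ∀ n : ℕ, c2 ^ 2 ^ n = 1 → ∃ k : ℕ, c2 ^ k * c2 ^ k = 1 ∧ c2 ^ k ≠ 1 := by
      intro n
      induction n with
      | zero => intro h; rw [pow_zero, pow_one] at h; exact absurd h hc2n
      | succ n ih =>
        intro h
        by_cases h1 : c2 ^ 2 ^ n = 1
        · exact ih h1
        · refine ⟨2 ^ n, ?_, h1⟩
          rw [← pow_add, ← two_mul, ← pow_succ']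
          exact h
    exact this n hn'
  have hyk : g * x ^ k * g⁻¹ = c1 ^ k * c2 ^ k := by
    have h1 : Commute c1 c2 := H.comm c1 hc1 c2 hc2
    rw [← h1.mul_pow, ← hy, conj_pow]
  have hc1k : c1 ^ k ∈ A := pow_mem hc1 k
  have hc2k : c2 ^ k ∈ B := pow_mem hc2 k
  have hxk : x ^ k ∈ A := pow_mem hx k
  generalize c1 ^ k = d1 at hyk hc1k
  generalize c2 ^ k = d2 at hyk hc2k hk1 hk2
  generalize x ^ k = x' at hyk hxk
  -- conjugate `d2` to `v`
  obtain ⟨m0, hm0⟩ := isConj_iff.1 ((H.fB d2 (H.hB hc2k) hk1 hk2).2 hc2k).symm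
  obtain ⟨c, hc, hcA⟩ := (ext_of_central S (H.hB H.vB) H.v_comm).2 (A.map (MulAut.conj m0).toMonoidHom)
    ((S.isPGroup'.to_le H.hA).map _) (by
    rintro _ ⟨a, ha, rfl⟩
    show m0 * a * m0⁻¹ * v = v * (m0 * a * m0⁻¹)
    rw [← hm0]
    calc m0 * a * m0⁻¹ * (m0 * d2 * m0⁻¹) = m0 * (a * d2) * m0⁻¹ := by group
      _ = m0 * (d2 * a) * m0⁻¹ := by rw [H.comm a ha d2 hc2k]
      _ = _ := by group)
  have hm : ∀ a ∈ A, c * m0 * a * (c * m0)⁻¹ ∈ A := by
    apply H.conj_A
    intro a ha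
    have h2 := hcA (m0 * a * m0⁻¹) ⟨a, ha, rfl⟩
    have h3 : c * m0 * a * (c * m0)⁻¹ = c * (m0 * a * m0⁻¹) * c⁻¹ := by group
    rw [h3]; exact h2
  have hmd : c * m0 * d2 * (c * m0)⁻¹ = v := by
    calc c * m0 * d2 * (c * m0)⁻¹ = c * (m0 * d2 * m0⁻¹) * c⁻¹ := by group
      _ = v := by rw [hm0, hc, mul_inv_cancel_right]
  set a1 := c * m0 * d1 * (c * m0)⁻¹ with ha1
  have ha1A : a1 ∈ A := hm d1 hc1k
  have hy1 : c * m0 * g * x' * (c * m0 * g)⁻¹ = a1 * v := by
    calc c * m0 * g * x' * (c * m0 * g)⁻¹ = c * m0 * (g * x' * g⁻¹) * (c * m0)⁻¹ := by group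
      _ = a1 * (c * m0 * d2 * (c * m0)⁻¹) := by rw [hyk, ha1]; group
      _ = a1 * v := by rw [hmd]
  have hy1S : a1 * v ∈ S := mul_mem (H.hA ha1A) (H.hB H.vB)
  -- an extremal conjugate
  obtain ⟨e, he1, he2⟩ := exists_ext S hy1S (S.isPGroup'.to_le H.hB) (fun b hb => by
    calc b * (a1 * v) = b * a1 * v := by group
      _ = a1 * b * v := by rw [H.comm a1 ha1A b hb]
      _ = a1 * (b * v) := by group
      _ = a1 * (v * b) := by rw [H.vc b hb]
      _ = a1 * v * b := by group)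
  have he3 := H.conj_B he2
  have heA : e * (a1 * v) * e⁻¹ ∈ A := H.ext_mem hxk he1 (g := e * (c * m0 * g)) (by
    rw [← hy1]; group)
  -- `e` centralises `v`
  have hev : e * v * e⁻¹ = v := by
    have hn : B.map (MulAut.conj e).toMonoidHom = B := by
      apply Subgroup.eq_of_le_of_card_ge
      · rintro _ ⟨s, hs, rfl⟩
        exact he3 s hs
      · rw [Nat.card_congr (B.equivMapOfInjective _ (MulAut.conj e).injective).symm.toEquiv]
    rcases H.zB _ (he3 v H.vB) (fun b hb => by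
      rw [← hn] at hb
      obtain ⟨b', hb', hbb⟩ := hb
      have h1 : e * b' * e⁻¹ = b := hbb
      rw [← h1]
      calc e * v * e⁻¹ * (e * b' * e⁻¹) = e * (v * b') * e⁻¹ := by group
        _ = e * (b' * v) * e⁻¹ := by rw [H.vc b' hb']
        _ = _ := by group) with h | h
    · exfalso
      rw [mul_inv_eq_one, mul_eq_left] at h
      exact H.v1 h
    · exact h
  apply H.v_notMem
  have h1 := NN_conj he3 (H.A_le ha1A)
  have h2 := H.A_le heA
  have h3 : v = (e * a1 * e⁻¹)⁻¹ * (e * (a1 * v) * e⁻¹) := by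
    calc v = e * v * e⁻¹ := hev.symm
      _ = _ := by group
  rw [h3]
  exact mul_mem (inv_mem h1) h2

end SC

end Cfsg.Agent.Wreath.StrongClosure
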