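import Cfsg.Agent.Wreath.DFour
import Cfsg.Agent.Wreath.StrongClosure
import Cfsg.Agent.Lib.Cores
import Cfsg.Prelude.Def_CaseTheorems

/-!
# Case (D4): the contradiction

`Goldschmidt's` product theorem (commutator part) is a hypothesis `ProductThm`, see
`TwoFusion.ClosedCommutator.commutator_le`.
-/

set_option autoImplicit false

open Subgroup Cfsg
open scoped commutatorElement

universe u

namespace Cfsg.Agent.Wreath.DFourEnd

open Cfsg.Agent.Wreath.DFour Cfsg.Agent.StdEven.Syl Cfsg.Agent.Wreath.StrongClosure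

/-- Goldschmidt's product theorem, commutator part: `TwoFusion.ClosedCommutator.commutator_le` -/
def ProductThm : Prop :=
  ∀ (G : Type u) [Group G] [Finite G] (P : Sylow 2 G) (A B : Subgroup G), A ⊓ B = ⊥ →
    IsStronglyClosed A (P : Subgroup G) → IsStronglyClosed B (P : Subgroup G) →
      ⁅normalClosure (A : Set G), normalClosure (B : Set G)⁆ ≤ oddCore G

/-- Lemma SC and the product theorem exclude nonabelian simple groups. -/
theorem false_of_sc (hpt : ProductThm.{u}) {X : Type u} [Group X] [Finite X] [IsSimpleGroup X]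
    {S : Sylow 2 X} {A B : Subgroup X} {u v : X} (H : SC S A B u v) (hne : ∃ a b : X, a * b ≠ b * a) :
    False := by
  have h1 := hpt X S A B H.disj H.closed H.symm.closed
  have hA : normalClosure (A : Set X) = ⊤ := by
    rcases (normalClosure_normal (s := (A : Set X))).eq_bot_or_eq_top with h | h
    · exfalso
      apply H.u1
      rw [← mem_bot, ← h]
      exact subset_normalClosure H.uA
    · exact h
  have hB : normalClosure (B : Set X) = ⊤ := by
    rcases (normalClosure_normal (s := (B : Set X))).eq_bot_or_eq_top with h | h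
    · exfalso
      apply H.v1
      rw [← mem_bot, ← h]
      exact subset_normalClosure H.vB
    · exact h
  rw [hA, hB] at h1
  have hO : oddCore X = ⊥ := by
    have hn : (oddCore X).Normal := Lib.Cores.pPrimeCore_normal 2
    rcases hn.eq_bot_or_eq_top with h | h
    · exact h
    · exfalso
      have h2 : Nat.Coprime (Nat.card (oddCore X)) 2 := Lib.Cores.pPrimeCore_coprime 2
      rw [h, card_top] at h2
      have h3 : orderOf u ∣ Nat.card X := orderOf_dvd_natCard u
      have h4 : orderOf u = 2 := orderOf_eq_prime (by rw [pow_two, H.uu]) H.u1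
      rw [h4] at h3
      have h5 := Nat.Coprime.eq_one_of_dvd h2.symm h3
      omega
  obtain ⟨a, b, hab⟩ := hne
  apply hab
  have h2 : ⁅a, b⁆ ∈ (⊥ : Subgroup X) := hO ▸ h1 (commutator_mem_commutator (mem_top a) (mem_top b))
  exact commutatorElement_eq_one_iff_mul_comm.mp (mem_bot.mp h2)

/-- generation passes to subgroups containing the group -/
theorem gen_subgroupOf {G : Type*} [Group G] {D M : Subgroup G} (hDM : D ≤ M)
    (hD : D ≤ closure {x | x ∈ D ∧ x * x = 1}) :
    D.subgroupOf M ≤ closure {x | x ∈ D.subgroupOf M ∧ x * x = 1} := by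
  have h1 : (closure {x : ↥M | x ∈ D.subgroupOf M ∧ x * x = 1}).map M.subtype =
      closure {x | x ∈ D ∧ x * x = 1} := by
    rw [MonoidHom.map_closure]
    congr 1
    ext x
    constructor
    · rintro ⟨y, ⟨hy1, hy2⟩, rfl⟩
      exact ⟨hy1, congrArg Subtype.val hy2⟩
    · rintro ⟨hx1, hx2⟩
      exact ⟨⟨x, hDM hx1⟩, ⟨hx1, Subtype.ext hx2⟩, rfl⟩
  intro x hx
  have h2 : (x : G) ∈ closure {x | x ∈ D ∧ x * x = 1} := hD hx
  rw [← h1] at h2
  obtain ⟨y, hy, e⟩ := h2
  have : y = x := Subtype.ext e
  rwa [← this]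

variable {G : Type u} [Group G] [Finite G] {M S A M₁ M₂ D : Subgroup G} {t u x : G}

omit [Finite G] in
theorem genD (h : Hyp M S A M₁ M₂ D t u x) : D ≤ closure {y | y ∈ D ∧ y * y = 1} := by
  have hA : A ≤ closure {y | y ∈ D ∧ y * y = 1} :=
    h.F.gen.trans (closure_mono fun y hy => ⟨h.AD hy.1, hy.2⟩)
  have hx : x ∈ closure {y | y ∈ D ∧ y * y = 1} := subset_closure ⟨h.xD, h.xx⟩
  intro d hd
  rcases h.ix d hd with h1 | h1
  · exact hA h1
  · have h2 := Subgroup.mul_mem _ (hA h1) (Subgroup.inv_mem _ hx)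
    rwa [mul_inv_cancel_right] at h2

/-- **(D4)** -/
theorem hyp_false (hpt : ProductThm.{u}) (h : Hyp M S A M₁ M₂ D t u x) (hs : IsSimpleGroup ↥M) :
    False := by
  set B : Subgroup G := D.map (MulAut.conj t).toMonoidHom with hB
  have hBT : B ≤ h.T := by
    rintro _ ⟨s, hs, rfl⟩
    exact h.τD_mem hs
  have hBM : B ≤ M := hBT.trans h.TM
  have hinv : ∀ {g : G}, g ∈ B ↔ MulAut.conj t g ∈ D := by
    intro g
    constructor
    · rintro ⟨s, hs, rfl⟩
      show MulAut.conj t (MulAut.conj t s) ∈ D
      rw [h.ττ]; exact hs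
    · intro hg
      exact ⟨_, hg, h.ττ g⟩
  have hmem : ∀ {g : ↥M}, g ∈ (h.sylM.toSylow : Subgroup ↥M) ↔ (g : G) ∈ h.T := by
    intro g
    rw [IsSyl.coe_toSylow, mem_subgroupOf]
  have hconj : ∀ {a b : ↥M}, IsConj a b ↔ Cl M (a : G) (b : G) := by
    intro a b
    rw [isConj_iff]
    constructor
    · rintro ⟨c, e⟩
      exact ⟨c, c.2, congrArg Subtype.val e⟩
    · rintro ⟨c, hc, e⟩
      exact ⟨⟨c, hc⟩, Subtype.ext e⟩
  have hgenB : B ≤ closure {y | y ∈ B ∧ y * y = 1} := by
    have h1 := Subgroup.map_mono (f := (MulAut.conj t).toMonoidHom) (genD h)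
    rw [MonoidHom.map_closure] at h1
    refine h1.trans (closure_mono ?_)
    rintro _ ⟨y, ⟨hy1, hy2⟩, rfl⟩
    refine ⟨⟨y, hy1, rfl⟩, ?_⟩
    show MulAut.conj t y * MulAut.conj t y = 1
    rw [← map_mul, hy2, map_one]
  have hD : ∀ {a : G}, a ∈ D → a * u = u * a := fun ha => h.u_cent ha
  have H : SC h.sylM.toSylow (D.subgroupOf M) (B.subgroupOf M) ⟨u, h.AM h.uA⟩
      ⟨MulAut.conj t u, h.τM (h.AM h.uA)⟩ :=
    { hA := fun a ha => hmem.mpr (h.D_le ha)
      hB := fun b hb => hmem.mpr (hBT hb)
      comm := fun a ha b hb => by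
        obtain ⟨s, hs, e⟩ := hb
        have h1 : (b : G) = MulAut.conj t s := e.symm
        apply Subtype.ext
        show (a : G) * b = b * a
        rw [h1]
        exact h.comm a ha s hs
      disj := by
        rw [eq_bot_iff]
        rintro g ⟨h1, h2⟩
        rw [mem_bot]
        exact Subtype.ext (h.inf g h1 (hinv.mp h2))
      prod := fun s hs => by
        obtain ⟨a, ha, b, hb, e⟩ := hmem.mp hs
        exact ⟨⟨a, h.DM ha⟩, ha, ⟨_, h.τM (h.DM hb)⟩, ⟨b, hb, rfl⟩, Subtype.ext e⟩
      uA := h.uD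
      uu := Subtype.ext h.uu
      u1 := fun e => h.u1 (congrArg Subtype.val e)
      vB := ⟨u, h.uD, rfl⟩
      vv := Subtype.ext h.vv
      v1 := fun e => h.v1 (congrArg Subtype.val e)
      uc := fun a ha => Subtype.ext (hD ha).symm
      zA := fun a ha hc => by
        have h1 := h.center_D ha fun b hb => congrArg Subtype.val (hc ⟨b, h.DM hb⟩ hb)
        exact h1.imp Subtype.ext Subtype.ext
      vc := fun b hb => by
        obtain ⟨s, hs, e⟩ := hb
        have h1 : (b : G) = MulAut.conj t s := e.symm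
        apply Subtype.ext
        show MulAut.conj t u * b = b * MulAut.conj t u
        rw [h1, ← map_mul, ← map_mul, hD hs]
      zB := fun b hb hc => by
        obtain ⟨s, hs, e⟩ := hb
        have e' : (b : G) = MulAut.conj t s := e.symm
        have h1 : s = 1 ∨ s = u := by
          apply h.center_D hs
          intro d hd
          have h2 := congrArg Subtype.val (hc ⟨_, h.τM (h.DM hd)⟩ ⟨d, hd, rfl⟩)
          have h3 : (b : G) * MulAut.conj t d = MulAut.conj t d * b := h2
          rw [e', ← map_mul, ← map_mul] at h3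
          exact (MulAut.conj t).injective h3
        rcases h1 with rfl | rfl
        · left
          apply Subtype.ext
          rw [e', map_one]; rfl
        · right
          exact Subtype.ext e'
      genA := gen_subgroupOf h.DM (genD h)
      genB := gen_subgroupOf hBM hgenB
      fA := fun y hy hyy hy1 => by
        rw [hconj]
        refine ⟨fun hc => h.mem_D_of_clU (hmem.mp hy) hc, fun hyD => ?_⟩
        exact h.clU_of_mem_D hyD (congrArg Subtype.val hyy) fun e => hy1 (Subtype.ext e)
      fB := fun y hy hyy hy1 => by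
        rw [hconj]
        constructor
        · intro hc
          have h1 := h.Cl_τ hc
          rw [show ((⟨MulAut.conj t u, h.τM (h.AM h.uA)⟩ : ↥M) : G) = MulAut.conj t u from rfl,
            h.ττ] at h1
          exact hinv.mpr (h.mem_D_of_clU (h.τ_T (hmem.mp hy)) h1)
        · rintro ⟨s, hs, e⟩
          have e' : (y : G) = MulAut.conj t s := e.symm
          have hss : s * s = 1 := by
            have h1 : (y : G) * y = 1 := congrArg Subtype.val hyy
            rw [e', ← map_mul] at h1
            exact (MulAut.conj t).injective (h1.trans (map_one _).symm)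
          have hs1 : s ≠ 1 := by
            rintro rfl
            rw [map_one] at e'
            exact hy1 (Subtype.ext e')
          have h1 := h.Cl_τ (h.clU_of_mem_D hs hss hs1)
          rw [e']
          exact h1 }
  refine false_of_sc hpt H ?_
  by_contra hne
  push Not at hne
  have h1 : u ∈ ⁅A ⊓ centralizer {x}, A ⊓ centralizer {x}⁆ :=
    h.F.swap₂ x h.xx (fun a ha => h.Dn h.xD ha) (h.sw x h.xD h.xA)
  have h2 : ⁅A ⊓ centralizer {x}, A ⊓ centralizer {x}⁆ ≤ ⊥ := by
    rw [commutator_le]
    rintro a ⟨ha, -⟩ b ⟨hb, -⟩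
    rw [mem_bot, commutatorElement_eq_one_iff_mul_comm]
    exact congrArg Subtype.val (hne ⟨a, h.AM ha⟩ ⟨b, h.AM hb⟩)
  exact h.u1 (mem_bot.mp (h2 h1))

end Cfsg.Agent.Wreath.DFourEnd
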