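import Cfsg.Agent.Wreath.DOneBasic
import Cfsg.Agent.Wreath.DOneTransfer
import Cfsg.Agent.Wreath.COne

/-!
# The end of the wreath pattern (S1739), cases (D1) and (D2): the component is `McL`, `C(t)` induces an outer
automorphism
-/

set_option autoImplicit false
set_option linter.unusedSectionVars false

namespace Cfsg.Agent.Wreath.DTwo

open Subgroup
open Cfsg.Agent.Wreath.AData (Facts)
open Cfsg.Agent.Wreath.End Cfsg.Agent.Wreath.DOne Cfsg.Agent.Wreath.DOneTransfer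
open Cfsg.Agent.StdEven.Syl

variable {G : Type*} [Group G] {t u : G} {A M₁ M₂ : Subgroup G}

/-- Hypotheses of (D1) and (D2). -/
structure Mc (h : Inp t u A M₁ M₂) (S M : Subgroup G) (w : G) : Prop where
  c : Common h S
  noT : ∀ g : G, g * t * g⁻¹ ∈ S → (g * t * g⁻¹) * u * (g * t * g⁻¹)⁻¹ ≠ u
  wS : w ∈ S0 S u
  ww : w * w = 1
  wt : w * t = t * w
  wJ : w ∉ h.J
  /-- `w` induces an outer automorphism on the component of `C(t)` -/
  out : ∃ f : centralizer ({t} : Set G) →* ℤˣ, (∀ ht, f ⟨t, ht⟩ = 1) ∧ ∀ hw, f ⟨w, hw⟩ ≠ 1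
  nM : M.Normal
  tM : t ∉ M
  idx : ∀ g, g ∈ M ∨ g * t ∈ M
  AM : A ≤ M
  perf : M ≤ ⁅M, M⁆
  /-- output of (D3) -/
  d3 : (∃ s ∈ S0 S u, s ∉ h.J ∧ s * w ∉ h.J) → ∃ x ∈ S0 S u, x * x = 1 ∧ x ∉ h.J ∧
    (∀ b ∈ A, x * (t * b * t) = (t * b * t) * x) ∧
    ∀ a ∈ A, (a * x) * (a * x) = 1 → ∀ b ∈ A, b * b = 1 → b ≠ 1 →
      ∃ k, k * (a * x) = (a * x) * k ∧ k * (t * b * t) * k⁻¹ = t * u * t

variable {h : Inp t u A M₁ M₂} {S M : Subgroup G} {w : G} (H : Mc h S M w)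
include H

namespace Mc

theorem w1 : w ≠ 1 := by
  rintro rfl
  exact H.wJ (one_mem _)

theorem twt : t * w * t = w := by rw [← H.wt, mul_assoc, h.t_sq, mul_one]

theorem not_fx : ¬ FX M₁ w := by
  intro h1
  apply H.wJ
  rw [mem_J_iff H.c H.wS, H.twt]
  exact ⟨h1, h1⟩

theorem not_fx' : ¬ FX M₁ (t * w * t) := by rw [H.twt]; exact H.not_fx

theorem J_le_M : h.J ≤ M := by
  intro x hx
  obtain ⟨a, ha, b, hb, rfl⟩ := h.mem_J.1 hx
  refine M.mul_mem (H.AM ha) ?_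
  have := H.nM.conj_mem b (H.AM hb) t
  rwa [h.t_inv] at this

theorem fx_mul {x y : G} (hx : x ∈ S0 S u) (hy : y ∈ S0 S u) : FX M₁ (x * y) ↔ (FX M₁ x ↔ FX M₁ y) :=
  FX_mul h.facts (S0_A H.c hx) (S0_A H.c hy)

theorem fx_mul' {x y : G} (hx : x ∈ S0 S u) (hy : y ∈ S0 S u) :
    FX M₁ (t * (x * y) * t) ↔ (FX M₁ (t * x * t) ↔ FX M₁ (t * y * t)) := by
  rw [h.cj_mul]
  exact FX_mul h.facts (S0_A H.c (cj_mem H.c hx)) (S0_A H.c (cj_mem H.c hy))

variable [Finite G]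

/-- no conjugate of `t` in `S⁰` -/
theorem t_S0 {g : G} (hg : g * t * g⁻¹ ∈ S) : g * t * g⁻¹ ∉ S0 S u := fun h1 =>
  H.noT g hg (conj_eq_iff.2 (mem_S0.1 h1).2)

/-- a conjugate `k⁻¹` of a commutator of `C_S(t^(k⁻¹))` is a commutator of `C(t)` -/
theorem comm_cent {k x : G}
    (hx : x ∈ ⁅(S ⊓ centralizer {k * t * k⁻¹} : Subgroup G), (S ⊓ centralizer {k * t * k⁻¹} : Subgroup G)⁆) :
    k⁻¹ * x * k ∈ ⁅centralizer ({t} : Set G), centralizer ({t} : Set G)⁆ := by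
  have h1 : (S ⊓ centralizer {k * t * k⁻¹}).map (MulAut.conj k⁻¹).toMonoidHom ≤ centralizer ({t} : Set G) := by
    rintro _ ⟨y, ⟨-, hy⟩, rfl⟩
    have hy' := mem_centralizer_singleton_iff.1 hy
    show k⁻¹ * y * k⁻¹⁻¹ ∈ centralizer {t}
    rw [mem_centralizer_singleton_iff, inv_inv]
    calc k⁻¹ * y * k * t = k⁻¹ * (y * (k * t * k⁻¹)) * k := by group
      _ = k⁻¹ * ((k * t * k⁻¹) * y) * k := by rw [hy']
      _ = _ := by group
  have h2 : MulAut.conj k⁻¹ x ∈ (⁅(S ⊓ centralizer {k * t * k⁻¹} : Subgroup G),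
      (S ⊓ centralizer {k * t * k⁻¹} : Subgroup G)⁆).map (MulAut.conj k⁻¹).toMonoidHom := ⟨x, hx, rfl⟩
  rw [map_commutator] at h2
  have h3 := commutator_mono h1 h1 h2
  rwa [MulAut.conj_apply, inv_inv] at h3

/-- **(iii)**: `w` is not conjugate to `z` -/
theorem not_z (g : G) : g * w * g⁻¹ ≠ u * (t * u * t) := by
  intro hg
  obtain ⟨k, hk, hkS⟩ := ext_z H.c hg
  have htS : k * t * k⁻¹ ∈ S := hkS t ⟨H.c.tS, mem_centralizer_singleton_iff.2 H.wt.symm⟩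
  have htt : (k * t * k⁻¹) * (k * t * k⁻¹) = 1 := by
    calc (k * t * k⁻¹) * (k * t * k⁻¹) = k * (t * t) * k⁻¹ := by group
      _ = 1 := by rw [h.t_sq]; group
  have h1 := H.comm_cent (z_comm H.c htS htt (H.t_S0 htS))
  have h2 : k⁻¹ * (u * (t * u * t)) * k = w := by rw [← hk]; group
  rw [h2] at h1
  obtain ⟨f, -, hf⟩ := H.out
  exact hf (mem_centralizer_singleton_iff.2 H.wt) (map_comm_eq_one f h1 _)

theorem not_u (g : G) : g * w * g⁻¹ ≠ u := inner H.c H.wS H.ww H.not_fx H.not_fx' g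

/-- no conjugate of `w` lies in `J` -/
theorem not_J (g : G) : g * w * g⁻¹ ∉ h.J := by
  intro hJ
  have hgg : (g * w * g⁻¹) * (g * w * g⁻¹) = 1 := by
    calc (g * w * g⁻¹) * (g * w * g⁻¹) = g * (w * w) * g⁻¹ := by group
      _ = 1 := by rw [H.ww]; group
  have hg1 : g * w * g⁻¹ ≠ 1 := fun e => H.w1 (conj_eq_one_iff.1 e)
  have e : ∀ k, k * (g * w * g⁻¹) * k⁻¹ = (k * g) * w * (k * g)⁻¹ := fun k => by group
  rcases inv_J H.c hJ hgg hg1 with ⟨k, hk⟩ | ⟨k, hk⟩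
  · exact H.not_u _ ((e k).symm.trans hk)
  · exact H.not_z _ ((e k).symm.trans hk)

theorem isSyl_M : IsSyl (S ⊓ M) M :=
  (isSyl_top H.c).inf_normal le_top (by have := H.nM; rw [normalizer_eq_top_iff.mpr H.nM])

/-- the element of `S⁰` fixing exactly one of `M₁`, `M₁ᵗ` -/
theorem mixed {s : G} (hs : s ∈ S0 S u) (h1 : s ∉ h.J) (h2 : s * w ∉ h.J) : FX M₁ s ↔ ¬ FX M₁ (t * s * t) := by
  rw [mem_J_iff H.c hs] at h1
  rw [mem_J_iff H.c (mul_mem hs H.wS), H.fx_mul hs H.wS, H.fx_mul' hs H.wS] at h2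
  have h3 := H.not_fx
  have h4 := H.not_fx'
  tauto

/-- if such an element exists, `w ∈ M` -/
theorem w_mem {s : G} (hs : s ∈ S0 S u) (h1 : s ∉ h.J) (h2 : s * w ∉ h.J) : w ∈ M := by
  have hm := H.mixed hs h1 h2
  have hs' := cj_mem H.c hs
  have hr : s * (t * s * t) ∈ S0 S u := mul_mem hs hs'
  have hrw : s * (t * s * t) * w ∈ h.J := by
    rw [mem_J_iff H.c (mul_mem hr H.wS), H.fx_mul hr H.wS, H.fx_mul' hr H.wS, H.fx_mul hs hs', H.fx_mul' hs hs',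
      h.cj_cj]
    have h3 := H.not_fx
    have h4 := H.not_fx'
    tauto
  have hrM : s * (t * s * t) ∈ M := by
    rcases H.idx s with h3 | h3
    · have := H.nM.conj_mem s h3 t
      rw [h.t_inv] at this
      exact M.mul_mem h3 this
    · have h4 : s * (t * s * t) = (s * t) * (s * t) := by group
      rw [h4]
      exact M.mul_mem h3 h3
  exact (M.mul_mem_cancel_left hrM).1 (H.J_le_M hrw)

/-- **(D1)** -/
theorem d1 (hw : w ∉ M) : False := by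
  have hcl : ∀ s ∈ S0 S u, s ∈ h.J ∨ s * w ∈ h.J := by
    intro s hs
    by_contra hne
    push Not at hne
    exact hw (H.w_mem hs hne.1 hne.2)
  have hwt : w * t ∈ M := by
    rcases H.idx w with h1 | h1
    · exact (hw h1).elim
    · exact h1
  set y := w * t with hy
  have hyy : y * y = 1 := by
    rw [hy]
    calc w * t * (w * t) = w * (t * w * t) := by group
      _ = 1 := by rw [H.twt, H.ww]
  have hyS : y ∈ S := S.mul_mem (mem_S0.1 H.wS).1 H.c.tS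
  have hy0 : y ∉ S0 S u := fun h1 => t_notMem H.c ((mul_mem_cancel_left H.wS).1 h1)
  -- `y` is not conjugate to `u`, `z`
  have n1 : ∀ g, g * y * g⁻¹ ≠ u := outer H.c hyS hyy hy0
  have n2 : ∀ g, g * y * g⁻¹ ≠ u * (t * u * t) := by
    intro g hg
    obtain ⟨k, hk, hkS⟩ := ext_z H.c hg
    have hty : t * y = y * t := by
      rw [hy, ← mul_assoc, ← H.wt]
    have htS : k * t * k⁻¹ ∈ S := hkS t ⟨H.c.tS, mem_centralizer_singleton_iff.2 hty⟩
    have htM : k * t * k⁻¹ ∉ M := by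
      intro h1
      apply H.tM
      have h2 := H.nM.conj_mem _ h1 k⁻¹
      have h3 : k⁻¹ * (k * t * k⁻¹) * k⁻¹⁻¹ = t := by group
      rwa [h3] at h2
    have ht0 := mul_t_mem H.c htS (H.t_S0 htS)
    have htJ : k * t * k⁻¹ * t ∈ h.J := by
      rcases hcl _ ht0 with h1 | h1
      · exact h1
      · exfalso
        apply htM
        have h2 : k * t * k⁻¹ * y ∈ M := by
          have h3 : k * t * k⁻¹ * y = k * t * k⁻¹ * t * w := by rw [hy, H.wt]; group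
          rw [h3]; exact H.J_le_M h1
        exact (M.mul_mem_cancel_right hwt).1 h2
    have hj : k * t * k⁻¹ * t * t = k * t * k⁻¹ := by rw [mul_assoc, h.t_sq, mul_one]
    obtain ⟨a, ha, hat⟩ := COne.exists_conj_t h htJ (by
      rw [hj]
      calc (k * t * k⁻¹) * (k * t * k⁻¹) = k * (t * t) * k⁻¹ := by group
        _ = 1 := by rw [h.t_sq]; group)
    rw [hj] at hat
    have haS : a⁻¹ ∈ S := S.inv_mem (H.c.JS (h.A_le_J ha))
    have hc : (a⁻¹ * k) * t = t * (a⁻¹ * k) := by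
      calc (a⁻¹ * k) * t = a⁻¹ * (k * t * k⁻¹) * k := by group
        _ = a⁻¹ * (a * t * a⁻¹) * k := by rw [hat]
        _ = _ := by group
    have hcz : (a⁻¹ * k) * y * (a⁻¹ * k)⁻¹ = u * (t * u * t) := by
      calc (a⁻¹ * k) * y * (a⁻¹ * k)⁻¹ = a⁻¹ * (k * y * k⁻¹) * a⁻¹⁻¹ := by group
        _ = u * (t * u * t) := by rw [hk]; exact conj_eq_iff.2 (S_z H.c haS)
    have ht1 : (1 : G) * t * 1⁻¹ ∈ S := by rw [one_mul, inv_one, mul_one]; exact H.c.tS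
    have hz := H.comm_cent (k := 1) (x := u * (t * u * t)) (by
      refine z_comm H.c ht1 ?_ (H.t_S0 ht1)
      rw [one_mul, inv_one, mul_one, h.t_sq])
    rw [inv_one, one_mul, mul_one] at hz
    obtain ⟨f, hft, hf⟩ := H.out
    have hwC : w ∈ centralizer ({t} : Set G) := mem_centralizer_singleton_iff.2 H.wt
    have htC : t ∈ centralizer ({t} : Set G) := mem_centralizer_singleton_iff.2 rfl
    have hkC : a⁻¹ * k ∈ centralizer ({t} : Set G) := mem_centralizer_singleton_iff.2 hc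
    have hzC : u * (t * u * t) ∈ centralizer ({t} : Set G) := mem_centralizer_singleton_iff.2 (S_z H.c H.c.tS).symm
    apply hf hwC
    have e1 : f ⟨w, hwC⟩ * f ⟨t, htC⟩ = f ⟨u * (t * u * t), hzC⟩ := by
      have e2 : (⟨u * (t * u * t), hzC⟩ : centralizer ({t} : Set G)) =
          ⟨a⁻¹ * k, hkC⟩ * (⟨w, hwC⟩ * ⟨t, htC⟩) * (⟨a⁻¹ * k, hkC⟩)⁻¹ := Subtype.ext hcz.symm
      rw [e2, map_mul, map_mul, map_mul, map_inv, mul_comm (f ⟨a⁻¹ * k, hkC⟩), mul_inv_cancel_right]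
    rw [hft, mul_one, map_comm_eq_one f hz] at e1
    exact e1
  -- transfer
  have hJS : h.J ≤ S ⊓ M := le_inf H.c.JS H.J_le_M
  have hyM : y ∈ S ⊓ M := ⟨hyS, hwt⟩
  have hyJ : y ∉ h.J := fun h1 => hy0 (J_le_S0 H.c h1)
  have h2 : h.J.relIndex (S ⊓ M) = 2 := by
    refine relIndex_two hyM hyJ fun g hg => ?_
    by_cases hg0 : g ∈ S0 S u
    · rcases hcl g hg0 with h1 | h1
      · exact Or.inl h1
      · exact (hw ((M.mul_mem_cancel_left hg.2).1 (H.J_le_M h1))).elim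
    · have h3 := mul_t_mem H.c hg.1 hg0
      rcases hcl _ h3 with h1 | h1
      · exact (H.tM ((M.mul_mem_cancel_left hg.2).1 (H.J_le_M h1))).elim
      · right
        have h4 : g * y = g * t * w := by rw [hy, H.wt]; group
        rw [h4]; exact h1
  obtain ⟨g, -, hg, -⟩ := transfer_two H.isSyl_M hJS h2 H.perf hwt hyy (R := ⊥) IsPGroup.of_bot bot_le
    (fun r hr => by rw [mem_bot.1 hr, one_mul, mul_one])
  have hgg : (g * y * g⁻¹) * (g * y * g⁻¹) = 1 := by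
    calc (g * y * g⁻¹) * (g * y * g⁻¹) = g * (y * y) * g⁻¹ := by group
      _ = 1 := by rw [hyy]; group
  have hg1 : g * y * g⁻¹ ≠ 1 := fun e => hyJ (by rw [conj_eq_one_iff.1 e]; exact one_mem _)
  have e : ∀ k, k * (g * y * g⁻¹) * k⁻¹ = (k * g) * y * (k * g)⁻¹ := fun k => by group
  rcases inv_J H.c hg hgg hg1 with ⟨k, hk⟩ | ⟨k, hk⟩
  · exact n1 _ ((e k).symm.trans hk)
  · exact n2 _ ((e k).symm.trans hk)

/-- **(D2)**, `|S⁰ : J| = 2` -/
theorem d2a (hw : w ∈ M) (hcl : ∀ s ∈ S0 S u, s ∈ h.J ∨ s * w ∈ h.J) : False := by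
  have hJS : h.J ≤ S ⊓ M := le_inf H.c.JS H.J_le_M
  have hwM : w ∈ S ⊓ M := ⟨(mem_S0.1 H.wS).1, hw⟩
  have h2 : h.J.relIndex (S ⊓ M) = 2 := by
    refine relIndex_two hwM H.wJ fun g hg => ?_
    by_cases hg0 : g ∈ S0 S u
    · exact hcl g hg0
    · exfalso
      have h3 := mul_t_mem H.c hg.1 hg0
      apply H.tM
      rcases hcl _ h3 with h1 | h1
      · exact (M.mul_mem_cancel_left hg.2).1 (H.J_le_M h1)
      · exact (M.mul_mem_cancel_left hg.2).1 ((M.mul_mem_cancel_right hw).1 (H.J_le_M h1))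
  obtain ⟨g, -, hg, -⟩ := transfer_two H.isSyl_M hJS h2 H.perf hw H.ww (R := ⊥) IsPGroup.of_bot bot_le
    (fun r hr => by rw [mem_bot.1 hr, one_mul, mul_one])
  exact H.not_J g hg

/-- the subgroup of the elements of `S⁰` with `FX M₁ x` -/
def K1 : Subgroup G where
  carrier := {x | x ∈ S0 S u ∧ FX M₁ x}
  one_mem' := ⟨one_mem _, FX_one h.facts⟩
  mul_mem' := by
    rintro a b ⟨ha, ha'⟩ ⟨hb, hb'⟩
    exact ⟨mul_mem ha hb, (H.fx_mul ha hb).2 (iff_of_true ha' hb')⟩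
  inv_mem' := by
    rintro a ⟨ha, ha'⟩
    exact ⟨inv_mem ha, (FX_inv h.facts (S0_A H.c ha)).2 ha'⟩

theorem fx_inv' {x : G} (hx : x ∈ S0 S u) : FX M₁ (t * x⁻¹ * t) ↔ FX M₁ (t * x * t) := by
  rw [h.cj_inv]
  exact FX_inv h.facts (S0_A H.c (cj_mem H.c hx))

/-- the subgroup of the elements of `S⁰` with `FX M₁ (t * x * t)` -/
def K2 : Subgroup G where
  carrier := {x | x ∈ S0 S u ∧ FX M₁ (t * x * t)}
  one_mem' := ⟨one_mem _, by rw [mul_one, h.t_sq]; exact FX_one h.facts⟩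
  mul_mem' := by
    rintro a b ⟨ha, ha'⟩ ⟨hb, hb'⟩
    exact ⟨mul_mem ha hb, (H.fx_mul' ha hb).2 (iff_of_true ha' hb')⟩
  inv_mem' := by
    rintro a ⟨ha, ha'⟩
    exact ⟨inv_mem ha, (H.fx_inv' ha).2 ha'⟩

/-- the subgroup of the elements of `S⁰` with `FX M₁ x ↔ FX M₁ (t * x * t)` -/
def K3 : Subgroup G where
  carrier := {x | x ∈ S0 S u ∧ (FX M₁ x ↔ FX M₁ (t * x * t))}
  one_mem' := ⟨one_mem _, by rw [mul_one, h.t_sq]⟩
  mul_mem' := by
    rintro a b ⟨ha, ha'⟩ ⟨hb, hb'⟩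
    refine ⟨mul_mem ha hb, ?_⟩
    rw [H.fx_mul ha hb, H.fx_mul' ha hb, ha', hb']
  inv_mem' := by
    rintro a ⟨ha, ha'⟩
    refine ⟨inv_mem ha, ?_⟩
    rw [FX_inv h.facts (S0_A H.c ha), H.fx_inv' ha, ha']

theorem mem_K1 {x : G} : x ∈ H.K1 ↔ x ∈ S0 S u ∧ FX M₁ x := Iff.rfl

theorem mem_K2 {x : G} : x ∈ H.K2 ↔ x ∈ S0 S u ∧ FX M₁ (t * x * t) := Iff.rfl

theorem mem_K3 {x : G} : x ∈ H.K3 ↔ x ∈ S0 S u ∧ (FX M₁ x ↔ FX M₁ (t * x * t)) := Iff.rfl

/-- upper bound for the centraliser of an involution of `J w` -/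
theorem card_cent_le {y : G} (hy : y ∈ S0 S u) (hyy : y * y = 1) (h1 : ¬ FX M₁ y) (h2 : ¬ FX M₁ (t * y * t)) :
    Nat.card (S0 S u ⊓ centralizer {y} : Subgroup G) ≤ 2 ^ 10 := by
  set C := (S0 S u ⊓ centralizer {y} : Subgroup G) with hC
  have F := h.facts
  have hy' := cj_mem H.c hy
  have hyy' : (t * y * t) * (t * y * t) = 1 := by rw [← h.cj_mul, hyy, mul_one, h.t_sq]
  have c1 : Nat.card C ≤ 2 * Nat.card (C ⊓ H.K1 : Subgroup G) := by
    apply card_le_two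
    intro a ha b hb ha' hb'
    have ha0 : a ∈ S0 S u := ha.1
    have hb0 : b ∈ S0 S u := hb.1
    rw [H.mem_K1] at ha' hb' ⊢
    refine ⟨mul_mem ha0 hb0, (H.fx_mul ha0 hb0).2 ?_⟩
    tauto
  have c2 : Nat.card (C ⊓ H.K1 : Subgroup G) ≤ 2 * Nat.card ((C ⊓ H.K1) ⊓ H.K2 : Subgroup G) := by
    apply card_le_two
    intro a ha b hb ha' hb'
    have ha0 : a ∈ S0 S u := ha.1.1
    have hb0 : b ∈ S0 S u := hb.1.1
    rw [H.mem_K2] at ha' hb' ⊢
    refine ⟨mul_mem ha0 hb0, (H.fx_mul' ha0 hb0).2 ?_⟩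
    tauto
  have c3 : ((C ⊓ H.K1) ⊓ H.K2 : Subgroup G) ≤ h.PR (A ⊓ centralizer {y}) (A ⊓ centralizer {t * y * t}) := by
    rintro x ⟨⟨⟨hx0, hxy⟩, hx1⟩, hx2⟩
    have hxJ : x ∈ h.J := (mem_J_iff H.c hx0).2 ⟨hx1.2, hx2.2⟩
    have hxy' := mem_centralizer_singleton_iff.1 hxy
    obtain ⟨a, ha, b, hb, rfl⟩ := h.mem_J.1 hxJ
    have e1 : y * pr t a b * y⁻¹ = pr t a b := by rw [← hxy', mul_inv_cancel_right]
    have hya : y * a * y⁻¹ ∈ A := S0_A H.c hy a ha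
    have hyb : (t * y * t) * b * (t * y * t)⁻¹ ∈ A := S0_A H.c hy' b hb
    have e2 : y * pr t a b * y⁻¹ = pr t (y * a * y⁻¹) ((t * y * t) * b * (t * y * t)⁻¹) := by
      unfold pr
      rw [h.cj_mul, h.cj_mul, h.cj_inv, h.cj_cj]
      group
    rw [e2] at e1
    obtain ⟨e3, e4⟩ := h.pr_inj hya hyb ha hb e1
    refine h.pr_mem_PR inf_le_left inf_le_left ⟨ha, ?_⟩ ⟨hb, ?_⟩
    · exact mem_centralizer_singleton_iff.2 (conj_eq_iff.1 e3).symm
    · exact mem_centralizer_singleton_iff.2 (conj_eq_iff.1 e4).symm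
  have c4 := Subgroup.card_le_of_le c3
  rw [h.card_PR inf_le_left inf_le_left] at c4
  have c5 := F.swap₃ y hyy (S0_A H.c hy) (swaps F (S0_A H.c hy) h1)
  have c6 := F.swap₃ (t * y * t) hyy' (S0_A H.c hy') (swaps F (S0_A H.c hy') h2)
  have c7 := Nat.mul_le_mul c5 c6
  omega

set_option maxHeartbeats 2000000 in
/-- **(D2)**, `S ∩ M = S⁰` -/
theorem d2b {s : G} (hs : s ∈ S0 S u) (hs1 : s ∉ h.J) (hs2 : s * w ∉ h.J) (hsM : s ∈ M) : False := by
  have F := h.facts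
  have hw : w ∈ M := H.w_mem hs hs1 hs2
  have hmix := H.mixed hs hs1 hs2
  have hnw := H.not_fx
  have hnw' := H.not_fx'
  -- `S⁰ ≤ M`
  have h0M : S0 S u ≤ M := by
    intro g hg
    have hgw : g * w ∈ S0 S u := mul_mem hg H.wS
    have hgs : g * s ∈ S0 S u := mul_mem hg hs
    have hgsw : g * s * w ∈ S0 S u := mul_mem hgs H.wS
    have hcase : g ∈ h.J ∨ g * w ∈ h.J ∨ g * s ∈ h.J ∨ g * s * w ∈ h.J := by
      rw [mem_J_iff H.c hg, mem_J_iff H.c hgw, mem_J_iff H.c hgs, mem_J_iff H.c hgsw, H.fx_mul hg H.wS,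
        H.fx_mul' hg H.wS, H.fx_mul hgs H.wS, H.fx_mul' hgs H.wS, H.fx_mul hg hs, H.fx_mul' hg hs]
      tauto
    rcases hcase with h1 | h1 | h1 | h1
    · exact H.J_le_M h1
    · exact (M.mul_mem_cancel_right hw).1 (H.J_le_M h1)
    · exact (M.mul_mem_cancel_right hsM).1 (H.J_le_M h1)
    · exact (M.mul_mem_cancel_right hsM).1 ((M.mul_mem_cancel_right hw).1 (H.J_le_M h1))
  have hSM : S ⊓ M = S0 S u := by
    apply le_antisymm
    · rintro g ⟨hg, hgM⟩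
      by_contra hg0
      have h3 := h0M (mul_t_mem H.c hg hg0)
      exact H.tM ((M.mul_mem_cancel_left hgM).1 h3)
    · exact le_inf inf_le_left h0M
  have hsyl : IsSyl (S0 S u) M := hSM ▸ H.isSyl_M
  have h0p : IsPGroup 2 (S0 S u) := H.c.pS.to_le inf_le_left
  obtain ⟨x, hx, hxx, hxJ, hxB, hfus⟩ := H.d3 ⟨s, hs, hs1, hs2⟩
  -- `x` fixes `M₁ᵗ` and swaps `M₁` and `M₂`
  have hx2 : FX M₁ (t * x * t) := by
    intro m hm
    have hmA : m ∈ A := F.le₁ hm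
    have e1 : t * x * t * m * (t * x * t)⁻¹ = m := by
      rw [← h.cj_inv]
      calc t * x * t * m * (t * x⁻¹ * t) = t * (x * (t * m * t) * x⁻¹) * t := by group
        _ = t * (t * m * t) * t := by rw [hxB m hmA, mul_inv_cancel_right]
        _ = m := h.cj_cj m
    rw [e1]; exact hm
  have hx1 : ¬ FX M₁ x := fun h1 => hxJ ((mem_J_iff H.c hx).2 ⟨h1, hx2⟩)
  -- first transfer
  have r1 : (H.K2).relIndex (S0 S u) = 2 := by
    refine relIndex_two H.wS (fun h1 => hnw' (H.mem_K2.1 h1).2) fun g hg => ?_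
    rw [H.mem_K2, H.mem_K2, H.fx_mul' hg H.wS]
    have := mul_mem hg H.wS
    tauto
  obtain ⟨g₁, hg₁, hg₁', -⟩ := transfer_two hsyl (fun g hg => (H.mem_K2.1 hg).1) r1 H.perf hw H.ww (R := ⊥)
    IsPGroup.of_bot bot_le (fun r hr => by rw [mem_bot.1 hr, one_mul, mul_one])
  set w' := g₁ * w * g₁⁻¹ with hw'
  obtain ⟨hw0, hwf'⟩ := H.mem_K2.1 hg₁'
  have hwJ : w' ∉ h.J := H.not_J g₁
  have hwf : ¬ FX M₁ w' := fun h1 => hwJ ((mem_J_iff H.c hw0).2 ⟨h1, hwf'⟩)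
  have hww' : w' * w' = 1 := by
    calc (g₁ * w * g₁⁻¹) * (g₁ * w * g₁⁻¹) = g₁ * (w * w) * g₁⁻¹ := by group
      _ = 1 := by rw [H.ww]; group
  have hwx : w' * x ∈ h.J := by
    rw [mem_J_iff H.c (mul_mem hw0 hx), H.fx_mul hw0 hx, H.fx_mul' hw0 hx]
    tauto
  obtain ⟨a, ha, b, hb, hab⟩ := h.mem_J.1 hwx
  have hxi : x⁻¹ = x := inv_eq_of_mul_eq_one_left hxx
  set y := a * x with hy
  have hyB : ∀ d ∈ A, y * (t * d * t) = (t * d * t) * y := by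
    intro d hd
    rw [hy, mul_assoc, hxB d hd, ← mul_assoc, h.comm a ha d hd, mul_assoc]
  have hwy : w' = y * (t * b * t) := by
    have e1 : w' = pr t a b * x := by rw [← hab, mul_assoc, hxx, mul_one]
    rw [e1, hy]
    unfold pr
    rw [mul_assoc, ← hxB b hb, ← mul_assoc]
  have hy0 : y ∈ S0 S u := mul_mem (J_le_S0 H.c (h.A_le_J ha)) hx
  have hyyA : y * y ∈ A := by
    have e1 : y * y = a * (x * a * x⁻¹) * (x * x) := by rw [hy]; group
    rw [e1, hxx, mul_one]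
    exact A.mul_mem ha (S0_A H.c hx a ha)
  have hpr : pr t (y * y) (b * b) = 1 := by
    unfold pr
    rw [h.cj_mul]
    calc y * y * (t * b * t * (t * b * t)) = y * (y * (t * b * t)) * (t * b * t) := by group
      _ = y * ((t * b * t) * y) * (t * b * t) := by rw [hyB b hb]
      _ = w' * w' := by rw [hwy]; group
      _ = 1 := hww'
  obtain ⟨hyy, hbb⟩ := h.pr_eq_one hyyA (A.mul_mem hb hb) hpr
  have hyf' : FX M₁ (t * y * t) := by
    rw [hy, H.fx_mul' (J_le_S0 H.c (h.A_le_J ha)) hx]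
    exact iff_of_true (J_FX H.c (cj_J H.c (h.A_le_J ha))) hx2
  have hyf : ¬ FX M₁ y := by
    rw [hy, H.fx_mul (J_le_S0 H.c (h.A_le_J ha)) hx]
    have := J_FX H.c (h.A_le_J ha)
    tauto
  have hyJ : y ∉ h.J := fun h1 => hyf (J_FX H.c h1)
  -- the conjugate `y'`
  obtain ⟨y', k, hk, hy'0, hyy', hyf1, hyf2, hyc, hyv, hycom⟩ : ∃ y' k : G, k * w' * k⁻¹ = y' ∧ y' ∈ S0 S u ∧ y' * y' = 1 ∧
      ¬ FX M₁ y' ∧ FX M₁ (t * y' * t) ∧ (∀ a' ∈ A, a' * y = y * a' → a' * y' = y' * a') ∧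
      (∀ d ∈ A, (t * d * t) * y' = y' * (t * d * t)) ∧ y * y' = y' * y := by
    by_cases hb1 : b = 1
    · have e1 : w' = y := by rw [hwy, hb1, mul_one, h.t_sq, mul_one]
      exact ⟨y, 1, by rw [e1]; group, hy0, hyy, hyf, hyf', fun _ _ h => h, fun d hd => (hyB d hd).symm, rfl⟩
    · obtain ⟨k, hk1, hk2⟩ := hfus a ha hyy b hb hbb hb1
      have hvJ := h.v_mem
      have hv0 := J_le_S0 H.c hvJ
      have hyv : y * (t * u * t) = (t * u * t) * y := hyB u h.u_mem_A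
      refine ⟨y * (t * u * t), k, ?_, mul_mem hy0 hv0, ?_, ?_, ?_, ?_, ?_, ?_⟩
      · rw [hwy]
        calc k * (y * (t * b * t)) * k⁻¹ = (k * y) * k⁻¹ * (k * (t * b * t) * k⁻¹) := by group
          _ = y * (t * u * t) := by rw [hk2, hk1, mul_inv_cancel_right]
      · calc y * (t * u * t) * (y * (t * u * t)) = y * ((t * u * t) * y) * (t * u * t) := by group
          _ = (y * y) * ((t * u * t) * (t * u * t)) := by rw [← hyv]; group
          _ = 1 := by rw [hyy, v_sq H.c, one_mul]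
      · rw [H.fx_mul hy0 hv0]
        have := J_FX H.c hvJ
        tauto
      · rw [H.fx_mul' hy0 hv0]
        exact iff_of_true hyf' (J_FX H.c (cj_J H.c hvJ))
      · intro a' ha' e
        rw [← mul_assoc, e, mul_assoc, h.comm a' ha' u h.u_mem_A, ← mul_assoc]
      · intro d hd
        have e1 : (t * d * t) * (t * u * t) = (t * u * t) * (t * d * t) := by
          rw [← h.cj_mul, ← h.cj_mul, F.u_cent d hd]
        rw [← mul_assoc, ← hyB d hd, mul_assoc, e1, ← mul_assoc]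
      · calc y * (y * (t * u * t)) = y * ((t * u * t) * y) := by rw [hyv]
          _ = y * (t * u * t) * y := (mul_assoc _ _ _).symm
  -- the centraliser of `y'`
  set R := (S0 S u ⊓ centralizer {y'} : Subgroup G) with hR
  have cR : 2 ^ 11 ≤ Nat.card R := by
    have hle : h.PR (A ⊓ centralizer {y}) A ≤ R := by
      intro g hg
      obtain ⟨a', ha', d, hd, rfl⟩ := (h.mem_PR inf_le_left le_rfl).1 hg
      refine ⟨J_le_S0 H.c (h.pr_mem_J ha'.1 hd), ?_⟩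
      show pr t a' d ∈ centralizer {y'}
      rw [mem_centralizer_singleton_iff]
      unfold pr
      rw [mul_assoc, hyv d hd, ← mul_assoc, hyc a' ha'.1 (mem_centralizer_singleton_iff.1 ha'.2), mul_assoc]
    have hyR : y ∈ R := ⟨hy0, mem_centralizer_singleton_iff.2 hycom⟩
    have hyP : y ∉ h.PR (A ⊓ centralizer {y}) A := fun h1 => hyJ (h.PR_mono inf_le_left le_rfl le_rfl le_rfl h1)
    have c1 := two_card_le hle hyR hyP
    rw [h.card_PR inf_le_left le_rfl, F.card] at c1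
    have c2 : 8 ≤ Nat.card (A ⊓ centralizer {y} : Subgroup G) :=
      eight_le ((IsPGroup.of_card (n := 7) (by rw [F.card]; norm_num) : IsPGroup 2 A).to_le inf_le_left) F.u_ne
        (F.swap₂ y hyy (S0_A H.c hy0) (swaps F (S0_A H.c hy0) hyf))
    omega
  have hy'w : ∃ g, g * w * g⁻¹ = y' := ⟨k * g₁, by rw [← hk, hw']; group⟩
  -- second transfer
  have r3 : (H.K3).relIndex (S0 S u) = 2 := by
    refine relIndex_two hx (fun h1 => hx1 ((H.mem_K3.1 h1).2.2 hx2)) fun g hg => ?_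
    rw [H.mem_K3, H.mem_K3, H.fx_mul hg hx, H.fx_mul' hg hx]
    have := mul_mem hg hx
    tauto
  obtain ⟨g₂, hg₂, hg₂', hg₂R⟩ := transfer_two hsyl (fun g hg => (H.mem_K3.1 hg).1) r3 H.perf (h0M hy'0) hyy' (R := R)
    (h0p.to_le inf_le_left) (inf_le_left.trans h0M) (fun r hr => mem_centralizer_singleton_iff.1 hr.2)
  set y₂ := g₂ * y' * g₂⁻¹ with hy₂
  obtain ⟨hy₂0, hy₂f⟩ := H.mem_K3.1 hg₂'
  have hy₂J : y₂ ∉ h.J := by
    obtain ⟨g, hg⟩ := hy'w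
    have e1 : y₂ = (g₂ * g) * w * (g₂ * g)⁻¹ := by rw [hy₂, ← hg]; group
    rw [e1]; exact H.not_J _
  have hy₂1 : ¬ FX M₁ y₂ := fun h1 => hy₂J ((mem_J_iff H.c hy₂0).2 ⟨h1, hy₂f.1 h1⟩)
  have hy₂2 : ¬ FX M₁ (t * y₂ * t) := fun h1 => hy₂1 (hy₂f.2 h1)
  have hyy₂ : y₂ * y₂ = 1 := by
    calc (g₂ * y' * g₂⁻¹) * (g₂ * y' * g₂⁻¹) = g₂ * (y' * y') * g₂⁻¹ := by group
      _ = 1 := by rw [hyy']; group
  have c1 := H.card_cent_le hy₂0 hyy₂ hy₂1 hy₂2
  have c2 : R.map (MulAut.conj g₂).toMonoidHom ≤ S0 S u ⊓ centralizer {y₂} := by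
    rintro _ ⟨r, hr, rfl⟩
    refine ⟨hg₂R r hr, ?_⟩
    have hr' := mem_centralizer_singleton_iff.1 hr.2
    show g₂ * r * g₂⁻¹ ∈ centralizer {y₂}
    rw [mem_centralizer_singleton_iff, hy₂]
    calc g₂ * r * g₂⁻¹ * (g₂ * y' * g₂⁻¹) = g₂ * (r * y') * g₂⁻¹ := by group
      _ = g₂ * (y' * r) * g₂⁻¹ := by rw [hr']
      _ = _ := by group
  have c3 := Subgroup.card_le_of_le c2
  rw [← Nat.card_congr (R.equivMapOfInjective (MulAut.conj g₂).toMonoidHom (MulAut.conj g₂).injective).toEquiv] at c3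
  omega

/-- **(D2)**, `(S ∩ M) / J` cyclic of order four -/
theorem d2c {s : G} (hs : s ∈ S0 S u) (hs1 : s ∉ h.J) (hs2 : s * w ∉ h.J) (hsM : s ∉ M) : False := by
  have hw : w ∈ M := H.w_mem hs hs1 hs2
  have hmix := H.mixed hs hs1 hs2
  have hnw := H.not_fx
  have hnw' := H.not_fx'
  have hJS : h.J ≤ S ⊓ M := le_inf H.c.JS H.J_le_M
  have hsyl := H.isSyl_M
  have hcase : ∀ g ∈ S0 S u, g ∈ h.J ∨ g * w ∈ h.J ∨ g * s ∈ h.J ∨ g * s * w ∈ h.J := by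
    intro g hg
    have hgw : g * w ∈ S0 S u := mul_mem hg H.wS
    have hgs : g * s ∈ S0 S u := mul_mem hg hs
    have hgsw : g * s * w ∈ S0 S u := mul_mem hgs H.wS
    rw [mem_J_iff H.c hg, mem_J_iff H.c hgw, mem_J_iff H.c hgs, mem_J_iff H.c hgsw, H.fx_mul hg H.wS,
      H.fx_mul' hg H.wS, H.fx_mul hgs H.wS, H.fx_mul' hgs H.wS, H.fx_mul hg hs, H.fx_mul' hg hs]
    tauto
  -- `S⁰ ∩ M = J ⟨w⟩`
  have hcl : ∀ g ∈ S0 S u, g ∈ M → g ∈ h.J ∨ g * w ∈ h.J := by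
    intro g hg hgM
    rcases hcase g hg with h1 | h1 | h1 | h1
    · exact Or.inl h1
    · exact Or.inr h1
    · exact (hsM ((M.mul_mem_cancel_left hgM).1 (H.J_le_M h1))).elim
    · exact (hsM ((M.mul_mem_cancel_left hgM).1 ((M.mul_mem_cancel_right hw).1 (H.J_le_M h1)))).elim
  have hnM : ∀ g ∈ S0 S u, g ∉ M → (FX M₁ g ↔ ¬ FX M₁ (t * g * t)) := by
    intro g hg hgM
    have h1 : g ∉ h.J := fun h1 => hgM (H.J_le_M h1)
    have h2 : g * w ∉ h.J := fun h1 => hgM ((M.mul_mem_cancel_right hw).1 (H.J_le_M h1))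
    exact H.mixed hg h1 h2
  -- an element of `S ∩ M` outside of `S⁰` is not an involution
  have hninv : ∀ g ∈ S ⊓ M, g * g = 1 → g ∈ S0 S u := by
    rintro g ⟨hg, hgM⟩ hgg
    by_contra hg0
    have hr := mul_t_mem H.c hg hg0
    have hrM : g * t ∉ M := fun h1 => H.tM ((M.mul_mem_cancel_left hgM).1 h1)
    have h1 := hnM _ hr hrM
    have hr' := cj_mem H.c hr
    have h2 : (g * t) * (t * (g * t) * t) ∈ h.J := by
      have e1 : (g * t) * (t * (g * t) * t) = g * (t * t) * g * (t * t) := by group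
      rw [e1, h.t_sq, mul_one, mul_one, hgg]
      exact one_mem _
    rw [mem_J_iff H.c (mul_mem hr hr'), H.fx_mul hr hr'] at h2
    tauto
  -- the quotient is abelian
  have hwM : w ∈ S ⊓ M := ⟨(mem_S0.1 H.wS).1, hw⟩
  have hst : s * t ∈ M := by
    rcases H.idx s with h1 | h1
    · exact (hsM h1).elim
    · exact h1
  have hstS : s * t ∈ S ⊓ M := ⟨S.mul_mem (mem_S0.1 hs).1 H.c.tS, hst⟩
  have hst0 : s * t ∉ S0 S u := fun h1 => t_notMem H.c ((mul_mem_cancel_left hs).1 h1)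
  have hnor : (h.J.subgroupOf (S ⊓ M)).Normal := by
    constructor
    rintro ⟨j, hj⟩ hjJ ⟨g, hg⟩
    exact mem_subgroupOf.2 (H.c.nJ g hg.1 j (mem_subgroupOf.1 hjJ))
  have i1 : h.J.relIndex ((S ⊓ M) ⊓ S0 S u) = 2 := by
    refine relIndex_two (x := w) ⟨hwM, H.wS⟩ H.wJ ?_
    rintro g ⟨hg, hg0⟩
    exact hcl g hg0 hg.2
  have i2 : ((S ⊓ M) ⊓ S0 S u).relIndex (S ⊓ M) = 2 := by
    refine relIndex_two hstS (fun h1 => hst0 h1.2) ?_
    intro g hg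
    by_cases hg0 : g ∈ S0 S u
    · exact Or.inl ⟨hg, hg0⟩
    · right
      refine ⟨mul_mem hg hstS, ?_⟩
      have h1 := mul_t_mem H.c hg.1 hg0
      have h2 : g * (s * t) = (g * t) * (t * s * t) := by
        calc g * (s * t) = g * 1 * (s * t) := by group
          _ = g * (t * t) * (s * t) := by rw [h.t_sq]
          _ = _ := by group
      rw [h2]
      exact mul_mem h1 (cj_mem H.c hs)
  have i3 : h.J.relIndex (S ⊓ M) = 4 := by
    have hle : h.J ≤ (S ⊓ M) ⊓ S0 S u := le_inf hJS (J_le_S0 H.c)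
    rw [← relIndex_mul_relIndex _ _ _ hle inf_le_left, i1, i2]
  have hcomm : ∀ a b : ↥(S ⊓ M) ⧸ h.J.subgroupOf (S ⊓ M), a * b = b * a := by
    have : Fact (Nat.Prime 2) := ⟨Nat.prime_two⟩
    have h1 : Nat.card (↥(S ⊓ M) ⧸ h.J.subgroupOf (S ⊓ M)) = 2 ^ 2 := i3
    exact (IsPGroup.isMulCommutative_of_card_eq_prime_sq (p := 2) h1).is_comm.comm
  let : CommGroup (↥(S ⊓ M) ⧸ h.J.subgroupOf (S ⊓ M)) :=
    { (inferInstance : Group (↥(S ⊓ M) ⧸ h.J.subgroupOf (S ⊓ M))) with mul_comm := hcomm }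
  -- transfer from `M`
  let q : ↥(S ⊓ M) →* ↥(S ⊓ M) ⧸ h.J.subgroupOf (S ⊓ M) := QuotientGroup.mk' _
  let e : ↥((S ⊓ M).subgroupOf M) ≃* ↥(S ⊓ M) := Subgroup.subgroupOfEquivOfLe inf_le_right
  let φ : ↥((S ⊓ M).subgroupOf M) →* ↥(S ⊓ M) ⧸ h.J.subgroupOf (S ⊓ M) := q.comp e.toMonoidHom
  have hφ : ∀ g : M, ∀ hg : g ∈ (S ⊓ M).subgroupOf M, φ ⟨g, hg⟩ = q ⟨(g : G), mem_subgroupOf.1 hg⟩ := fun g hg => rfl
  have hodd : Odd ((S ⊓ M).subgroupOf M).index := hsyl.odd_relIndex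
  have hwM' : (⟨w, hw⟩ : M) ∈ (S ⊓ M).subgroupOf M := mem_subgroupOf.2 hwM
  have htr := transfer_const ((S ⊓ M).subgroupOf M) hodd φ hwM' (Subtype.ext H.ww) (by
    intro g hg
    rw [hφ, hφ]
    have hg' : (g : G)⁻¹ * w * g ∈ S ⊓ M := mem_subgroupOf.1 hg
    have hgg : ((g : G)⁻¹ * w * g) * ((g : G)⁻¹ * w * g) = 1 := by
      calc ((g : G)⁻¹ * w * g) * ((g : G)⁻¹ * w * g) = (g : G)⁻¹ * (w * w) * g := by group
        _ = 1 := by rw [H.ww]; group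
    have hg0 := hninv _ hg' hgg
    have hgJ : (g : G)⁻¹ * w * g ∉ h.J := by
      have := H.not_J (g : G)⁻¹
      rwa [inv_inv] at this
    have hgw : (g : G)⁻¹ * w * g * w ∈ h.J := by
      rcases hcl _ hg0 hg'.2 with h1 | h1
      · exact (hgJ h1).elim
      · exact h1
    apply (QuotientGroup.eq (s := h.J.subgroupOf (S ⊓ M))).2
    rw [mem_subgroupOf]
    show ((g : G)⁻¹ * w * g)⁻¹ * w ∈ h.J
    rw [inv_eq_of_mul_eq_one_left hgg]
    exact hgw)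
  rw [map_eq_one H.perf, hφ] at htr
  have h1 : (⟨w, hwM⟩ : ↥(S ⊓ M)) ∈ h.J.subgroupOf (S ⊓ M) := (QuotientGroup.eq_one_iff _).1 htr.symm
  exact H.wJ (mem_subgroupOf.1 h1)

/-- **(D1)** and **(D2)** -/
theorem false : False := by
  by_cases hw : w ∈ M
  · by_cases hcl : ∀ s ∈ S0 S u, s ∈ h.J ∨ s * w ∈ h.J
    · exact H.d2a hw hcl
    · push Not at hcl
      obtain ⟨s, hs, hs1, hs2⟩ := hcl
      by_cases hsM : s ∈ M
      · exact H.d2b hs hs1 hs2 hsM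
      · exact H.d2c hs hs1 hs2 hsM
  · exact H.d1 hw

end Mc

end Cfsg.Agent.Wreath.DTwo
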