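import Cfsg.Agent.Wreath.DFourEnd

/-!
# The end of the wreath pattern, case (D0): `S ∩ M = A × A ^ t` (S1739)
-/

set_option autoImplicit false

open Subgroup Cfsg
open scoped commutatorElement

universe u

namespace Cfsg.Agent.Wreath.DZero

open Cfsg.Agent.Wreath.DFour Cfsg.Agent.StdEven.Syl Cfsg.Agent.Wreath.StrongClosure
open Cfsg.Agent.Wreath.DFourEnd (ProductThm false_of_sc gen_subgroupOf)

/-- Hypotheses of (D0). -/
structure Hyp {G : Type*} [Group G] (M S A M₁ M₂ : Subgroup G) (t u : G) : Prop where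
  F : AData.Facts A M₁ M₂ u
  tt : t * t = 1
  nM : M.Normal
  tM : t ∉ M
  syl : IsSyl S ⊤
  tS : t ∈ S
  AM : A ≤ M
  AS : A ≤ S
  comm : ∀ a ∈ A, ∀ b ∈ A, a * MulAut.conj t b = MulAut.conj t b * a
  inf : ∀ a ∈ A, MulAut.conj t a ∈ A → a = 1
  dec : ∀ g ∈ S, g ∈ M → ∃ a ∈ A, ∃ b ∈ A, g = a * MulAut.conj t b
  uz : ∀ g, MulAut.conj g u ≠ u * MulAut.conj t u
  fus : ∀ a ∈ A, a * a = 1 → a ≠ 1 → ∃ k ∈ M, (∀ b ∈ A, k * MulAut.conj t b = MulAut.conj t b * k) ∧
    MulAut.conj k u = a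

namespace Hyp

variable {G : Type*} [Group G] {M S A M₁ M₂ : Subgroup G} {t u : G} (h : Hyp M S A M₁ M₂ t u)
include h

local notation "τ" => MulAut.conj t

theorem ττ (a : G) : τ (τ a) = a := by
  rw [← MulAut.mul_apply, ← map_mul, h.tt, map_one, MulAut.one_apply]

theorem uA : u ∈ A := h.F.le₁ (mem_inf.mp h.F.u_mem).1

theorem uu : u * u = 1 := h.F.sq₁ u (mem_inf.mp h.F.u_mem).1

theorem u1 : u ≠ 1 := h.F.u_ne

/-- `J = A × A ^ t` -/
def T : Subgroup G where
  carrier := {g | ∃ a ∈ A, ∃ b ∈ A, g = a * τ b}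
  one_mem' := ⟨1, A.one_mem, 1, A.one_mem, by rw [map_one, mul_one]⟩
  mul_mem' := by
    rintro _ _ ⟨a, ha, b, hb, rfl⟩ ⟨a', ha', b', hb', rfl⟩
    refine ⟨a * a', A.mul_mem ha ha', b * b', A.mul_mem hb hb', ?_⟩
    rw [map_mul, mul_assoc, ← mul_assoc (τ b), ← h.comm a' ha' b hb]
    group
  inv_mem' := by
    rintro _ ⟨a, ha, b, hb, rfl⟩
    refine ⟨a⁻¹, A.inv_mem ha, b⁻¹, A.inv_mem hb, ?_⟩
    rw [h.comm a ha b hb, mul_inv_rev, map_inv]

theorem A_le : A ≤ h.T := fun a ha => ⟨a, ha, 1, A.one_mem, by rw [map_one, mul_one]⟩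

theorem τA_mem {b : G} (hb : b ∈ A) : τ b ∈ h.T := ⟨1, A.one_mem, b, hb, by rw [one_mul]⟩

theorem uniq {a b a' b' : G} (ha : a ∈ A) (hb : b ∈ A) (ha' : a' ∈ A) (hb' : b' ∈ A)
    (e : a * τ b = a' * τ b') : a = a' ∧ b = b' := by
  have h1 : a'⁻¹ * a = τ (b' * b⁻¹) := by
    rw [map_mul, map_inv, inv_mul_eq_iff_eq_mul, ← mul_assoc, ← e]; group
  have h2 := h.inf (b' * b⁻¹) (A.mul_mem hb' (A.inv_mem hb)) (h1 ▸ A.mul_mem (A.inv_mem ha') ha)
  rw [h2, map_one] at h1
  exact ⟨(inv_mul_eq_one.mp h1).symm, (mul_inv_eq_one.mp h2).symm⟩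

theorem τ_T {g : G} (hg : g ∈ h.T) : τ g ∈ h.T := by
  obtain ⟨a, ha, b, hb, rfl⟩ := hg
  exact ⟨b, hb, a, ha, by rw [map_mul, h.ττ, h.comm b hb a ha]⟩

theorem T_u {g : G} (hg : g ∈ h.T) : g * u = u * g := by
  obtain ⟨a, ha, b, hb, rfl⟩ := hg
  rw [mul_assoc, ← h.comm u h.uA b hb, ← mul_assoc, h.F.u_cent a ha, mul_assoc]

theorem T_v {g : G} (hg : g ∈ h.T) : g * τ u = τ u * g := by
  have h1 := h.T_u (h.τ_T hg)
  have h2 := congrArg (MulAut.conj t) h1
  rw [map_mul, map_mul, h.ττ] at h2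
  exact h2

theorem τM {g : G} (hg : g ∈ M) : τ g ∈ M := h.nM.conj_mem g hg t

theorem TM : h.T ≤ M := by
  rintro _ ⟨a, ha, b, hb, rfl⟩
  exact M.mul_mem (h.AM ha) (h.τM (h.AM hb))

theorem SM : S ⊓ M = h.T := by
  apply le_antisymm
  · rintro g ⟨hg, hM⟩
    exact h.dec g hg hM
  · refine le_inf ?_ h.TM
    rintro _ ⟨a, ha, b, hb, rfl⟩
    exact S.mul_mem (h.AS ha) (S.mul_mem (S.mul_mem h.tS (h.AS hb)) (S.inv_mem h.tS))

theorem sylM [Finite G] : IsSyl h.T M := by
  have h1 := h.syl.inf_normal le_top (N' := M) (by rw [normalizer_eq_top_iff.mpr h.nM])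
  rwa [h.SM] at h1

theorem uv_ne : u ≠ τ u := fun e => h.u1 (h.inf u h.uA (e ▸ h.uA))

theorem center_T {g : G} (hg : g ∈ h.T) (hc : ∀ s ∈ h.T, g * s = s * g) :
    g = 1 ∨ g = u ∨ g = τ u ∨ g = u * τ u := by
  obtain ⟨a, ha, b, hb, rfl⟩ := hg
  have h1 : ∀ d ∈ A, a * d = d * a := by
    intro d hd
    have h2 := hc d (h.A_le hd)
    rw [mul_assoc, ← h.comm d hd b hb, ← mul_assoc, ← mul_assoc] at h2
    exact mul_right_cancel h2
  have h2 : ∀ d ∈ A, b * d = d * b := by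
    intro d hd
    have h3 := hc (τ d) (h.τA_mem hd)
    rw [← mul_assoc, ← h.comm a ha d hd, mul_assoc, mul_assoc] at h3
    have h4 := mul_left_cancel h3
    rw [← map_mul, ← map_mul] at h4
    exact (MulAut.conj t).injective h4
  rcases h.F.center a ha h1 with rfl | rfl <;> rcases h.F.center b hb h2 with rfl | rfl
  · left; rw [map_one, mul_one]
  · right; right; left; rw [one_mul]
  · right; left; rw [map_one, mul_one]
  · right; right; right; rfl

theorem not_vz (m : G) : MulAut.conj m (τ u) ≠ u * τ u := by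
  rw [← conj_mul_apply]
  exact h.uz _

theorem v1 : τ u ≠ 1 := fun e => h.u1 ((MulAut.conj t).injective (e.trans (map_one _).symm))

theorem vv : τ u * τ u = 1 := by rw [← map_mul, h.uu, map_one]

theorem not_uv [Finite G] : ¬ Cl M u (τ u) := by
  rintro ⟨m, hm, hmu⟩
  obtain ⟨g, hg, hgu, hgT⟩ := exists_ext h.sylM (fun s hs => h.T_v hs) hm hmu
  have hgN : g ∈ normalizer (h.T : Set G) :=
    mem_normalizer_of_conj_le fun s hs => hgT s hs (h.T_u hs)
  have huT : u ∈ h.T := h.A_le h.uA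
  have hvT : τ u ∈ h.T := h.τA_mem h.uA
  have hgv : MulAut.conj g (τ u) = u := by
    have h1 : MulAut.conj g (τ u) ∈ h.T := hgT _ hvT (h.T_u hvT)
    have h2 : ∀ s ∈ h.T, MulAut.conj g (τ u) * s = s * MulAut.conj g (τ u) := by
      intro s hs
      have h3 : MulAut.conj g⁻¹ s ∈ h.T := (mem_normalizer_iff.mp (inv_mem hgN) s).mp hs
      have h4 := congrArg (MulAut.conj g) (h.T_v h3)
      rw [map_mul, map_mul, conj_conj_inv] at h4
      exact h4.symm
    rcases h.center_T h1 h2 with h3 | h3 | h3 | h3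
    · exfalso
      have h4 : τ u = 1 := (MulAut.conj g).injective (h3.trans (map_one _).symm)
      exact h.u1 ((MulAut.conj t).injective (h4.trans (map_one _).symm))
    · exact h3
    · exfalso
      exact h.uv_ne ((MulAut.conj g).injective (hgu.trans h3.symm))
    · exact absurd h3 (h.not_vz g)
  have h2 : ∀ k : ℕ, MulAut.conj (g ^ (2 * k)) u = u := by
    intro k
    induction k with
    | zero => simp
    | succ k ih =>
      have e : g ^ (2 * (k + 1)) = g * (g * g ^ (2 * k)) := by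
        rw [mul_add, mul_one, pow_succ', pow_succ']
      rw [e, conj_mul_apply, conj_mul_apply, ih, hgu, hgv]
  have h3 : ∀ k : ℕ, MulAut.conj (g ^ (2 * k + 1)) u = τ u := by
    intro k
    rw [pow_succ', conj_mul_apply, h2, hgu]
  obtain ⟨e, q, hq, he⟩ := Nat.exists_eq_two_pow_mul_odd (orderOf_pos g).ne'
  obtain ⟨k, rfl⟩ := hq
  have h4 : (g ^ (2 * k + 1)) ^ 2 ^ e = 1 := by
    rw [← pow_mul, mul_comm, ← he, pow_orderOf_eq_one]
  have h5 : IsPGroup 2 (zpowers (g ^ (2 * k + 1))) := by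
    intro ⟨y, hy⟩
    obtain ⟨j, rfl⟩ := mem_zpowers_iff.mp hy
    refine ⟨e, ?_⟩
    apply Subtype.ext
    show ((g ^ (2 * k + 1)) ^ j) ^ 2 ^ e = 1
    rw [← zpow_natCast, ← zpow_mul, mul_comm j, zpow_mul, zpow_natCast, h4, one_zpow]
  have h6 : IsSyl h.T (M ⊓ normalizer (h.T : Set G)) :=
    h.sylM.mono (le_inf h.TM le_normalizer) inf_le_left
  obtain ⟨n, hn, hc⟩ := h6.exists_conj h5 (by
    rw [zpowers_le]
    exact ⟨M.pow_mem hg _, Subgroup.pow_mem _ hgN _⟩)
  have h7 := hc _ (mem_zpowers _)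
  have h8 : g ^ (2 * k + 1) ∈ h.T := (mem_normalizer_iff.mp hn.2 _).mpr h7
  have h9 := conj_eq_self (h.T_u h8)
  rw [h3] at h9
  exact h.uv_ne h9.symm

theorem clU {a : G} (ha : a ∈ A) (haa : a * a = 1) (ha1 : a ≠ 1) : Cl M u a := by
  obtain ⟨k, hk, -, e⟩ := h.fus a ha haa ha1
  exact ⟨k, hk, e⟩

theorem Cl_τ {a b : G} (hc : Cl M a b) : Cl M (τ a) (τ b) := by
  obtain ⟨k, hk, rfl⟩ := hc
  refine ⟨τ k, h.τM hk, ?_⟩
  simp only [MulAut.conj_apply]; group

theorem clV {a : G} (ha : a ∈ A) (haa : a * a = 1) (ha1 : a ≠ 1) : Cl M (τ u) (τ a) :=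
  h.Cl_τ (h.clU ha haa ha1)

theorem clZ {a b : G} (ha : a ∈ A) (haa : a * a = 1) (ha1 : a ≠ 1) (hb : b ∈ A) (hbb : b * b = 1)
    (hb1 : b ≠ 1) : Cl M (u * τ u) (a * τ b) := by
  obtain ⟨k, hk, hkc, e⟩ := h.fus a ha haa ha1
  obtain ⟨k', hk', hkc', e'⟩ := h.fus b hb hbb hb1
  have h1 : Cl M (u * τ u) (u * τ b) := by
    refine ⟨τ k', h.τM hk', ?_⟩
    have h2 := congrArg (MulAut.conj t) (hkc' u h.uA)
    rw [map_mul, map_mul, h.ττ] at h2
    rw [map_mul, conj_eq_self h2]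
    congr 1
    rw [← e']
    simp only [MulAut.conj_apply]; group
  refine h1.trans ⟨k, hk, ?_⟩
  rw [map_mul, e, conj_eq_self (hkc b hb)]

theorem sq_of_prod {a b : G} (ha : a ∈ A) (hb : b ∈ A) (hg : (a * τ b) * (a * τ b) = 1) :
    a * a = 1 ∧ b * b = 1 := by
  have h1 : (a * a) * τ (b * b) = 1 * τ 1 := by
    rw [map_one, mul_one, ← hg, map_mul]
    calc a * a * (τ b * τ b) = a * (a * τ b) * τ b := by group
      _ = a * (τ b * a) * τ b := by rw [h.comm a ha b hb]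
      _ = a * τ b * (a * τ b) := by group
  exact h.uniq (A.mul_mem ha ha) (A.mul_mem hb hb) A.one_mem A.one_mem h1

/-- `u ^ M ∩ J ⊆ A` -/
theorem mem_A_of_clU [Finite G] {g : G} (hg : g ∈ h.T) (hc : Cl M u g) : g ∈ A := by
  have hgg := Cfsg.Agent.Wreath.DFour.Hyp.cl_sq h.uu hc
  obtain ⟨a, ha, b, hb, rfl⟩ := hg
  obtain ⟨haa, hbb⟩ := h.sq_of_prod ha hb hgg
  by_cases hb1 : b = 1
  · subst hb1
    rwa [map_one, mul_one]
  · exfalso
    by_cases ha1 : a = 1
    · subst ha1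
      rw [one_mul] at hc
      exact h.not_uv (hc.trans (h.clV hb hbb hb1).symm)
    · obtain ⟨m, -, e⟩ := hc.trans (h.clZ ha haa ha1 hb hbb hb1).symm
      exact h.uz m e

end Hyp

/-- **(D0)** -/
theorem hyp_false (hpt : ProductThm.{u}) {G : Type u} [Group G] [Finite G]
    {M S A M₁ M₂ : Subgroup G} {t u : G} (h : Hyp M S A M₁ M₂ t u) (hs : IsSimpleGroup ↥M) :
    False := by
  set B : Subgroup G := A.map (MulAut.conj t).toMonoidHom with hB
  have hBT : B ≤ h.T := by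
    rintro _ ⟨s, hs, rfl⟩
    exact h.τA_mem hs
  have hBM : B ≤ M := hBT.trans h.TM
  have hinv : ∀ {g : G}, g ∈ B ↔ MulAut.conj t g ∈ A := by
    intro g
    constructor
    · rintro ⟨s, hs, rfl⟩
      show MulAut.conj t (MulAut.conj t s) ∈ A
      rw [h.ττ]; exact hs
    · intro hg
      exact ⟨_, hg, h.ττ g⟩
  have hmem : ∀ {g : ↥M}, g ∈ (h.sylM.toSylow : Subgroup ↥M) ↔ (g : G) ∈ h.T := by
    intro g
    rw [IsSyl.coe_toSylow, mem_subgroupOf]
  have hconj : ∀ {a b : ↥M}, IsConj a b ↔ Cl M (a : G) (b : G) := by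
    intro a b
    rw [isConj_iff]
    constructor
    · rintro ⟨c, e⟩
      exact ⟨c, c.2, congrArg Subtype.val e⟩
    · rintro ⟨c, hc, e⟩
      exact ⟨⟨c, hc⟩, Subtype.ext e⟩
  have hgenB : B ≤ closure {y | y ∈ B ∧ y * y = 1} := by
    have h1 := Subgroup.map_mono (f := (MulAut.conj t).toMonoidHom) h.F.gen
    rw [MonoidHom.map_closure] at h1
    refine h1.trans (closure_mono ?_)
    rintro _ ⟨y, ⟨hy1, hy2⟩, rfl⟩
    refine ⟨⟨y, hy1, rfl⟩, ?_⟩
    show MulAut.conj t y * MulAut.conj t y = 1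
    rw [← map_mul, hy2, map_one]
  have hD : ∀ {a : G}, a ∈ A → a * u = u * a := fun ha => h.F.u_cent _ ha
  have H : SC h.sylM.toSylow (A.subgroupOf M) (B.subgroupOf M) ⟨u, h.AM h.uA⟩
      ⟨MulAut.conj t u, h.τM (h.AM h.uA)⟩ :=
    { hA := fun a ha => hmem.mpr (h.A_le ha)
      hB := fun b hb => hmem.mpr (hBT hb)
      comm := fun a ha b hb => by
        obtain ⟨s, hs, e⟩ := hb
        have h1 : (b : G) = MulAut.conj t s := e.symm
        apply Subtype.ext
        show (a : G) * b = b * a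
        rw [h1]
        exact h.comm a ha s hs
      disj := by
        rw [eq_bot_iff]
        rintro g ⟨h1, h2⟩
        rw [mem_bot]
        exact Subtype.ext (h.inf g h1 (hinv.mp h2))
      prod := fun s hs => by
        obtain ⟨a, ha, b, hb, e⟩ := hmem.mp hs
        exact ⟨⟨a, h.AM ha⟩, ha, ⟨_, h.τM (h.AM hb)⟩, ⟨b, hb, rfl⟩, Subtype.ext e⟩
      uA := h.uA
      uu := Subtype.ext h.uu
      u1 := fun e => h.u1 (congrArg Subtype.val e)
      vB := ⟨u, h.uA, rfl⟩
      vv := Subtype.ext h.vv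
      v1 := fun e => h.v1 (congrArg Subtype.val e)
      uc := fun a ha => Subtype.ext (hD ha).symm
      zA := fun a ha hc => by
        have h1 := h.F.center _ ha fun b hb => congrArg Subtype.val (hc ⟨b, h.AM hb⟩ hb)
        exact h1.imp Subtype.ext Subtype.ext
      vc := fun b hb => by
        obtain ⟨s, hs, e⟩ := hb
        have h1 : (b : G) = MulAut.conj t s := e.symm
        apply Subtype.ext
        show MulAut.conj t u * b = b * MulAut.conj t u
        rw [h1, ← map_mul, ← map_mul, hD hs]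
      zB := fun b hb hc => by
        obtain ⟨s, hs, e⟩ := hb
        have e' : (b : G) = MulAut.conj t s := e.symm
        have h1 : s = 1 ∨ s = u := by
          apply h.F.center _ hs
          intro d hd
          have h2 := congrArg Subtype.val (hc ⟨_, h.τM (h.AM hd)⟩ ⟨d, hd, rfl⟩)
          have h3 : (b : G) * MulAut.conj t d = MulAut.conj t d * b := h2
          rw [e', ← map_mul, ← map_mul] at h3
          exact (MulAut.conj t).injective h3
        rcases h1 with rfl | rfl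
        · left
          apply Subtype.ext
          rw [e', map_one]; rfl
        · right
          exact Subtype.ext e'
      genA := gen_subgroupOf h.AM h.F.gen
      genB := gen_subgroupOf hBM hgenB
      fA := fun y hy hyy hy1 => by
        rw [hconj]
        refine ⟨fun hc => h.mem_A_of_clU (hmem.mp hy) hc, fun hyD => ?_⟩
        exact h.clU hyD (congrArg Subtype.val hyy) fun e => hy1 (Subtype.ext e)
      fB := fun y hy hyy hy1 => by
        rw [hconj]
        constructor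
        · intro hc
          have h1 := h.Cl_τ hc
          rw [show ((⟨MulAut.conj t u, h.τM (h.AM h.uA)⟩ : ↥M) : G) = MulAut.conj t u from rfl,
            h.ττ] at h1
          exact hinv.mpr (h.mem_A_of_clU (h.τ_T (hmem.mp hy)) h1)
        · rintro ⟨s, hs, e⟩
          have e' : (y : G) = MulAut.conj t s := e.symm
          have hss : s * s = 1 := by
            have h1 : (y : G) * y = 1 := congrArg Subtype.val hyy
            rw [e', ← map_mul] at h1
            exact (MulAut.conj t).injective (h1.trans (map_one _).symm)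
          have hs1 : s ≠ 1 := by
            rintro rfl
            rw [map_one] at e'
            exact hy1 (Subtype.ext e')
          have h1 := h.clV hs hss hs1
          rw [e']
          exact h1 }
  refine false_of_sc hpt H ?_
  by_contra hne
  push Not at hne
  have h1 : u ∈ ⁅M₁ ⊔ M₂, M₁ ⊔ M₂⁆ := by rw [h.F.comV]; exact h.F.u_mem
  have hPA : M₁ ⊔ M₂ ≤ A := sup_le h.F.le₁ h.F.le₂
  have h2 : ⁅M₁ ⊔ M₂, M₁ ⊔ M₂⁆ ≤ ⊥ := by
    rw [commutator_le]
    intro a ha b hb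
    rw [mem_bot, commutatorElement_eq_one_iff_mul_comm]
    exact congrArg Subtype.val (hne ⟨a, h.AM (hPA ha)⟩ ⟨b, h.AM (hPA hb)⟩)
  exact h.u1 (mem_bot.mp (h2 h1))

end Cfsg.Agent.Wreath.DZero
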