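import Cfsg.Agent.Wreath.CommonMain
import Cfsg.Agent.Wreath.CFive
import Cfsg.Agent.Wreath.CountLy
import Cfsg.Agent.Wreath.DZero
import Cfsg.Agent.Wreath.DTwo
import Cfsg.Agent.Wreath.DThreeGlue
import Cfsg.Agent.Wreath.DFourEnd

/-!
# The end of the wreath pattern (S1739): assembly of (C1)-(C5), (D0)-(D4)
-/

set_option autoImplicit false

namespace Cfsg.Agent.Wreath.EndMain

open Subgroup Cfsg.Agent.Wreath.End Cfsg.Agent.StdEven.Syl Cfsg.Agent.Wreath.CommonDef
open Cfsg.Agent.Wreath.DThreeGlue (Inp3)
open scoped commutatorElement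

universe u

section

variable {G : Type*} [Group G] {t v : G} {A M₁ M₂ : Subgroup G}

theorem ct (h : Inp t v A M₁ M₂) (x : G) : MulAut.conj t x = t * x * t := by rw [MulAut.conj_apply, h.t_inv]

/-- the base group is not commutative -/
theorem exists_noncomm (h : Inp t v A M₁ M₂) : ∃ a ∈ A, ∃ b ∈ A, a * b ≠ b * a := by
  by_contra hcon
  push Not at hcon
  have h1 : (A : Set G) ⊆ {1, v} := by
    intro a ha
    rcases h.facts.center a ha (fun b hb => hcon a ha b hb) with e | e
    · exact Or.inl e
    · exact Or.inr e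
  have h2 := Set.ncard_le_ncard h1 (Set.toFinite _)
  have h3 := Set.ncard_insert_le (1 : G) {v}
  rw [Set.ncard_singleton] at h3
  have h4 : (A : Set G).ncard = 128 := by rw [← Nat.card_coe_set_eq]; exact h.facts.card
  omega

/-- a simple group with non-commuting elements is perfect -/
theorem perfect {M : Subgroup G} (hs : IsSimpleGroup ↥M) (hne : ∃ a ∈ M, ∃ b ∈ M, a * b ≠ b * a) :
    M ≤ ⁅M, M⁆ := by
  have h1 : (commutator ↥M).Normal := inferInstance
  rcases hs.eq_bot_or_eq_top_of_normal _ h1 with h2 | h2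
  · exfalso
    obtain ⟨a, ha, b, hb, hab⟩ := hne
    apply hab
    have h3 : ⁅(⟨a, ha⟩ : ↥M), ⟨b, hb⟩⁆ ∈ commutator ↥M := by
      rw [_root_.commutator_def]
      exact commutator_mem_commutator (mem_top _) (mem_top _)
    rw [h2, mem_bot, commutatorElement_eq_one_iff_mul_comm] at h3
    exact congrArg Subtype.val h3
  · intro x hx
    have h3 : (⟨x, hx⟩ : ↥M) ∈ commutator ↥M := by rw [h2]; exact mem_top _
    have h4 : (commutator ↥M).map M.subtype = ⁅M, M⁆ := by
      rw [_root_.commutator_def, map_commutator, ← MonoidHom.range_eq_map, range_subtype]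
    rw [← h4]
    exact ⟨⟨x, hx⟩, h3, rfl⟩

end

variable {G : Type u} [Group G] [Finite G] {t v : G} {A M₁ M₂ : Subgroup G}

/-- **The end of the wreath pattern.** -/
theorem false_of (hpt : DFourEnd.ProductThm.{u}) (h : Inp t v A M₁ M₂) (h3 : Inp3 t v A M₁ M₂) {M : Subgroup G}
    (nM : M.Normal) (hs : IsSimpleGroup ↥M) (idx : ∀ g, g ∈ M ∨ g * t ∈ M)
    (hcase : ∀ S S₀ : Subgroup G, Com h S S₀ → S₀ ≠ h.J →
      (∃ w ∈ S₀, w ∉ h.J ∧ w * w = 1 ∧ w * t = t * w ∧
        ∃ f : ↥(centralizer ({t} : Set G)) →* ℤˣ, f ⟨t, mem_centralizer_singleton_iff.mpr rfl⟩ = 1 ∧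
          ∀ hw : w ∈ centralizer ({t} : Set G), f ⟨w, hw⟩ = -1) ∨
      (∃ w ∈ S₀, w ∉ h.J ∧ w * w = 1 ∧ w * t = t * w ∧ w ∈ M ∧ (∃ g, g * t * g⁻¹ = t * w) ∧
        ∀ y ∈ S₀, y * y = 1 → y ≠ 1 → y * t = t * y → ∃ g, g * t = t * g ∧ g * y * g⁻¹ = pr t v v)) :
    False := by
  obtain ⟨S, hS⟩ := h.exists_common
  have c := Com.of hS
  obtain ⟨f, hf⟩ := CFive.exists_f hS
  have hvA := h.u_mem_A
  -- `t ∉ M`
  have tM : t ∉ M := by
    intro htM
    have hall : ∀ g, g ∈ M := by
      intro g
      rcases idx g with h1 | h1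
      · exact h1
      · have h2 := M.mul_mem h1 (M.inv_mem htM)
        rwa [mul_inv_cancel_right] at h2
    have h1 : (f.ker.subgroupOf M).Normal := inferInstance
    rcases hs.eq_bot_or_eq_top_of_normal _ h1 with h2 | h2
    · have h4 : (⟨v, hall v⟩ : ↥M) ∈ f.ker.subgroupOf M := by
        rw [mem_subgroupOf, MonoidHom.mem_ker]
        exact h.w1 f v hvA
      rw [h2, mem_bot] at h4
      exact h.facts.u_ne (congrArg Subtype.val h4)
    · have h4 : (⟨t, htM⟩ : ↥M) ∈ f.ker.subgroupOf M := by rw [h2]; exact mem_top _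
      rw [mem_subgroupOf, MonoidHom.mem_ker] at h4
      exact hf h4
  -- the homomorphism with kernel `M`
  have hidx : M.index = 2 := by
    rw [Subgroup.index_eq_two_iff]
    refine ⟨t, fun b => ?_⟩
    rcases idx b with h1 | h1
    · right
      refine ⟨h1, fun h2 => tM ?_⟩
      have h4 := M.mul_mem (M.inv_mem h1) h2
      rwa [inv_mul_cancel_left] at h4
    · left
      refine ⟨h1, fun h2 => tM ?_⟩
      have h4 := M.mul_mem (M.inv_mem h2) h1
      rwa [inv_mul_cancel_left] at h4
  obtain ⟨f₀, hf₀⟩ := CFive.exists_hom nM hidx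
  have AM : A ≤ M := fun a ha => (hf₀ a).mp (h.w1 f₀ a ha)
  have tAM : ∀ a ∈ A, t * a * t ∈ M := by
    intro a ha
    have h1 := nM.conj_mem a (AM ha) t
    rwa [h.t_inv] at h1
  have hct := ct h
  have fus : ∀ a ∈ A, a * a = 1 → a ≠ 1 → ∃ k ∈ M, (∀ b ∈ A, k * MulAut.conj t b = MulAut.conj t b * k) ∧
      MulAut.conj k v = a := by
    intro a ha haa ha1
    obtain ⟨k, hk1, hk2, hk3⟩ := h.w5 a ha haa ha1
    refine ⟨k⁻¹, M.inv_mem ((hf₀ k).mp (hk3 f₀)), fun b hb => ?_, ?_⟩
    · rw [hct]
      have h1 : Commute k (t * b * t) := hk1 b hb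
      exact h1.inv_left.eq
    · rw [MulAut.conj_apply, ← hk2]; group
  have uz : ∀ g, MulAut.conj g v ≠ v * MulAut.conj t v := by
    intro g
    rw [hct, MulAut.conj_apply]
    exact c.uz g
  have AS₀ : A ≤ S ⊓ centralizer {v} := h.A_le_J.trans c.J_le
  have inf : ∀ a ∈ A, MulAut.conj t a ∈ A → a = 1 := fun a ha h1 => h.disj a ha (by rw [← hct]; exact h1)
  have comm : ∀ a ∈ A, ∀ b ∈ A, a * MulAut.conj t b = MulAut.conj t b * a := fun a ha b hb => by
    rw [hct]; exact h.comm a ha b hb
  by_cases hne : S ⊓ centralizer {v} = h.J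
  · -- (D0)
    refine DZero.hyp_false hpt (M := M) (S := S) (A := A) (M₁ := M₁) (M₂ := M₂) (t := t) (u := v)
      { F := h.facts
        tt := h.t_sq
        nM := nM
        tM := tM
        syl := c.syl
        tS := c.tS
        AM := AM
        AS := AS₀.trans c.le
        comm := comm
        inf := inf
        dec := ?_
        uz := uz
        fus := fus } hs
    intro g hg hgM
    have hJM : ∀ x ∈ h.J, x ∈ M := by
      intro x hx
      obtain ⟨a, ha, b, hb, rfl⟩ := h.mem_J.mp hx
      exact M.mul_mem (AM ha) (tAM b hb)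
    have hg₀ : g ∈ h.J := by
      rcases c.idx g hg with h1 | h1
      · rwa [hne] at h1
      · exfalso
        rw [hne] at h1
        apply tM
        have h2 := M.mul_mem (M.inv_mem hgM) (hJM _ h1)
        rwa [inv_mul_cancel_left] at h2
    obtain ⟨a, ha, b, hb, e⟩ := h.mem_J.mp hg₀
    exact ⟨a, ha, b, hb, by rw [hct]; exact e⟩
  · rcases hcase S _ c hne with ⟨w, hw, hwJ, hww, hwt, f', hf't, hf'w⟩ |
      ⟨w, hw, hwJ, hww, hwt, hwM, htw, hly⟩
    · -- (D1), (D2)
      have hwS := mem_inf.mp hw
      have hwv := mem_centralizer_singleton_iff.mp hwS.2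
      refine DTwo.Mc.false (h := h) (S := S) (M := M) (w := w)
        { c := hS
          noT := CFive.noT hS
          wS := hw
          ww := hww
          wt := hwt
          wJ := hwJ
          out := ⟨f', fun _ => hf't, fun hw' => by rw [hf'w hw']; decide⟩
          nM := nM
          tM := tM
          idx := idx
          AM := AM
          perf := ?_
          d3 := ?_ }
      · obtain ⟨a, ha, b, hb, hab⟩ := exists_noncomm h
        exact perfect hs ⟨a, AM ha, b, AM hb, hab⟩
      · rintro ⟨s, hsS, hsJ, hswJ⟩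
        have hs' := mem_inf.mp hsS
        obtain ⟨x, hxS, hxx, hxJ, hxB, hxA, -, hwx, -, hx⟩ := DThreeGlue.d3 h hS h3 hwS.1
          (by rw [hwv, mul_inv_cancel_right]) hwt hwJ hww
          ⟨s, hs'.1, by rw [mem_centralizer_singleton_iff.mp hs'.2, mul_inv_cancel_right], hsJ, hswJ⟩
        refine ⟨x, mem_inf.mpr ⟨hxS, mem_centralizer_singleton_iff.mpr ?_⟩, hxx, hxJ, hxB,
          fun a ha haa b hb hbb hb1 => ?_⟩
        · rcases hS.uv x hxS with e | e
          · exact mul_inv_eq_iff_eq_mul.mp e
          · exfalso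
            have h4 : x * (t * v * t) * x⁻¹ = t * v * t := by rw [hxB v hvA, mul_inv_cancel_right]
            have h5 : x * v * x⁻¹ = x * (t * v * t) * x⁻¹ := e.trans h4.symm
            have h6 : v = t * v * t := mul_left_cancel (mul_right_cancel h5)
            exact h.facts.u_ne (h.disj v hvA (by rw [← h6]; exact hvA))
        · obtain ⟨k, -, hk1, hk2⟩ := hx a ha haa b hb hbb hb1
          exact ⟨k, hk1, hk2⟩
    · -- (D4)
      have hwS := mem_inf.mp hw
      have hwv := mem_centralizer_singleton_iff.mp hwS.2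
      have h17 := CountLy.dvd_card c hw hww hwt hwJ htw
      have h16 : 2 ^ 16 < Nat.card S := by
        have h4 := Nat.le_of_dvd Nat.card_pos h17
        have h5 : 2 ^ 16 < 2 ^ 17 := by norm_num
        omega
      obtain ⟨x, D, O⟩ := DThreeGlue.exists_out h hS h3 h16 hwS.1 hwv hwt.symm hwJ hww
      have hDS₀ : D ≤ S ⊓ centralizer {v} := O.DS
      refine DFourEnd.hyp_false hpt (M := M) (S := S) (A := A) (M₁ := M₁) (M₂ := M₂) (D := D) (t := t) (u := v) (x := x)
        { F := h.facts
          tt := h.t_sq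
          nM := nM
          tM := tM
          idx := idx
          syl := c.syl
          tS := c.tS
          AM := AM
          AD := O.AD
          DS := hDS₀.trans c.le
          xD := O.xD
          xA := O.xA
          xx := O.xx
          ix := O.ix
          xn := O.xn
          sw := O.sw
          comm := O.comm
          inf := O.inf
          dec := ?_
          noT := ?_
          uz := uz
          w := by rw [← O.weq]; exact hwM
          ly := ?_
          fus := fus
          fus' := O.fus' } hs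
      · intro g hg
        rcases c.idx g hg with h4 | h4
        · obtain ⟨a, ha, b, hb, e⟩ := O.dec g h4
          exact ⟨a, ha, b, hb, Or.inl e⟩
        · obtain ⟨a, ha, b, hb, e⟩ := O.dec _ h4
          refine ⟨a, ha, b, hb, Or.inr ?_⟩
          rw [← e, mul_assoc, h.t_sq, mul_one]
      · intro g a ha b hb e
        apply c.noT g
        rw [MulAut.conj_apply] at e
        rw [e, hct]
        exact (S ⊓ centralizer {v}).mul_mem (hDS₀ ha) (c.tS₀ (hDS₀ hb))
      · intro y hy hyA hyy
        have h4 : (y * MulAut.conj t y) * (y * MulAut.conj t y) = 1 := by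
          have h5 := O.comm y hy y hy
          calc (y * MulAut.conj t y) * (y * MulAut.conj t y) = y * (MulAut.conj t y * y) * MulAut.conj t y := by group
            _ = (y * y) * (MulAut.conj t y * MulAut.conj t y) := by rw [← h5]; group
            _ = 1 := by rw [← map_mul, hyy, map_one, one_mul]
        have h5 : y * MulAut.conj t y ≠ 1 := by
          intro e
          apply hyA
          rw [O.inf y hy (by
            rw [(inv_eq_of_mul_eq_one_right e).symm]
            exact D.inv_mem hy)]
          exact A.one_mem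
        have h6 : (y * MulAut.conj t y) * t = t * (y * MulAut.conj t y) := by
          have h7 := O.comm y hy y hy
          have h8 : t * (y * MulAut.conj t y) * t = MulAut.conj t y * y := by
            rw [← hct, map_mul, hct (MulAut.conj t y), hct y, h.cj_cj]
          rw [← h7] at h8
          calc (y * MulAut.conj t y) * t = t * (y * MulAut.conj t y) * t * t := by rw [h8]
            _ = t * (y * MulAut.conj t y) * (t * t) := by group
            _ = _ := by rw [h.t_sq, mul_one]
        have h7 : y * MulAut.conj t y ∈ S ⊓ centralizer {v} := by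
          rw [hct]
          exact (S ⊓ centralizer {v}).mul_mem (hDS₀ hy) (c.tS₀ (hDS₀ hy))
        obtain ⟨g, hg1, hg2⟩ := hly _ h7 h4 h5 h6
        refine ⟨g, hg1, ?_⟩
        rw [MulAut.conj_apply, hg2, hct]
        rfl

end Cfsg.Agent.Wreath.EndMain
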