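import Cfsg.Agent.Wreath.AData

/-!
# A kernel model of the 2-group `2⁴ : D₈` of order 128

Elements are codes `16 g + v` (`g < 8` in `D₈ ≤ GL(4,2)`, `v < 16` in `F₂⁴`), the affine map `w ↦ w g + v`; product
`(g,v)(h,w) = (gh, v h + w)`.
-/

set_option autoImplicit false

namespace Cfsg.Agent.Wreath.AZero

/-- multiplication table of `D₈` (3 bits each) -/
def DT : ℕ := 569354694172427806724108490480351558115420459101178218120
/-- `v * g` (4 bits at `16 g + v`) -/
def VT : ℕ := 6093131092072811373979831404914775388759464804759480871572469637445055340311224165181188738827591775085345026110126454518993472600889806906734640622744080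
/-- inverses (7 bits each) -/
def IT : ℕ := 494918896097953017273969909694997440908451424323172431266674854991556984119686698998481223330324773360127505634904776798449266043607986086983777589427302417337556751562621371670455947342509470822190956893234534525331353178892565754145897273769480961342058535743704301696
/-- words in the generators `1, 32, 64` (16 bits each, two bits per letter) -/
def WT : ℕ := 359496488430777251931956976567449232160864864849107362268861666411071528902898150468888026861138550570672412972727227138725656467865178420341386537276092827512893512594922533643909660288364435420284303954577471349254238867463496582454737778075923512083450023566328636497739535869385315676452489151608877013748107599149336234591954165746794906213925080083115532212191385805993005035847861941729165429671600812423828126966945538280056786702823553490633479867347463077772368364524633715665345948411333239748175672539174191511910349628851427914881646003628235164898442164757182140113150267622011928789894650061765279744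

/-- product of codes -/
def mulN (a b : ℕ) : ℕ :=
  Nat.lor (Nat.shiftLeft (Nat.land (Nat.shiftRight DT (Nat.mul 3 (Nat.add (Nat.mul 8 (Nat.shiftRight a 4))
    (Nat.shiftRight b 4)))) 7) 4)
    (Nat.xor (Nat.land (Nat.shiftRight VT (Nat.mul 4 (Nat.add (Nat.mul 16 (Nat.shiftRight b 4)) (Nat.land a 15)))) 15)
      (Nat.land b 15))

/-- inverse of a code -/
def invN (a : ℕ) : ℕ := Nat.land (Nat.shiftRight IT (Nat.mul 7 a)) 127

/-- the affine action -/
def actN (a w : ℕ) : ℕ :=
  Nat.xor (Nat.land (Nat.shiftRight VT (Nat.mul 4 (Nat.add (Nat.mul 16 (Nat.shiftRight a 4)) w))) 15) (Nat.land a 15)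

def allB : ℕ → (ℕ → Bool) → Bool
  | 0, _ => true
  | n + 1, p => p n && allB n p

theorem allB_spec {p : ℕ → Bool} : ∀ {n : ℕ}, allB n p = true → ∀ a < n, p a = true
  | 0, _, _, ha => absurd ha (Nat.not_lt_zero _)
  | n + 1, h, a, ha => by
    rw [allB, Bool.and_eq_true] at h
    rcases Nat.lt_succ_iff_lt_or_eq.1 ha with h1 | rfl
    · exact allB_spec h.2 a h1
    · exact h.1

def anyB : ℕ → (ℕ → Bool) → Bool
  | 0, _ => false
  | n + 1, p => p n || anyB n p

theorem anyB_spec {p : ℕ → Bool} : ∀ {n : ℕ}, anyB n p = true → ∃ a < n, p a = true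
  | 0, h => by simp [anyB] at h
  | n + 1, h => by
    rw [anyB, Bool.or_eq_true] at h
    rcases h with h | h
    · exact ⟨n, Nat.lt_succ_self n, h⟩
    · obtain ⟨a, ha, hp⟩ := anyB_spec h
      exact ⟨a, Nat.lt_succ_of_lt ha, hp⟩

def cntB : ℕ → (ℕ → Bool) → ℕ
  | 0, _ => 0
  | n + 1, p => (if p n then 1 else 0) + cntB n p

theorem cntB_eq (p : ℕ → Bool) : ∀ n : ℕ, cntB n p = ((Finset.range n).filter (fun a => p a = true)).card
  | 0 => by simp [cntB]
  | n + 1 => by
    rw [cntB, cntB_eq p n, Finset.range_add_one, Finset.filter_insert]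
    split_ifs with h
    · rw [Finset.card_insert_of_notMem (by simp)]; omega
    · omega

theorem mul_lt {a b : ℕ} (ha : a < 128) (hb : b < 128) : mulN a b < 128 := by
  have h : allB 128 (fun a => allB 128 fun b => Nat.blt (mulN a b) 128) = true := by decide +kernel
  have := allB_spec (allB_spec h a ha) b hb
  simpa [Nat.blt] using this

theorem act_lt {a w : ℕ} (ha : a < 128) (hw : w < 16) : actN a w < 16 := by
  have h : allB 128 (fun a => allB 16 fun w => Nat.blt (actN a w) 16) = true := by decide +kernel
  have := allB_spec (allB_spec h a ha) w hw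
  simpa [Nat.blt] using this

theorem act_mul {a b w : ℕ} (ha : a < 128) (hb : b < 128) (hw : w < 16) :
    actN (mulN a b) w = actN b (actN a w) := by
  have h : allB 128 (fun a => allB 128 fun b => let c := mulN a b; allB 16 fun w =>
    Nat.beq (actN c w) (actN b (actN a w))) = true := by decide +kernel
  exact Nat.eq_of_beq_eq_true (allB_spec (allB_spec (allB_spec h a ha) b hb) w hw)

theorem act_inj {a b : ℕ} (ha : a < 128) (hb : b < 128) (h : ∀ w < 16, actN a w = actN b w) : a = b := by
  have h' : allB 128 (fun a => allB 128 fun b => !(Nat.beq (actN a 0) (actN b 0) && Nat.beq (actN a 1) (actN b 1) &&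
    Nat.beq (actN a 2) (actN b 2) && Nat.beq (actN a 4) (actN b 4) && Nat.beq (actN a 8) (actN b 8)) ||
      Nat.beq a b) = true := by decide +kernel
  have h2 := allB_spec (allB_spec h' a ha) b hb
  rw [h 0 (by norm_num), h 1 (by norm_num), h 2 (by norm_num), h 4 (by norm_num), h 8 (by norm_num)] at h2
  simp only [Nat.beq_refl, Bool.and_self, Bool.not_true, Bool.false_or] at h2
  exact Nat.eq_of_beq_eq_true h2

theorem mul_assoc' {a b c : ℕ} (ha : a < 128) (hb : b < 128) (hc : c < 128) :
    mulN (mulN a b) c = mulN a (mulN b c) := by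
  apply act_inj (mul_lt (mul_lt ha hb) hc) (mul_lt ha (mul_lt hb hc))
  intro w hw
  rw [act_mul (mul_lt ha hb) hc hw, act_mul ha hb hw, act_mul ha (mul_lt hb hc) hw,
    act_mul hb hc (act_lt ha hw)]

theorem one_mul' {a : ℕ} (ha : a < 128) : mulN 0 a = a := by
  have h : allB 128 (fun a => Nat.beq (mulN 0 a) a) = true := by decide +kernel
  exact Nat.eq_of_beq_eq_true (allB_spec h a ha)

theorem inv_lt {a : ℕ} (ha : a < 128) : invN a < 128 := by
  have h : allB 128 (fun a => Nat.blt (invN a) 128) = true := by decide +kernel
  have := allB_spec h a ha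
  simpa [Nat.blt] using this

theorem inv_mul' {a : ℕ} (ha : a < 128) : mulN (invN a) a = 0 := by
  have h : allB 128 (fun a => Nat.beq (mulN (invN a) a) 0) = true := by decide +kernel
  exact Nat.eq_of_beq_eq_true (allB_spec h a ha)

/-- the group of order 128 -/
@[ext] structure A0 : Type where
  c : ℕ
  h : c < 128

instance : Mul A0 := ⟨fun a b => ⟨mulN a.c b.c, mul_lt a.h b.h⟩⟩
instance : One A0 := ⟨⟨0, by norm_num⟩⟩
instance : Inv A0 := ⟨fun a => ⟨invN a.c, inv_lt a.h⟩⟩

instance : Group A0 := Group.ofLeftAxioms
  (fun a b c => A0.ext (mul_assoc' a.h b.h c.h))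
  (fun a => A0.ext (one_mul' a.h))
  (fun a => A0.ext (inv_mul' a.h))

theorem c_mul (a b : A0) : (a * b).c = mulN a.c b.c := rfl
theorem c_one : (1 : A0).c = 0 := rfl
theorem c_inv (a : A0) : (a⁻¹).c = invN a.c := rfl

/-- the equivalence with `Fin 128` -/
def toFin : A0 ≃ Fin 128 where
  toFun a := ⟨a.c, a.h⟩
  invFun n := ⟨n.1, n.2⟩
  left_inv _ := rfl
  right_inv _ := rfl

instance : Finite A0 := Finite.of_equiv _ toFin.symm

theorem card_A0 : Nat.card A0 = 128 := by rw [Nat.card_congr toFin, Nat.card_fin]

theorem ncard_set (p : ℕ → Bool) : {a : A0 | p a.c = true}.ncard = cntB 128 p := by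
  rw [cntB_eq, ← Set.ncard_coe_finset, ← Set.ncard_image_of_injective (f := A0.c) _ (fun a b h => A0.ext h)]
  congr 1
  ext n
  constructor
  · rintro ⟨a, ha, rfl⟩
    simpa using ⟨a.h, ha⟩
  · intro hn
    simp only [Finset.coe_filter, Finset.mem_range, Set.mem_ofPred_eq] at hn
    exact ⟨⟨n, hn.1⟩, hn.2, rfl⟩

end Cfsg.Agent.Wreath.AZero
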