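import Cfsg.Agent.Wreath.AZeroFacts

/-!
# Automorphisms of the group of order 128: kernel checks
-/

set_option autoImplicit false

namespace Cfsg.Agent.Wreath.AZero

open Subgroup

def sel (x1 x2 x3 k : ℕ) : ℕ := bif Nat.beq k 1 then x1 else bif Nat.beq k 2 then x2 else x3

/-- evaluation of a packed word -/
def run (x1 x2 x3 : ℕ) : ℕ → ℕ → ℕ → ℕ
  | 0, _, r => r
  | f + 1, w, r => bif Nat.beq w 0 then r else
      run x1 x2 x3 f (Nat.shiftRight w 2) (mulN r (sel x1 x2 x3 (Nat.land w 3)))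

/-- the word of `a`, evaluated -/
def ext (x1 x2 x3 a : ℕ) : ℕ := run x1 x2 x3 8 (Nat.land (Nat.shiftRight WT (Nat.mul 16 a)) 65535) 0

theorem ext_gen : allB 128 (fun a => Nat.beq (ext 1 32 64 a) a) = true := by decide +kernel

/-- relations -/
def rel (x1 x2 x3 : ℕ) : Bool :=
  Nat.beq (run x1 x2 x3 12 15 0) 0 && Nat.beq (run x1 x2 x3 12 14380665 0) 0 && Nat.beq (run x1 x2 x3 12 10350189 0) 0 &&
    Nat.beq (ext x1 x2 x3 8) 8

theorem rel_gen : rel 1 32 64 = true := by decide +kernel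

def M2L : List ℕ := [0, 7, 8, 15, 32, 39, 40, 47, 48, 55, 56, 63, 96, 103, 104, 111]

theorem ck_M2L : allB 128 (fun a => !(tb m2 a) || M2L.any fun b => Nat.beq b a) = true := by decide +kernel

/-- conjugation of codes -/
def conN (a m : ℕ) : ℕ := mulN (mulN a m) (invN a)

/-- the three statements on an involutory automorphism which swaps -/
def propS (x1 x2 x3 : ℕ) : Bool :=
  anyB 128 (fun a => Nat.beq (ext x1 x2 x3 a) (mulN a 8)) &&
  Nat.ble (cntB 128 fun a => Nat.beq (ext x1 x2 x3 a) a) 16 &&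
  anyB 128 (fun a => Nat.beq (ext x1 x2 x3 a) a && anyB 128 fun b => Nat.beq (comN a b) 8 &&
    Nat.beq (ext x1 x2 x3 b) b)

def okS (x1 x2 x3 : ℕ) : Bool :=
  rel x1 x2 x3 && Nat.beq (ext x1 x2 x3 x1) 1 && Nat.beq (ext x1 x2 x3 x2) 32 && Nat.beq (ext x1 x2 x3 x3) 64

theorem ckS : (M2L.all fun x1 => allB 16 fun x2 => allB 128 fun x3 =>
    !(Nat.beq (mulN x3 x3) 0) || tb mP x3 || !(okS x1 x2 x3) || propS x1 x2 x3) = true := by decide +kernel

def first (f : ℕ → ℕ) : List ℕ → ℕ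
  | [] => 0
  | m :: l => bif Nat.beq (f m) m then first f l else mulN (f m) (invN m)

def propF1 (x1 x2 x3 : ℕ) : Bool :=
  anyB 8 (fun i => allB 16 fun m => Nat.beq (ext x1 x2 x3 m) (conN (Nat.mul 16 i) m)) ||
  anyB 8 (fun i => let c := first (fun m => ext x1 x2 x3 (conN (Nat.mul 16 i) m)) [1, 2, 4, 8];
    Nat.blt c 16 && (allB 16 fun m => Nat.beq (ext x1 x2 x3 (conN (Nat.mul 16 i) m)) m ||
      Nat.beq (ext x1 x2 x3 (conN (Nat.mul 16 i) m)) (mulN m c)) &&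
      anyB 16 fun m => !(Nat.beq (ext x1 x2 x3 (conN (Nat.mul 16 i) m)) m))

def propF2 (x1 x2 x3 : ℕ) : Bool :=
  ([0, 1, 2, 3, 16, 17, 18, 19].any fun i => M2L.all fun m => Nat.beq (ext x1 x2 x3 m) (conN i m)) ||
  ([0, 1, 2, 3, 16, 17, 18, 19].any fun i =>
    let c := first (fun m => ext x1 x2 x3 (conN i m)) [7, 8, 32, 48];
    tb m2 c && Nat.blt c 128 && (M2L.all fun m => Nat.beq (ext x1 x2 x3 (conN i m)) m ||
      Nat.beq (ext x1 x2 x3 (conN i m)) (mulN m c)) &&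
      M2L.any fun m => !(Nat.beq (ext x1 x2 x3 (conN i m)) m))

theorem ckF1 : (allB 16 fun x1 => M2L.all fun x2 => allB 128 fun x3 =>
    !(Nat.beq (mulN x3 x3) 0) || tb mP x3 || !(rel x1 x2 x3) || propF1 x1 x2 x3) = true := by decide +kernel

theorem ckF2 : (allB 16 fun x1 => M2L.all fun x2 => allB 128 fun x3 =>
    !(Nat.beq (mulN x3 x3) 0) || tb mP x3 || !(rel x1 x2 x3) || propF2 x1 x2 x3) = true := by decide +kernel

end Cfsg.Agent.Wreath.AZero
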