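import Cfsg.Agent.Wreath.AZeroMain

/-!
# `AData.Facts` for every group isomorphic to the model: the theorem
-/

set_option autoImplicit false

namespace Cfsg.Agent.Wreath.AZero

open Subgroup

variable {G : Type*} [Group G] {A : Subgroup G} (e : A0 ≃* A)

theorem mem_swap {y : G} (hyy : y * y = 1) (hy : ∀ a ∈ A, y * a * y⁻¹ ∈ A)
    (h12 : ∀ x ∈ im e m1 is1, y * x * y⁻¹ ∈ im e m2 is2) :
    ∃ α : A0 →* A0, (∀ a, emb e (α a) = y * emb e a * y⁻¹) ∧
      propS (α g1).c (α g2).c (α g3).c = true := by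
  obtain ⟨α, hα⟩ := exists_aut e y hy
  refine ⟨α, hα, ?_⟩
  have h21 : ∀ x ∈ im e m2 is2, y * x * y⁻¹ ∈ im e m1 is1 :=
    other e hy (m := m1) (m' := m2) (n := m2) (n' := m1) (Or.inl ⟨rfl, rfl⟩) (Or.inr ⟨rfl, rfl⟩) h12
  have hαα : ∀ a, α (α a) = a := by
    intro a
    apply emb_inj e
    have hyi : y⁻¹ = y := inv_eq_of_mul_eq_one_left hyy
    rw [hα, hα, hyi]
    calc y * (y * emb e a * y) * y = (y * y) * emb e a * (y * y) := by group
      _ = emb e a := by rw [hyy, one_mul, mul_one]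
  have h1 : (α g1).c ∈ M2L := mem_M2L (by
    have := h12 (emb e g1) ((emb_mem_im e).2 (by decide +kernel))
    rw [← hα] at this
    exact (emb_mem_im e).1 this)
  have h2 : (α g2).c < 16 := mem_m1 (by
    have := h21 (emb e g2) ((emb_mem_im e).2 (by decide +kernel))
    rw [← hα] at this
    exact (emb_mem_im e).1 this)
  have h3 := notMem_P e (P_fix e (Or.inr ⟨rfl, rfl⟩) h12 h21) hα
  have h4 := List.all_eq_true.1 ckS _ h1
  have h5 := allB_spec (allB_spec h4 _ h2) _ (α g3).h
  rw [sq_g3 α, h3, Bool.not_true, Bool.false_or, Bool.false_or] at h5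
  refine imp h5 ?_
  rw [okS, Bool.and_eq_true, Bool.and_eq_true, Bool.and_eq_true]
  refine ⟨⟨⟨aut_rel α (aut_u α (aut_inj e hα)), beq_of_eq ?_⟩, beq_of_eq ?_⟩, beq_of_eq ?_⟩
  · rw [← aut_ext, hαα]; rfl
  · rw [← aut_ext, hαα]; rfl
  · rw [← aut_ext, hαα]; rfl

theorem exists_fix {y : G} (hy : ∀ a ∈ A, y * a * y⁻¹ ∈ A)
    (h11 : ∀ x ∈ im e m1 is1, y * x * y⁻¹ ∈ im e m1 is1) (h22 : ∀ x ∈ im e m2 is2, y * x * y⁻¹ ∈ im e m2 is2) :
    ∃ α : A0 →* A0, (∀ a, emb e (α a) = y * emb e a * y⁻¹) ∧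
      propF1 (α g1).c (α g2).c (α g3).c = true ∧ propF2 (α g1).c (α g2).c (α g3).c = true := by
  obtain ⟨α, hα⟩ := exists_aut e y hy
  refine ⟨α, hα, ?_⟩
  have h1 : (α g1).c < 16 := mem_m1 (by
    have := h11 (emb e g1) ((emb_mem_im e).2 (by decide +kernel))
    rw [← hα] at this
    exact (emb_mem_im e).1 this)
  have h2 : (α g2).c ∈ M2L := mem_M2L (by
    have := h22 (emb e g2) ((emb_mem_im e).2 (by decide +kernel))
    rw [← hα] at this
    exact (emb_mem_im e).1 this)
  have h3 := notMem_P e (P_fix e (Or.inl ⟨rfl, rfl⟩) h11 h22) hα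
  have hr := aut_rel α (aut_u α (aut_inj e hα))
  constructor
  · have h4 := List.all_eq_true.1 (allB_spec ckF1 _ h1) _ h2
    have h5 := allB_spec h4 _ (α g3).h
    rw [sq_g3 α, h3, Bool.not_true, Bool.false_or, Bool.false_or] at h5
    exact imp h5 hr
  · have h4 := List.all_eq_true.1 (allB_spec ckF2 _ h1) _ h2
    have h5 := allB_spec h4 _ (α g3).h
    rw [sq_g3 α, h3, Bool.not_true, Bool.false_or, Bool.false_or] at h5
    exact imp h5 hr

theorem c_con (a b : A0) : (a * b * a⁻¹).c = conN a.c b.c := rfl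

theorem ck_n1 : allB 128 (fun a => allB 128 fun m => !(tb m1 m) || tb m1 (conN a m)) = true := by decide +kernel

theorem ck_n2 : allB 128 (fun a => allB 128 fun m => !(tb m2 m) || tb m2 (conN a m)) = true := by decide +kernel

/-- **the facts** -/
theorem facts : AData.Facts A (im e m1 is1) (im e m2 is2) (emb e u0) where
  card := by rw [← Nat.card_congr e.toEquiv, card_A0]
  le₁ := im_le e _ _
  le₂ := im_le e _ _
  ne := ne12 e
  card₁ := card1 e
  card₂ := card2 e
  sq₁ := sq_one e (Or.inl rfl)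
  sq₂ := sq_one e (Or.inr rfl)
  only := only e
  cardV := by rw [inf_eq, card_im, cntV]
  cardP := by rw [sup_eq, card_im, cntP]
  inv := by
    intro x hx hxx
    rw [sup_eq] at hx
    obtain ⟨a, ha, rfl⟩ := hx
    have ha' : tb mP a.c = true := ha
    have h1 : a * a = 1 := emb_inj e (by rw [map_mul, map_one, hxx])
    have h2 : Nat.beq (mulN a.c a.c) 0 = true := beq_of_eq (congrArg A0.c h1)
    have h3 := imp (allB_spec ck_inv a.c a.h) (by rw [ha', h2]; rfl)
    rw [Bool.or_eq_true] at h3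
    exact h3.imp (emb_mem_im e).2 (emb_mem_im e).2
  centV := by
    intro x hx hc
    rw [sup_eq]
    rw [inf_eq] at hc
    obtain ⟨a, rfl⟩ := exists_emb e hx
    refine (emb_mem_im e).2 (imp (allB_spec ck_centV a.c a.h) ?_)
    rw [Bool.and_eq_true]
    constructor
    · exact emb_comm e (b := ⟨7, by norm_num⟩) (hc _ ((emb_mem_im e).2 (by decide +kernel)))
    · exact emb_comm e (b := ⟨8, by norm_num⟩) (hc _ ((emb_mem_im e).2 (by decide +kernel)))
  comV := by
    rw [inf_eq, sup_eq]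
    apply le_antisymm
    · rw [commutator_le]
      rintro _ ⟨a, ha, rfl⟩ _ ⟨b, hb, rfl⟩
      have ha' : tb mP a.c = true := ha
      have hb' : tb mP b.c = true := hb
      rw [commutatorElement_def, ← map_inv, ← map_inv, ← map_mul, ← map_mul, ← map_mul]
      exact (emb_mem_im e).2 (imp (allB_spec (imp (allB_spec ck_com a.c a.h) ha') b.c b.h) hb')
    · rintro _ ⟨v, hv, rfl⟩
      have hv' : tb mV v.c = true := hv
      obtain ⟨a, ha, h1⟩ := anyB_spec (imp (allB_spec ck_com' v.c v.h) hv')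
      rw [Bool.and_eq_true] at h1
      obtain ⟨b, hb, h2⟩ := anyB_spec h1.2
      rw [Bool.and_eq_true] at h2
      have h3 : v = (⟨a, ha⟩ : A0) * ⟨b, hb⟩ * (⟨a, ha⟩ : A0)⁻¹ * (⟨b, hb⟩ : A0)⁻¹ :=
        A0.ext (Nat.eq_of_beq_eq_true h2.2).symm
      have h4 := commutator_mem_commutator (H₁ := im e mP isP) (H₂ := im e mP isP)
        (g₁ := emb e ⟨a, ha⟩) (g₂ := emb e ⟨b, hb⟩) ((emb_mem_im e).2 h1.1) ((emb_mem_im e).2 h2.1)
      rw [commutatorElement_def] at h4
      rw [h3, map_mul, map_mul, map_mul, map_inv, map_inv]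
      exact h4
  u_mem := by
    rw [inf_eq]
    exact (emb_mem_im e).2 (by decide +kernel)
  u_ne := by
    intro h
    have h1 : u0 = 1 := emb_inj e (by rw [h, map_one])
    exact absurd (congrArg A0.c h1) (by decide)
  u_cent := by
    intro x hx
    obtain ⟨a, rfl⟩ := exists_emb e hx
    exact emb_comm' e (b := u0) (allB_spec ck_u a.c a.h)
  center := by
    intro x hx hc
    obtain ⟨a, rfl⟩ := exists_emb e hx
    have h1 := allB_spec ck_center a.c a.h
    rw [Bool.or_eq_true, Bool.or_eq_true] at h1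
    rcases h1 with (h1 | h1) | h1
    · left; rw [eq_one_of h1, map_one]
    · right; rw [A0.ext (x := a) (y := u0) (Nat.eq_of_beq_eq_true h1)]
    · exfalso
      obtain ⟨b, hb, h2⟩ := anyB_spec h1
      have h3 := emb_comm e (b := ⟨b, hb⟩) (hc _ (emb_mem e ⟨b, hb⟩))
      rw [h3] at h2
      exact absurd h2 (by decide)
  centu := by
    intro x hx hxP v hv hc
    rw [sup_eq] at hxP
    rw [inf_eq] at hv
    obtain ⟨a, rfl⟩ := exists_emb e hx
    obtain ⟨b, hb, rfl⟩ := hv
    have hb' : tb mV b.c = true := hb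
    have hbl : b.c < 16 := by
      have h1 : allB 128 (fun a => !(tb mV a) || Nat.blt a 16) = true := by decide +kernel
      have h2 := imp (allB_spec h1 b.c b.h) hb'
      simpa [Nat.blt] using h2
    have h1 := allB_spec ck_centu a.c a.h
    rw [Bool.or_eq_true] at h1
    rcases h1 with h1 | h1
    · exact absurd ((emb_mem_im e).2 h1) hxP
    · have h2 := imp (allB_spec h1 b.c hbl) (by rw [hb', emb_comm e hc]; rfl)
      rw [Bool.or_eq_true] at h2
      rcases h2 with h2 | h2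
      · left; rw [eq_one_of h2, map_one]
      · right; rw [A0.ext (x := b) (y := u0) (Nat.eq_of_beq_eq_true h2)]
  pv := by
    intro x hx hc
    rw [sup_eq] at hx hc
    rw [inf_eq]
    obtain ⟨m, hm, rfl⟩ := hx
    have hm' : tb mP m.c = true := hm
    have h1 := allB_spec ck_pv m.c m.h
    rw [hm', Bool.not_true, Bool.false_or, Bool.or_eq_true] at h1
    rcases h1 with h1 | h1
    · exact (emb_mem_im e).2 h1
    · exfalso
      obtain ⟨p, hp, h2⟩ := anyB_spec h1
      rw [Bool.and_eq_true, Bool.and_eq_true] at h2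
      obtain ⟨⟨h3, h4⟩, h5⟩ := h2
      have h6 := hc (emb e ⟨p, hp⟩) ((emb_mem_im e).2 h3)
      rw [← map_inv, ← map_inv, ← map_mul, ← map_mul, ← map_mul] at h6
      rcases h6 with h6 | h6
      · have h7 : m * ⟨p, hp⟩ * m⁻¹ * (⟨p, hp⟩ : A0)⁻¹ = 1 := emb_inj e (by rw [h6, map_one])
        have h8 : Nat.beq (comN m.c p) 0 = true := beq_of_eq (congrArg A0.c h7)
        rw [h8] at h4
        exact absurd h4 (by decide)
      · have h7 : m * ⟨p, hp⟩ * m⁻¹ * (⟨p, hp⟩ : A0)⁻¹ = u0 := emb_inj e h6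
        have h8 : Nat.beq (comN m.c p) 8 = true := beq_of_eq (congrArg A0.c h7)
        rw [h8] at h5
        exact absurd h5 (by decide)
  gen := by
    intro x hx
    obtain ⟨a, rfl⟩ := exists_emb e hx
    have hg : ∀ g : A0, Nat.beq (mulN g.c g.c) 0 = true →
        emb e g ∈ closure {x | x ∈ A ∧ x * x = 1} := fun g h =>
      subset_closure ⟨emb_mem e g, by
        have h1 : g * g = 1 := eq_one_of (a := g * g) h
        rw [← map_mul, h1, map_one]⟩
    have h1 : ext 1 32 64 a.c = a.c := Nat.eq_of_beq_eq_true (allB_spec ext_gen a.c a.h)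
    have h2 : runA g1 g2 g3 8 (Nat.land (Nat.shiftRight WT (Nat.mul 16 a.c)) 65535) 1 = a := by
      apply A0.ext
      rw [runA_c]
      exact h1
    have hsel : ∀ k, emb e (selA g1 g2 g3 k) ∈ closure {x | x ∈ A ∧ x * x = 1} := by
      intro k
      unfold selA
      cases Nat.beq k 1
      · cases Nat.beq k 2
        · exact hg g3 (by decide +kernel)
        · exact hg g2 (by decide +kernel)
      · exact hg g1 (by decide +kernel)
    have h3 : ∀ (f w : ℕ) (r : A0), emb e r ∈ closure {x | x ∈ A ∧ x * x = 1} →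
        emb e (runA g1 g2 g3 f w r) ∈ closure {x | x ∈ A ∧ x * x = 1} := by
      intro f
      induction f with
      | zero => intro w r hr; exact hr
      | succ f ih =>
        intro w r hr
        rw [runA]
        cases Nat.beq w 0
        · rw [cond_false]
          exact ih _ _ (by rw [map_mul]; exact mul_mem hr (hsel _))
        · exact hr
    rw [← h2]
    exact h3 _ _ _ (by rw [map_one]; exact one_mem _)
  small₁ := by
    intro x hx hx1
    obtain ⟨a, rfl⟩ := exists_emb e hx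
    have h1 := allB_spec ck_small1 a.c a.h
    rw [Bool.or_eq_true] at h1
    rcases h1 with h1 | h1
    · exact absurd ((emb_mem_im e).2 h1) hx1
    · refine (card_le e _ _ (inf_le_left.trans (im_le e _ _)) ?_).trans (Nat.le_of_ble_eq_true h1)
      intro b hb
      rw [Bool.and_eq_true]
      exact ⟨(emb_mem_im e).1 hb.1, emb_comm e (mem_centralizer_singleton_iff.1 hb.2)⟩
  small₂ := by
    intro x hx hx1
    obtain ⟨a, rfl⟩ := exists_emb e hx
    have h1 := allB_spec ck_small2 a.c a.h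
    rw [Bool.or_eq_true] at h1
    rcases h1 with h1 | h1
    · exact absurd ((emb_mem_im e).2 h1) hx1
    · refine (card_le e _ _ (inf_le_left.trans (im_le e _ _)) ?_).trans (Nat.le_of_ble_eq_true h1)
      intro b hb
      rw [Bool.and_eq_true]
      exact ⟨(emb_mem_im e).1 hb.1, emb_comm e (mem_centralizer_singleton_iff.1 hb.2)⟩
  swap₁ := by
    intro y hyy hy h12
    obtain ⟨α, hα, hp⟩ := mem_swap e hyy hy h12
    rw [propS, Bool.and_eq_true, Bool.and_eq_true] at hp
    obtain ⟨a, ha, h1⟩ := anyB_spec hp.1.1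
    refine ⟨emb e ⟨a, ha⟩, emb_mem e _, ?_⟩
    rw [← hα, ← map_mul]
    congr 1
    apply A0.ext
    rw [aut_ext]
    exact Nat.eq_of_beq_eq_true h1
  swap₂ := by
    intro y hyy hy h12
    obtain ⟨α, hα, hp⟩ := mem_swap e hyy hy h12
    rw [propS, Bool.and_eq_true, Bool.and_eq_true] at hp
    obtain ⟨a, ha, h1⟩ := anyB_spec hp.2
    rw [Bool.and_eq_true] at h1
    obtain ⟨b, hb, h2⟩ := anyB_spec h1.2
    rw [Bool.and_eq_true] at h2
    have key : ∀ (c : ℕ) (hc : c < 128), Nat.beq (ext (α g1).c (α g2).c (α g3).c c) c = true →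
        emb e ⟨c, hc⟩ ∈ A ⊓ centralizer {y} := by
      intro c hc h
      refine ⟨emb_mem e _, mem_centralizer_singleton_iff.2 ?_⟩
      have h3 : α ⟨c, hc⟩ = ⟨c, hc⟩ := A0.ext (by rw [aut_ext]; exact Nat.eq_of_beq_eq_true h)
      have h4 := hα ⟨c, hc⟩
      rw [h3] at h4
      calc emb e ⟨c, hc⟩ * y = y * emb e ⟨c, hc⟩ * y⁻¹ * y := by rw [← h4]
        _ = y * emb e ⟨c, hc⟩ := by group
    have h5 : u0 = (⟨a, ha⟩ : A0) * ⟨b, hb⟩ * (⟨a, ha⟩ : A0)⁻¹ * (⟨b, hb⟩ : A0)⁻¹ :=
      A0.ext (Nat.eq_of_beq_eq_true h2.1).symm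
    have h6 := commutator_mem_commutator (key a ha h1.1) (key b hb h2.2)
    rw [commutatorElement_def] at h6
    rw [h5, map_mul, map_mul, map_mul, map_inv, map_inv]
    exact h6
  swap₃ := by
    intro y hyy hy h12
    obtain ⟨α, hα, hp⟩ := mem_swap e hyy hy h12
    rw [propS, Bool.and_eq_true, Bool.and_eq_true] at hp
    refine (card_le e _ _ inf_le_left ?_).trans (Nat.le_of_ble_eq_true hp.1.2)
    intro b hb
    have h1 := mem_centralizer_singleton_iff.1 hb.2
    have h2 : α b = b := by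
      apply emb_inj e
      rw [hα, ← h1, mul_inv_cancel_right]
    rw [← aut_ext, h2]
    exact Nat.beq_refl _
  fix₁ := by
    intro y hy h11
    have h22 := other e hy (m := m1) (m' := m2) (n := m1) (n' := m2) (hm' := is2) (hn' := is2)
      (Or.inl ⟨rfl, rfl⟩) (Or.inl ⟨rfl, rfl⟩) h11
    obtain ⟨α, hα, hp, -⟩ := exists_fix e hy h11 h22
    have hcon : ∀ (i : ℕ) (hi : i < 128) (m : A0), (α (⟨i, hi⟩ * m * (⟨i, hi⟩ : A0)⁻¹)).c =
        ext (α g1).c (α g2).c (α g3).c (conN i m.c) := fun i hi m => aut_ext α _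
    rw [propF1, Bool.or_eq_true] at hp
    rcases hp with hp | hp
    · left
      obtain ⟨i, hi, h1⟩ := anyB_spec hp
      have hi' : Nat.mul 16 i < 128 := by
        show 16 * i < 128
        omega
      refine ⟨emb e ⟨Nat.mul 16 i, hi'⟩, emb_mem e _, ?_⟩
      rintro _ ⟨m, hm, rfl⟩
      have h2 := Nat.eq_of_beq_eq_true (allB_spec h1 m.c (mem_m1 hm))
      rw [← hα, ← map_inv, ← map_mul, ← map_mul]
      congr 1
      apply A0.ext
      rw [aut_ext]
      exact h2
    · right
      obtain ⟨i, hi, h1⟩ := anyB_spec hp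
      have hi' : Nat.mul 16 i < 128 := by
        show 16 * i < 128
        omega
      obtain ⟨c, hc⟩ : ∃ c, first (fun m => ext (α g1).c (α g2).c (α g3).c (conN (Nat.mul 16 i) m)) [1, 2, 4, 8] = c :=
        ⟨_, rfl⟩
      simp only [hc] at h1
      rw [Bool.and_eq_true, Bool.and_eq_true] at h1
      obtain ⟨⟨h2, h3⟩, h4⟩ := h1
      have hc16 : c < 16 := by simpa [Nat.blt] using h2
      have hc128 : c < 128 := by omega
      refine ⟨emb e ⟨Nat.mul 16 i, hi'⟩, emb_mem e _, emb e ⟨c, hc128⟩,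
        (emb_mem_im e).2 (m1_of_lt hc16), ?_, ?_⟩
      · rintro _ ⟨m, hm, rfl⟩
        have h5 := allB_spec h3 m.c (mem_m1 hm)
        have e1 : y * emb e ⟨Nat.mul 16 i, hi'⟩ * emb e m * (y * emb e ⟨Nat.mul 16 i, hi'⟩)⁻¹ =
            emb e (α (⟨Nat.mul 16 i, hi'⟩ * m * (⟨Nat.mul 16 i, hi'⟩ : A0)⁻¹)) := by
          rw [hα, map_mul, map_mul, map_inv]; group
        rw [e1, Bool.or_eq_true] at *
        rcases h5 with h5 | h5
        · left
          congr 1
          apply A0.ext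
          rw [hcon]
          exact Nat.eq_of_beq_eq_true h5
        · right
          rw [← map_mul]
          congr 1
          apply A0.ext
          rw [hcon]
          exact Nat.eq_of_beq_eq_true h5
      · obtain ⟨m, hm, h5⟩ := anyB_spec h4
        have hm128 : m < 128 := by omega
        refine ⟨emb e ⟨m, hm128⟩, (emb_mem_im e).2 (m1_of_lt hm), ?_⟩
        have e1 : y * emb e ⟨Nat.mul 16 i, hi'⟩ * emb e ⟨m, hm128⟩ * (y * emb e ⟨Nat.mul 16 i, hi'⟩)⁻¹ =
            emb e (α (⟨Nat.mul 16 i, hi'⟩ * ⟨m, hm128⟩ * (⟨Nat.mul 16 i, hi'⟩ : A0)⁻¹)) := by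
          rw [hα, map_mul, map_mul, map_inv]; group
        rw [e1]
        intro h6
        have h7 := congrArg A0.c (emb_inj e h6)
        rw [hcon] at h7
        have h8 : ext (α g1).c (α g2).c (α g3).c (conN (Nat.mul 16 i) m) = m := h7
        rw [h8, Nat.beq_refl] at h5
        exact absurd h5 (by decide)
  fix₂ := by
    intro y hy h22
    have h11 := other e hy (m := m2) (m' := m1) (n := m2) (n' := m1) (hm' := is1) (hn' := is1)
      (Or.inr ⟨rfl, rfl⟩) (Or.inr ⟨rfl, rfl⟩) h22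
    obtain ⟨α, hα, -, hp⟩ := exists_fix e hy h11 h22
    have hcon : ∀ (i : ℕ) (hi : i < 128) (m : A0), (α (⟨i, hi⟩ * m * (⟨i, hi⟩ : A0)⁻¹)).c =
        ext (α g1).c (α g2).c (α g3).c (conN i m.c) := fun i hi m => aut_ext α _
    have hrep : ∀ i ∈ [0, 1, 2, 3, 16, 17, 18, 19], i < 128 := by decide
    rw [propF2, Bool.or_eq_true] at hp
    rcases hp with hp | hp
    · left
      rw [List.any_eq_true] at hp
      obtain ⟨i, hi, h1⟩ := hp
      refine ⟨emb e ⟨i, hrep i hi⟩, emb_mem e _, ?_⟩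
      rintro _ ⟨m, hm, rfl⟩
      have h2 := Nat.eq_of_beq_eq_true (List.all_eq_true.1 h1 m.c (mem_M2L hm))
      rw [← hα, ← map_inv, ← map_mul, ← map_mul]
      congr 1
      apply A0.ext
      rw [aut_ext]
      exact h2
    · right
      rw [List.any_eq_true] at hp
      obtain ⟨i, hi, h1⟩ := hp
      have hi' := hrep i hi
      obtain ⟨c, hc⟩ : ∃ c, first (fun m => ext (α g1).c (α g2).c (α g3).c (conN i m)) [7, 8, 32, 48] = c :=
        ⟨_, rfl⟩
      simp only [hc] at h1
      rw [Bool.and_eq_true, Bool.and_eq_true, Bool.and_eq_true] at h1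
      obtain ⟨⟨⟨h0, h2⟩, h3⟩, h4⟩ := h1
      have hc128 : c < 128 := by simpa [Nat.blt] using h2
      refine ⟨emb e ⟨i, hi'⟩, emb_mem e _, emb e ⟨c, hc128⟩, (emb_mem_im e).2 h0, ?_, ?_⟩
      · rintro _ ⟨m, hm, rfl⟩
        have h5 := List.all_eq_true.1 h3 m.c (mem_M2L hm)
        have e1 : y * emb e ⟨i, hi'⟩ * emb e m * (y * emb e ⟨i, hi'⟩)⁻¹ =
            emb e (α (⟨i, hi'⟩ * m * (⟨i, hi'⟩ : A0)⁻¹)) := by
          rw [hα, map_mul, map_mul, map_inv]; group
        rw [e1, Bool.or_eq_true] at *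
        rcases h5 with h5 | h5
        · left
          congr 1
          apply A0.ext
          rw [hcon]
          exact Nat.eq_of_beq_eq_true h5
        · right
          rw [← map_mul]
          congr 1
          apply A0.ext
          rw [hcon]
          exact Nat.eq_of_beq_eq_true h5
      · rw [List.any_eq_true] at h4
        obtain ⟨m, hm, h5⟩ := h4
        obtain ⟨hm2, hm128⟩ := m2_of_mem hm
        refine ⟨emb e ⟨m, hm128⟩, (emb_mem_im e).2 hm2, ?_⟩
        have e1 : y * emb e ⟨i, hi'⟩ * emb e ⟨m, hm128⟩ * (y * emb e ⟨i, hi'⟩)⁻¹ =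
            emb e (α (⟨i, hi'⟩ * ⟨m, hm128⟩ * (⟨i, hi'⟩ : A0)⁻¹)) := by
          rw [hα, map_mul, map_mul, map_inv]; group
        rw [e1]
        intro h6
        have h7 := congrArg A0.c (emb_inj e h6)
        rw [hcon] at h7
        have h8 : ext (α g1).c (α g2).c (α g3).c (conN i m) = m := h7
        rw [h8, Nat.beq_refl] at h5
        exact absurd h5 (by decide)
  norm₁ := by
    intro x hx m hm
    obtain ⟨a, rfl⟩ := exists_emb e hx
    obtain ⟨m, hm, rfl⟩ := hm
    rw [← map_inv, ← map_mul, ← map_mul]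
    exact (emb_mem_im e).2 (imp (allB_spec (allB_spec ck_n1 a.c a.h) m.c m.h) hm)
  norm₂ := by
    intro x hx m hm
    obtain ⟨a, rfl⟩ := exists_emb e hx
    obtain ⟨m, hm, rfl⟩ := hm
    rw [← map_inv, ← map_mul, ← map_mul]
    exact (emb_mem_im e).2 (imp (allB_spec (allB_spec ck_n2 a.c a.h) m.c m.h) hm)

/-- the translations -/
theorem facts_of_iso (M1 : Subgroup G) (hM1 : M1 = im e m1 is1) : ∃ M2 u, AData.Facts A M1 M2 u := by
  subst hM1
  exact ⟨_, _, facts e⟩

end Cfsg.Agent.Wreath.AZero
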