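import Cfsg.Agent.Wreath.AZero

/-!
# The facts on the group of order 128
-/

set_option autoImplicit false

namespace Cfsg.Agent.Wreath.AZero

open Subgroup

/-- masks: translations, the other `E₁₆`, their product, their intersection -/
def m1 : ℕ := 65535
def m2 : ℕ := 2626651271835414916121056524665217
def mP : ℕ := 5192217630372331810936972199919615
def mV : ℕ := 33153

/-- bit test -/
def tb (m a : ℕ) : Bool := Nat.beq (Nat.land (Nat.shiftRight m a) 1) 1

/-- `mask` is a subgroup -/
def isSub (m : ℕ) : Bool :=
  tb m 0 && allB 128 (fun a => !(tb m a) || (tb m (invN a) && allB 128 fun b => !(tb m b) || tb m (mulN a b)))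

/-- the subgroup given by a mask -/
def sub (m : ℕ) (h : isSub m = true) : Subgroup A0 where
  carrier := {a | tb m a.c = true}
  one_mem' := by
    rw [isSub, Bool.and_eq_true] at h
    exact h.1
  mul_mem' := by
    intro a b ha hb
    rw [isSub, Bool.and_eq_true] at h
    have h1 := allB_spec h.2 a.c a.h
    have ha' : tb m a.c = true := ha
    have hb' : tb m b.c = true := hb
    rw [ha', Bool.not_true, Bool.false_or, Bool.and_eq_true] at h1
    have h2 := allB_spec h1.2 b.c b.h
    rw [hb', Bool.not_true, Bool.false_or] at h2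
    exact h2
  inv_mem' := by
    intro a ha
    rw [isSub, Bool.and_eq_true] at h
    have h1 := allB_spec h.2 a.c a.h
    have ha' : tb m a.c = true := ha
    rw [ha', Bool.not_true, Bool.false_or, Bool.and_eq_true] at h1
    exact h1.1

theorem is1 : isSub m1 = true := by decide +kernel
theorem is2 : isSub m2 = true := by decide +kernel
theorem isP : isSub mP = true := by decide +kernel
theorem isV : isSub mV = true := by decide +kernel

variable {G : Type*} [Group G] {A : Subgroup G}

/-- the embedding -/
def emb (e : A0 ≃* A) : A0 →* G := A.subtype.comp e.toMonoidHom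

theorem emb_inj (e : A0 ≃* A) : Function.Injective (emb e) := A.subtype_injective.comp e.injective

theorem emb_mem (e : A0 ≃* A) (a : A0) : emb e a ∈ A := (e a).2

theorem exists_emb (e : A0 ≃* A) {x : G} (hx : x ∈ A) : ∃ a, emb e a = x := by
  obtain ⟨a, ha⟩ := e.surjective ⟨x, hx⟩
  exact ⟨a, by show ((e a : A) : G) = x; rw [ha]⟩

/-- image subgroups -/
def im (e : A0 ≃* A) (m : ℕ) (h : isSub m = true) : Subgroup G := (sub m h).map (emb e)

theorem mem_im (e : A0 ≃* A) {m : ℕ} {h : isSub m = true} {x : G} :
    x ∈ im e m h ↔ ∃ a : A0, tb m a.c = true ∧ emb e a = x := Iff.rfl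

theorem emb_mem_im (e : A0 ≃* A) {m : ℕ} {h : isSub m = true} {a : A0} :
    emb e a ∈ im e m h ↔ tb m a.c = true := by
  constructor
  · rintro ⟨b, hb, hba⟩
    rw [emb_inj e hba] at hb
    exact hb
  · intro ha
    exact ⟨a, ha, rfl⟩

theorem im_le (e : A0 ≃* A) (m : ℕ) (h : isSub m = true) : im e m h ≤ A := by
  rintro _ ⟨a, -, rfl⟩
  exact emb_mem e a

theorem card_im (e : A0 ≃* A) (m : ℕ) (h : isSub m = true) : Nat.card (im e m h) = cntB 128 (tb m) := by
  rw [← ncard_set (tb m)]
  have h1 : Nat.card (im e m h) = ((im e m h : Subgroup G) : Set G).ncard := rfl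
  have h2 : ((im e m h : Subgroup G) : Set G) = emb e '' {a : A0 | tb m a.c = true} := rfl
  rw [h1, h2, Set.ncard_image_of_injective _ (emb_inj e)]

theorem card_le (e : A0 ≃* A) (p : ℕ → Bool) (H : Subgroup G) (hH : H ≤ A)
    (h : ∀ a : A0, emb e a ∈ H → p a.c = true) : Nat.card H ≤ cntB 128 p := by
  rw [← ncard_set p]
  have h1 : Nat.card H = (H : Set G).ncard := rfl
  have h2 : (H : Set G) ⊆ emb e '' {a : A0 | p a.c = true} := by
    intro x hx
    obtain ⟨a, rfl⟩ := exists_emb e (hH hx)
    exact ⟨a, h a hx, rfl⟩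
  rw [h1, ← Set.ncard_image_of_injective _ (emb_inj e)]
  exact Set.ncard_le_ncard h2 (Set.toFinite _)

theorem eq_of_c {a b : A0} (h : Nat.beq a.c b.c = true) : a = b := A0.ext (Nat.eq_of_beq_eq_true h)

theorem beq_of_eq {a b : ℕ} (h : a = b) : Nat.beq a b = true := by rw [h]; exact Nat.beq_refl b

/-- commutator of codes -/
def comN (a b : ℕ) : ℕ := mulN (mulN (mulN a b) (invN a)) (invN b)

theorem c_com (a b : A0) : (a * b * a⁻¹ * b⁻¹).c = comN a.c b.c := rfl

/-- implication of booleans -/
theorem imp {p q : Bool} (h : (!p || q) = true) (hp : p = true) : q = true := by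
  rw [hp] at h
  simpa using h

/-! ### checks -/

theorem ck_inf : allB 128 (fun a => Bool.xor (tb mV a) (!(tb m1 a && tb m2 a))) = true := by decide +kernel

theorem ck_sup : allB 128 (fun a => !(tb mP a) || anyB 16 (fun b => tb m2 (mulN b a))) = true := by decide +kernel

theorem ck_sup' : allB 128 (fun a => !(tb m1 a || tb m2 a) || tb mP a) = true := by decide +kernel

theorem ck_sq : allB 128 (fun a => !(tb m1 a || tb m2 a) || Nat.beq (mulN a a) 0) = true := by decide +kernel

theorem ck_inv : allB 128 (fun a => !(tb mP a && Nat.beq (mulN a a) 0) || (tb m1 a || tb m2 a)) = true := by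
  decide +kernel

theorem ck_only : allB 128 (fun a => (tb m1 a || tb m2 a) || !(Nat.beq (mulN a a) 0) ||
    Nat.blt (cntB 128 fun x => Nat.beq (mulN x x) 0 && Nat.beq (mulN x a) (mulN a x)) 16) = true := by
  decide +kernel

theorem ck_centV : allB 128 (fun a => !(Nat.beq (mulN a 7) (mulN 7 a) && Nat.beq (mulN a 8) (mulN 8 a)) || tb mP a) =
    true := by decide +kernel

theorem ck_com : allB 128 (fun a => !(tb mP a) || allB 128 fun b => !(tb mP b) || tb mV (comN a b)) = true := by
  decide +kernel

theorem ck_com' : allB 128 (fun v => !(tb mV v) || anyB 128 fun a => tb mP a && anyB 128 fun b =>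
    tb mP b && Nat.beq (comN a b) v) = true := by decide +kernel

theorem ck_u : allB 128 (fun a => Nat.beq (mulN a 8) (mulN 8 a)) = true := by decide +kernel

theorem ck_center : allB 128 (fun c => (Nat.beq c 0 || Nat.beq c 8) || anyB 128 fun a =>
    !(Nat.beq (mulN c a) (mulN a c))) = true := by decide +kernel

theorem ck_centu : allB 128 (fun a => tb mP a || allB 16 fun x => !(tb mV x && Nat.beq (mulN a x) (mulN x a)) ||
    (Nat.beq x 0 || Nat.beq x 8)) = true := by decide +kernel

theorem ck_pv : allB 128 (fun m => !(tb mP m) || tb mV m || anyB 128 fun p => tb mP p &&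
    !(Nat.beq (comN m p) 0) && !(Nat.beq (comN m p) 8)) = true := by decide +kernel

theorem ck_small1 : allB 128 (fun a => tb m1 a || Nat.ble (cntB 128 fun x => tb m1 x &&
    Nat.beq (mulN x a) (mulN a x)) 4) = true := by decide +kernel

theorem ck_small2 : allB 128 (fun a => tb m2 a || Nat.ble (cntB 128 fun x => tb m2 x &&
    Nat.beq (mulN x a) (mulN a x)) 4) = true := by decide +kernel

theorem cnt1 : cntB 128 (tb m1) = 16 := by decide +kernel
theorem cnt2 : cntB 128 (tb m2) = 16 := by decide +kernel
theorem cntP : cntB 128 (tb mP) = 64 := by decide +kernel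
theorem cntV : cntB 128 (tb mV) = 4 := by decide +kernel

end Cfsg.Agent.Wreath.AZero
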