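import Cfsg.Agent.Wreath.AZeroAut

/-!
# `AData.Facts` for every group isomorphic to the model
-/

set_option autoImplicit false

namespace Cfsg.Agent.Wreath.AZero

open Subgroup

variable {G : Type*} [Group G] {A : Subgroup G} (e : A0 ≃* A)

/-- the generator of the centre -/
def u0 : A0 := ⟨8, by norm_num⟩

theorem inf_eq : im e m1 is1 ⊓ im e m2 is2 = im e mV isV := by
  have key : ∀ a : A0, (tb m1 a.c = true ∧ tb m2 a.c = true) ↔ tb mV a.c = true := by
    intro a
    have h := allB_spec ck_inf a.c a.h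
    revert h
    cases tb mV a.c <;> cases tb m1 a.c <;> cases tb m2 a.c <;> simp
  ext x
  constructor
  · rintro ⟨⟨a, ha, rfl⟩, hb⟩
    exact emb_mem_im e |>.2 ((key a).1 ⟨ha, (emb_mem_im e).1 hb⟩)
  · rintro ⟨a, ha, rfl⟩
    exact ⟨(emb_mem_im e).2 ((key a).2 ha).1, (emb_mem_im e).2 ((key a).2 ha).2⟩

theorem sup_eq : im e m1 is1 ⊔ im e m2 is2 = im e mP isP := by
  apply le_antisymm
  · apply sup_le
    · rintro _ ⟨a, ha, rfl⟩
      have h := allB_spec ck_sup' a.c a.h
      have ha' : tb m1 a.c = true := ha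
      rw [ha'] at h
      exact (emb_mem_im e).2 (by simpa using h)
    · rintro _ ⟨a, ha, rfl⟩
      have h := allB_spec ck_sup' a.c a.h
      have ha' : tb m2 a.c = true := ha
      rw [ha'] at h
      exact (emb_mem_im e).2 (by simpa using h)
  · rintro _ ⟨a, ha, rfl⟩
    have ha' : tb mP a.c = true := ha
    obtain ⟨b, hb, hb2⟩ := anyB_spec (imp (allB_spec ck_sup a.c a.h) ha')
    have hb128 : b < 128 := lt_trans hb (by norm_num)
    have h1 : emb e ⟨b, hb128⟩ ∈ im e m1 is1 := (emb_mem_im e).2 (by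
      have : allB 16 (fun b => tb m1 b) = true := by decide +kernel
      exact allB_spec this b hb)
    have h2 : emb e (⟨b, hb128⟩ * a) ∈ im e m2 is2 := (emb_mem_im e).2 hb2
    have h3 : emb e a = (emb e ⟨b, hb128⟩)⁻¹ * emb e (⟨b, hb128⟩ * a) := by rw [map_mul]; group
    rw [h3]
    exact mul_mem (mem_sup_left (inv_mem h1)) (mem_sup_right h2)

theorem eq_one_of {a : A0} (h : Nat.beq a.c 0 = true) : a = 1 := A0.ext (Nat.eq_of_beq_eq_true h)

theorem sq_one {m : ℕ} {hm : isSub m = true} (h : m = m1 ∨ m = m2) : ∀ x ∈ im e m hm, x * x = 1 := by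
  rintro _ ⟨a, ha, rfl⟩
  have ha' : tb m a.c = true := ha
  have h1 := allB_spec ck_sq a.c a.h
  have h2 : Nat.beq (mulN a.c a.c) 0 = true := by
    rcases h with rfl | rfl <;> · rw [ha'] at h1; simpa using h1
  have h3 : a * a = 1 := eq_one_of (a := a * a) h2
  rw [← map_mul, h3, map_one]

theorem emb_comm {a b : A0} (h : emb e a * emb e b = emb e b * emb e a) :
    Nat.beq (mulN a.c b.c) (mulN b.c a.c) = true := by
  have : a * b = b * a := emb_inj e (by rw [map_mul, map_mul, h])
  exact beq_of_eq (congrArg A0.c this)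

theorem emb_comm' {a b : A0} (h : Nat.beq (mulN a.c b.c) (mulN b.c a.c) = true) :
    emb e a * emb e b = emb e b * emb e a := by
  rw [← map_mul, ← map_mul, eq_of_c (a := a * b) (b := b * a) h]

/-- an elementary abelian subgroup of order at least 16 -/
theorem only (F : Subgroup G) (hF : F ≤ A) (hsq : ∀ x ∈ F, x * x = 1) (h16 : 16 ≤ Nat.card F) :
    F = im e m1 is1 ∨ F = im e m2 is2 := by
  have hcomm : ∀ x ∈ F, ∀ y ∈ F, x * y = y * x := by
    intro x hx y hy
    have h1 := hsq _ (mul_mem hx hy)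
    have hxi : x⁻¹ = x := inv_eq_of_mul_eq_one_left (hsq x hx)
    have hyi : y⁻¹ = y := inv_eq_of_mul_eq_one_left (hsq y hy)
    have h2 : x * y = (x * y)⁻¹ := (inv_eq_of_mul_eq_one_left h1).symm
    rw [h2, mul_inv_rev, hxi, hyi]
  have hfin : Finite A := Finite.of_equiv A0 e.toEquiv
  have hor : ∀ x ∈ F, x ∈ im e m1 is1 ∨ x ∈ im e m2 is2 := by
    intro x hx
    obtain ⟨a, rfl⟩ := exists_emb e (hF hx)
    have h1 := allB_spec ck_only a.c a.h
    rw [Bool.or_eq_true, Bool.or_eq_true, Bool.or_eq_true] at h1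
    rcases h1 with ((h1 | h1) | h1) | h1
    · exact Or.inl ((emb_mem_im e).2 h1)
    · exact Or.inr ((emb_mem_im e).2 h1)
    · exfalso
      have h2 : a * a = 1 := emb_inj e (by rw [map_mul, map_one]; exact hsq _ hx)
      have h3 : Nat.beq (mulN a.c a.c) 0 = true := beq_of_eq (congrArg A0.c h2)
      rw [h3] at h1
      exact absurd h1 (by decide)
    · exfalso
      have h2 := card_le e (fun x => Nat.beq (mulN x x) 0 && Nat.beq (mulN x a.c) (mulN a.c x)) F hF (by
        intro b hb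
        rw [Bool.and_eq_true]
        constructor
        · have h3 : b * b = 1 := emb_inj e (by rw [map_mul, map_one]; exact hsq _ hb)
          exact beq_of_eq (congrArg A0.c h3)
        · exact emb_comm e (hcomm _ hb _ hx))
      have h3 : cntB 128 (fun x => Nat.beq (mulN x x) 0 && Nat.beq (mulN x a.c) (mulN a.c x)) < 16 := by
        simpa [Nat.blt] using h1
      omega
  have hc1 : Nat.card (im e m1 is1) = 16 := by rw [card_im, cnt1]
  have hc2 : Nat.card (im e m2 is2) = 16 := by rw [card_im, cnt2]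
  have hf1 : Finite (im e m1 is1) := Nat.finite_of_card_ne_zero (by rw [hc1]; norm_num)
  have hf2 : Finite (im e m2 is2) := Nat.finite_of_card_ne_zero (by rw [hc2]; norm_num)
  by_cases h1 : F ≤ im e m1 is1
  · left
    exact Subgroup.eq_of_le_of_card_ge h1 (by rw [hc1]; exact h16)
  · right
    have h2 : F ≤ im e m2 is2 := by
      by_contra h2
      obtain ⟨x, hx, hx1⟩ := SetLike.not_le_iff_exists.1 h1
      obtain ⟨y, hy, hy2⟩ := SetLike.not_le_iff_exists.1 h2
      have hx2 := (hor x hx).resolve_left hx1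
      have hy1 := (hor y hy).resolve_right hy2
      rcases hor _ (mul_mem hx hy) with h3 | h3
      · apply hx1
        have := mul_mem h3 (inv_mem hy1)
        rwa [mul_inv_cancel_right] at this
      · apply hy2
        have := mul_mem (inv_mem hx2) h3
        rwa [inv_mul_cancel_left] at this
    exact Subgroup.eq_of_le_of_card_ge h2 (by rw [hc2]; exact h16)

/-! ### automorphisms -/

/-- conjugation by an element normalizing `A`, on codes -/
theorem exists_aut (y : G) (hy : ∀ a ∈ A, y * a * y⁻¹ ∈ A) :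
    ∃ α : A0 →* A0, ∀ a, emb e (α a) = y * emb e a * y⁻¹ := by
  have h : ∀ a : A0, ∃ b, emb e b = y * emb e a * y⁻¹ := fun a => exists_emb e (hy _ (emb_mem e a))
  choose f hf using h
  refine ⟨⟨⟨f, ?_⟩, ?_⟩, hf⟩
  · apply emb_inj e
    rw [hf, map_one]; group
  · intro a b
    apply emb_inj e
    simp only [hf, map_mul]
    group

/-- `sel` and `run` on the group -/
def selA (x1 x2 x3 : A0) (k : ℕ) : A0 := bif Nat.beq k 1 then x1 else bif Nat.beq k 2 then x2 else x3

def runA (x1 x2 x3 : A0) : ℕ → ℕ → A0 → A0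
  | 0, _, r => r
  | f + 1, w, r => bif Nat.beq w 0 then r else
      runA x1 x2 x3 f (Nat.shiftRight w 2) (r * selA x1 x2 x3 (Nat.land w 3))

theorem selA_c (x1 x2 x3 : A0) (k : ℕ) : (selA x1 x2 x3 k).c = sel x1.c x2.c x3.c k := by
  unfold selA sel
  cases Nat.beq k 1
  · cases Nat.beq k 2
    · rfl
    · rfl
  · rfl

theorem runA_c (x1 x2 x3 : A0) (f : ℕ) : ∀ (w : ℕ) (r : A0),
    (runA x1 x2 x3 f w r).c = run x1.c x2.c x3.c f w r.c := by
  induction f with
  | zero => intro w r; rfl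
  | succ f ih =>
    intro w r
    rw [runA, run]
    cases Nat.beq w 0
    · rw [cond_false, cond_false, ih, c_mul, selA_c]
    · rfl

theorem selA_map (α : A0 →* A0) (x1 x2 x3 : A0) (k : ℕ) : α (selA x1 x2 x3 k) = selA (α x1) (α x2) (α x3) k := by
  unfold selA
  cases Nat.beq k 1
  · cases Nat.beq k 2
    · rfl
    · rfl
  · rfl

theorem runA_map (α : A0 →* A0) (x1 x2 x3 : A0) (f : ℕ) : ∀ (w : ℕ) (r : A0),
    α (runA x1 x2 x3 f w r) = runA (α x1) (α x2) (α x3) f w (α r) := by
  induction f with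
  | zero => intro w r; rfl
  | succ f ih =>
    intro w r
    rw [runA, runA]
    cases Nat.beq w 0
    · rw [cond_false, cond_false, ih, map_mul, selA_map]
    · rfl

/-- the generators -/
def g1 : A0 := ⟨1, by norm_num⟩
def g2 : A0 := ⟨32, by norm_num⟩
def g3 : A0 := ⟨64, by norm_num⟩

theorem aut_ext (α : A0 →* A0) (a : A0) : (α a).c = ext (α g1).c (α g2).c (α g3).c a.c := by
  have h1 : ext 1 32 64 a.c = a.c := Nat.eq_of_beq_eq_true (allB_spec ext_gen a.c a.h)
  have h2 : runA g1 g2 g3 8 (Nat.land (Nat.shiftRight WT (Nat.mul 16 a.c)) 65535) 1 = a := by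
    apply A0.ext
    rw [runA_c]
    exact h1
  have h3 := runA_map α g1 g2 g3 8 (Nat.land (Nat.shiftRight WT (Nat.mul 16 a.c)) 65535) 1
  rw [h2, map_one] at h3
  rw [h3, runA_c]
  rfl

theorem aut_rel (α : A0 →* A0) (h8 : (α u0).c = 8) : rel (α g1).c (α g2).c (α g3).c = true := by
  have key : ∀ w, run 1 32 64 12 w 0 = 0 → run (α g1).c (α g2).c (α g3).c 12 w 0 = 0 := by
    intro w hw
    have h1 : runA g1 g2 g3 12 w 1 = 1 := A0.ext (by rw [runA_c]; exact hw)
    have h2 := runA_map α g1 g2 g3 12 w 1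
    rw [h1, map_one] at h2
    have h3 := congrArg A0.c h2
    rw [runA_c] at h3
    exact h3.symm
  have hg := rel_gen
  rw [rel, Bool.and_eq_true, Bool.and_eq_true, Bool.and_eq_true] at hg ⊢
  obtain ⟨⟨⟨e1, e2⟩, e3⟩, -⟩ := hg
  refine ⟨⟨⟨beq_of_eq (key _ (Nat.eq_of_beq_eq_true e1)), beq_of_eq (key _ (Nat.eq_of_beq_eq_true e2))⟩,
    beq_of_eq (key _ (Nat.eq_of_beq_eq_true e3))⟩, beq_of_eq ?_⟩
  have h := aut_ext α u0
  rw [h8] at h
  exact h.symm

theorem aut_inj {y : G} {α : A0 →* A0} (h : ∀ a, emb e (α a) = y * emb e a * y⁻¹) : Function.Injective α := by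
  intro a b hab
  apply emb_inj e
  have h1 := h a
  rw [hab, h b] at h1
  exact (mul_left_cancel (mul_right_cancel h1)).symm

theorem aut_u (α : A0 →* A0) (hα : Function.Injective α) : (α u0).c = 8 := by
  have hs : Function.Surjective α := Finite.surjective_of_injective hα
  have h1 := allB_spec ck_center (α u0).c (α u0).h
  rw [Bool.or_eq_true, Bool.or_eq_true] at h1
  rcases h1 with (h1 | h1) | h1
  · exfalso
    have h2 : α u0 = α 1 := by rw [map_one]; exact eq_one_of h1
    have h3 := congrArg A0.c (hα h2)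
    exact absurd h3 (by decide)
  · exact Nat.eq_of_beq_eq_true h1
  · exfalso
    obtain ⟨a, ha, hh⟩ := anyB_spec h1
    obtain ⟨b, hb⟩ := hs ⟨a, ha⟩
    have h2 : b * u0 = u0 * b := eq_of_c (a := b * u0) (b := u0 * b) (allB_spec ck_u b.c b.h)
    have h3 : α b * α u0 = α u0 * α b := by rw [← map_mul, ← map_mul, h2]
    rw [hb] at h3
    have h4 : mulN a (α u0).c = mulN (α u0).c a := congrArg A0.c h3
    rw [h4, Nat.beq_refl] at hh
    exact absurd hh (by decide)

theorem mem_M2L {a : A0} (h : tb m2 a.c = true) : a.c ∈ M2L := by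
  have h1 := imp (allB_spec ck_M2L a.c a.h) h
  rw [List.any_eq_true] at h1
  obtain ⟨b, hb, hba⟩ := h1
  rw [← Nat.eq_of_beq_eq_true hba]
  exact hb

theorem mem_m1 {a : A0} (h : tb m1 a.c = true) : a.c < 16 := by
  have h1 : allB 128 (fun a => !(tb m1 a) || Nat.blt a 16) = true := by decide +kernel
  have h2 := imp (allB_spec h1 a.c a.h) h
  simpa [Nat.blt] using h2

theorem m1_of_lt {a : ℕ} (h : a < 16) : tb m1 a = true := by
  have h1 : allB 16 (fun b => tb m1 b) = true := by decide +kernel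
  exact allB_spec h1 a h

theorem m2_of_mem {a : ℕ} (h : a ∈ M2L) : tb m2 a = true ∧ a < 128 := by
  have h1 : (M2L.all fun a => tb m2 a && Nat.blt a 128) = true := by decide +kernel
  have h2 := List.all_eq_true.1 h1 a h
  rw [Bool.and_eq_true] at h2
  exact ⟨h2.1, by simpa [Nat.blt] using h2.2⟩

/-- conjugation by `y` of the two subgroups: either fixed or swapped; `P` is fixed -/
theorem conj_map_eq {y : G} {F F' : Subgroup G} [Finite F'] (hc : Nat.card F = Nat.card F')
    (h : ∀ x ∈ F, y * x * y⁻¹ ∈ F') : F.map (MulAut.conj y).toMonoidHom = F' := by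
  have h1 : F.map (MulAut.conj y).toMonoidHom ≤ F' := by
    rintro _ ⟨x, hx, rfl⟩
    exact h x hx
  apply Subgroup.eq_of_le_of_card_ge h1
  rw [card_map_of_injective (MulAut.conj y).injective, hc]

theorem notMem_P {y : G} (hP : (im e mP isP).map (MulAut.conj y).toMonoidHom = im e mP isP) {α : A0 →* A0}
    (h : ∀ a, emb e (α a) = y * emb e a * y⁻¹) : tb mP (α g3).c = false := by
  by_contra hne
  rw [Bool.not_eq_false] at hne
  have h1 : emb e (α g3) ∈ im e mP isP := (emb_mem_im e).2 hne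
  rw [h, ← hP] at h1
  obtain ⟨x, hx, hxy⟩ := h1
  have h2 : x = emb e g3 := (MulAut.conj y).injective hxy
  rw [h2] at hx
  have h3 : tb mP g3.c = true := (emb_mem_im e).1 hx
  exact absurd h3 (by decide +kernel)

theorem sq_g3 (α : A0 →* A0) : Nat.beq (mulN (α g3).c (α g3).c) 0 = true := by
  have h1 : g3 * g3 = 1 := eq_one_of (a := g3 * g3) (by decide +kernel)
  have h2 : α g3 * α g3 = 1 := by rw [← map_mul, h1, map_one]
  exact beq_of_eq (congrArg A0.c h2)

theorem card1 : Nat.card (im e m1 is1) = 16 := by rw [card_im, cnt1]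
theorem card2 : Nat.card (im e m2 is2) = 16 := by rw [card_im, cnt2]

theorem fin1 : Finite (im e m1 is1) := Nat.finite_of_card_ne_zero (by rw [card1]; norm_num)
theorem fin2 : Finite (im e m2 is2) := Nat.finite_of_card_ne_zero (by rw [card2]; norm_num)
theorem finP : Finite (im e mP isP) := Nat.finite_of_card_ne_zero (by rw [card_im, cntP]; norm_num)

theorem ne12 : im e m1 is1 ≠ im e m2 is2 := by
  intro h
  have h1 : emb e g1 ∈ im e m1 is1 := (emb_mem_im e).2 (by decide +kernel)
  rw [h] at h1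
  exact absurd ((emb_mem_im e).1 h1) (by decide +kernel)

/-- the other `E₁₆` is mapped to the other one -/
theorem other {y : G} (hy : ∀ a ∈ A, y * a * y⁻¹ ∈ A) {m m' n n' : ℕ} {hm : isSub m = true} {hm' : isSub m' = true}
    {hn : isSub n = true} {hn' : isSub n' = true} (hmn : (m = m1 ∧ m' = m2) ∨ (m = m2 ∧ m' = m1))
    (hnn : (n = m1 ∧ n' = m2) ∨ (n = m2 ∧ n' = m1))
    (h : ∀ x ∈ im e m hm, y * x * y⁻¹ ∈ im e n hn) : ∀ x ∈ im e m' hm', y * x * y⁻¹ ∈ im e n' hn' := by
  have hcard : ∀ {k : ℕ} (hk : isSub k = true), (k = m1 ∨ k = m2) → Nat.card (im e k hk) = 16 := by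
    rintro k hk (rfl | rfl)
    · exact card1 e
    · exact card2 e
  have h1 : (im e m' hm').map (MulAut.conj y).toMonoidHom = im e n' hn' := by
    have h16 : Nat.card ((im e m' hm').map (MulAut.conj y).toMonoidHom) = 16 := by
      rw [card_map_of_injective (MulAut.conj y).injective]
      exact hcard hm' (by rcases hmn with ⟨-, rfl⟩ | ⟨-, rfl⟩ <;> simp)
    have hfn : Finite (im e n hn) := Nat.finite_of_card_ne_zero (by
      rw [hcard hn (by rcases hnn with ⟨rfl, -⟩ | ⟨rfl, -⟩ <;> simp)]; norm_num)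
    have h2 := conj_map_eq (F := im e m hm) (F' := im e n hn) (by
      rw [hcard hm (by rcases hmn with ⟨rfl, -⟩ | ⟨rfl, -⟩ <;> simp),
        hcard hn (by rcases hnn with ⟨rfl, -⟩ | ⟨rfl, -⟩ <;> simp)]) h
    have h3 := only e ((im e m' hm').map (MulAut.conj y).toMonoidHom) (by
      rintro _ ⟨x, hx, rfl⟩
      exact hy x (im_le e _ _ hx)) (by
      rintro _ ⟨x, hx, rfl⟩
      have : x * x = 1 := sq_one e (by rcases hmn with ⟨-, rfl⟩ | ⟨-, rfl⟩ <;> simp) x hx
      rw [← map_mul, this, map_one]) h16.ge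
    have h4 : (im e m' hm').map (MulAut.conj y).toMonoidHom ≠ im e n hn := by
      rw [← h2]
      intro h5
      have h6 := Subgroup.map_injective (MulAut.conj y).injective h5
      rcases hmn with ⟨rfl, rfl⟩ | ⟨rfl, rfl⟩
      · exact ne12 e h6.symm
      · exact ne12 e h6
    rcases hnn with ⟨rfl, rfl⟩ | ⟨rfl, rfl⟩
    · exact h3.resolve_left h4
    · exact h3.resolve_right h4
  intro x hx
  rw [← h1]
  exact ⟨x, hx, rfl⟩

theorem P_fix {y : G} {m m' : ℕ} {hm : isSub m = true} {hm' : isSub m' = true}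
    (hmn : (m = m1 ∧ m' = m2) ∨ (m = m2 ∧ m' = m1))
    (h : ∀ x ∈ im e m1 is1, y * x * y⁻¹ ∈ im e m hm) (h' : ∀ x ∈ im e m2 is2, y * x * y⁻¹ ∈ im e m' hm') :
    (im e mP isP).map (MulAut.conj y).toMonoidHom = im e mP isP := by
  have := fin1 e
  have := fin2 e
  rw [← sup_eq e, Subgroup.map_sup]
  rcases hmn with ⟨rfl, rfl⟩ | ⟨rfl, rfl⟩
  · rw [conj_map_eq rfl h, conj_map_eq rfl h']
  · rw [conj_map_eq (by rw [card1, card2]) h, conj_map_eq (by rw [card1, card2]) h', sup_comm]

end Cfsg.Agent.Wreath.AZero
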