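import Cfsg.Agent.Wreath.CommonDef

/-!
# The wreath pattern, (C4): `t ^ G ∩ S₀ = ∅`
-/

set_option autoImplicit false

namespace Cfsg.Agent.Wreath.CommonDef

open Subgroup Cfsg.Agent.Wreath.End Cfsg.Agent.StdEven.Syl
open scoped commutatorElement

variable {G : Type*} [Group G] {t u : G} {A M₁ M₂ : Subgroup G}

theorem two_card_le [Finite G] {H K : Subgroup G} (hHK : H ≤ K) {x : G} (hx : x ∈ K) (hxH : x ∉ H) :
    2 * Nat.card H ≤ Nat.card K := by
  obtain ⟨k, hk⟩ := Subgroup.card_dvd_of_le hHK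
  have h1 : k ≠ 0 := by
    rintro rfl
    rw [mul_zero] at hk
    exact (Nat.card_pos (α := K)).ne' hk
  have h2 : k ≠ 1 := by
    rintro rfl
    rw [mul_one] at hk
    exact hxH ((Subgroup.eq_of_le_of_card_ge hHK hk.le) ▸ hx)
  rw [hk, mul_comm]
  exact Nat.mul_le_mul_left _ (by omega)

/-- `{a a ^ t : a ∈ A}` -/
def AL (h : Inp t u A M₁ M₂) : Subgroup G :=
  (h.phi.comp ((MonoidHom.id A).prod (MonoidHom.id A))).range

theorem mem_AL (h : Inp t u A M₁ M₂) {g : G} : g ∈ AL h ↔ ∃ a ∈ A, g = pr t a a := by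
  constructor
  · rintro ⟨a, rfl⟩
    exact ⟨a, a.2, rfl⟩
  · rintro ⟨a, ha, rfl⟩
    exact ⟨⟨a, ha⟩, rfl⟩

theorem card_AL (h : Inp t u A M₁ M₂) : Nat.card (AL h) = 128 := by
  rw [← h.facts.card]
  refine (Nat.card_congr (MonoidHom.ofInjective (f := h.phi.comp ((MonoidHom.id A).prod
    (MonoidHom.id A))) ?_).toEquiv).symm
  intro a b hab
  have h1 := h.phi_inj hab
  exact congrArg Prod.fst h1

namespace Com

variable {h : Inp t u A M₁ M₂} {S S₀ : Subgroup G} (c : Com h S S₀) [Finite G]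
include c

/-- an element of `C(t)` in `S₀ - J` -/
theorem exists_w (hne : S₀ ≠ h.J) : ∃ w ∈ S₀, w ∉ h.J ∧ w * t = t * w := by
  obtain ⟨s, hs, hsJ⟩ : ∃ s ∈ S₀, s ∉ h.J := by
    by_contra hcon
    push Not at hcon
    exact hne (le_antisymm hcon c.J_le)
  obtain ⟨p, hp, hpJ, hpt⟩ : ∃ p ∈ S₀, p ∉ h.J ∧ p⁻¹ * (t * p * t) ∈ h.J := by
    have hts := c.tS₀ hs
    by_cases h1 : s * (t * s * t) ∈ h.J
    · refine ⟨s, hs, hsJ, ?_⟩
      have h2 := h.J.mul_mem (c.sq_mem (S₀.inv_mem hs)) h1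
      have e : s⁻¹ * s⁻¹ * (s * (t * s * t)) = s⁻¹ * (t * s * t) := by group
      rwa [e] at h2
    · refine ⟨_, S₀.mul_mem hs hts, h1, ?_⟩
      rw [h.cj_mul, h.cj_cj]
      have h2 := c.comm_le (commutator_mem_commutator (S₀.inv_mem hts) (S₀.inv_mem hs))
      have e : ⁅(t * s * t)⁻¹, s⁻¹⁆ = (s * (t * s * t))⁻¹ * (t * s * t * s) := by
        rw [commutatorElement_def]; group
      rwa [e] at h2
  obtain ⟨a, ha, b, hb, e⟩ := h.mem_J.mp hpt
  have e1 : t * p * t = p * pr t a b := by rw [← e]; group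
  have e2 : pr t a b * pr t b a = 1 := by
    rw [← h.pr_swap ha hb]
    have h1 : p * (pr t a b * (t * pr t a b * t)) = p := by
      calc p * (pr t a b * (t * pr t a b * t)) = (p * pr t a b) * (t * pr t a b * t) := by group
        _ = (t * p * t) * (t * pr t a b * t) := by rw [e1]
        _ = t * (p * pr t a b) * t := by rw [h.cj_mul]
        _ = t * (t * p * t) * t := by rw [e1]
        _ = p := h.cj_cj p
    exact mul_left_cancel (h1.trans (mul_one p).symm)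
  rw [h.pr_mul ha hb hb ha] at e2
  obtain ⟨e3, -⟩ := h.pr_eq_one (A.mul_mem ha hb) (A.mul_mem hb ha) e2
  have hba : b = a⁻¹ := (inv_eq_of_mul_eq_one_right e3).symm
  have haJ : a ∈ h.J := h.A_le_J ha
  refine ⟨p * a, S₀.mul_mem hp (c.J_le haJ), fun h1 => hpJ ?_, ?_⟩
  · have h2 := h.J.mul_mem h1 (h.J.inv_mem haJ)
    rwa [mul_inv_cancel_right] at h2
  · have h1 : t * (p * a) * t = p * a := by
      rw [h.cj_mul, e1, hba]
      unfold pr
      rw [h.cj_inv]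
      group
    calc p * a * t = t * (p * a) * t * t := by rw [h1]
      _ = t * (p * a) * (t * t) := by group
      _ = t * (p * a) := by rw [h.t_sq, mul_one]

/-- `C_S(t)` is a Sylow 2-subgroup of `C_G(t)` (of order `2 ^ 9`) if `S₀ ≠ J`. -/
theorem sylt (hne : S₀ ≠ h.J) : IsSyl (S ⊓ centralizer {t}) (centralizer {t}) ∧
    Nat.card (S ⊓ centralizer {t} : Subgroup G) = 2 ^ 9 := by
  obtain ⟨w, hw, hwJ, hwt⟩ := c.exists_w hne
  have h1 : AL h ≤ S₀ ⊓ centralizer {t} := by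
    intro g hg
    obtain ⟨a, ha, rfl⟩ := (mem_AL h).mp hg
    refine ⟨c.J_le (h.pr_mem_J ha ha), mem_centralizer_singleton_iff.mpr ?_⟩
    have h2 := h.pr_swap ha ha
    calc pr t a a * t = t * pr t a a * t * t := by rw [h2]
      _ = t * pr t a a * (t * t) := by group
      _ = t * pr t a a := by rw [h.t_sq, mul_one]
  have h2 : 2 * 128 ≤ Nat.card (S₀ ⊓ centralizer {t} : Subgroup G) := by
    rw [← card_AL h]
    apply two_card_le h1 (x := w) ⟨hw, mem_centralizer_singleton_iff.mpr hwt⟩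
    intro h3
    obtain ⟨a, ha, e⟩ := (mem_AL h).mp h3
    exact hwJ (e ▸ h.pr_mem_J ha ha)
  have h3 : 2 * Nat.card (S₀ ⊓ centralizer {t} : Subgroup G) ≤
      Nat.card (S ⊓ centralizer {t} : Subgroup G) := by
    apply two_card_le (inf_le_inf_right _ c.le) (x := t)
      ⟨c.tS, mem_centralizer_singleton_iff.mpr rfl⟩
    exact fun h4 => c.t_notMem h4.1
  have h4 : ∀ Y : Subgroup G, IsPGroup 2 Y → Y ≤ centralizer {t} → Nat.card Y ≤ 2 ^ 9 :=
    fun Y hY hYt => h.w7 Y hY fun x hx => mem_centralizer_singleton_iff.mp (hYt hx)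
  have h5 : IsPGroup 2 (S ⊓ centralizer {t} : Subgroup G) := c.syl.two.to_le inf_le_left
  have h6 := h4 _ h5 inf_le_right
  have h7 : Nat.card (S ⊓ centralizer {t} : Subgroup G) = 2 ^ 9 := by omega
  refine ⟨⟨inf_le_right, h5, fun Y hY hYt hle => ?_⟩, h7⟩
  exact (Subgroup.eq_of_le_of_card_ge hle ((h4 Y hY hYt).trans h7.ge)).symm

/-- extremal conjugation to `u` -/
theorem ext_u {y k : G} (hk : k * u * k⁻¹ = y) : ∃ g, g * y * g⁻¹ = u ∧
    ∀ s ∈ S, s * y = y * s → g * s * g⁻¹ ∈ S₀ := by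
  have h2 : (S ⊓ centralizer {y}).map (MulAut.conj k⁻¹).toMonoidHom ≤ centralizer {u} := by
    rintro _ ⟨s, ⟨-, hs2⟩, rfl⟩
    have h3 := mem_centralizer_singleton_iff.mp hs2
    rw [mem_centralizer_singleton_iff]
    show k⁻¹ * s * k⁻¹⁻¹ * u = u * (k⁻¹ * s * k⁻¹⁻¹)
    calc k⁻¹ * s * k⁻¹⁻¹ * u = k⁻¹ * (s * (k * u * k⁻¹)) * k := by group
      _ = k⁻¹ * ((k * u * k⁻¹) * s) * k := by rw [hk, h3]
      _ = u * (k⁻¹ * s * k⁻¹⁻¹) := by group
  have h3 : IsPGroup 2 ((S ⊓ centralizer {y}).map (MulAut.conj k⁻¹).toMonoidHom : Subgroup G) :=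
    (c.syl.two.to_le inf_le_left).map _
  obtain ⟨n, hn, hc⟩ := c.sylu.exists_conj h3 h2
  refine ⟨n * k⁻¹, ?_, fun s hs hsy => ?_⟩
  · rw [← hk]
    calc n * k⁻¹ * (k * u * k⁻¹) * (n * k⁻¹)⁻¹ = n * u * n⁻¹ := by group
      _ = u := by rw [mem_centralizer_singleton_iff.mp hn, mul_inv_cancel_right]
  · have h4 := hc _ ⟨s, ⟨hs, mem_centralizer_singleton_iff.mpr hsy⟩, rfl⟩
    have e : n * k⁻¹ * s * (n * k⁻¹)⁻¹ = n * (k⁻¹ * s * k⁻¹⁻¹) * n⁻¹ := by group
    rw [e]; exact h4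

/-- an extremal conjugation moves commutators of `C_S(y)` into `J` -/
theorem comm_mem {y g : G} (hg : ∀ s ∈ S, s * y = y * s → g * s * g⁻¹ ∈ S₀) {X : Subgroup G}
    (hX : X ≤ S) (hXy : ∀ s ∈ X, s * y = y * s) {x : G} (hx : x ∈ ⁅X, X⁆) : g * x * g⁻¹ ∈ h.J := by
  apply c.comm_le
  have h1 : X.map (MulAut.conj g).toMonoidHom ≤ S₀ := by
    rintro _ ⟨s, hs, rfl⟩
    exact hg s (hX hs) (hXy s hs)
  have h2 : g * x * g⁻¹ ∈ (⁅X, X⁆).map (MulAut.conj g).toMonoidHom := ⟨x, hx, rfl⟩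
  rw [map_commutator] at h2
  exact commutator_mono h1 h1 h2

/-- (C4), `y ∈ S₀ - J` -/
theorem case_one {y k : G} (hy : y ∈ S₀) (hyJ : y ∉ h.J) (hyt : y * t = t * y)
    (hk : k * u * k⁻¹ = y) : False := by
  have hyy : y * y = 1 := by
    rw [← hk]
    calc k * u * k⁻¹ * (k * u * k⁻¹) = k * (u * u) * k⁻¹ := by group
      _ = 1 := by rw [h.u_sq]; group
  have hyi : y⁻¹ = y := inv_eq_of_mul_eq_one_left hyy
  have htyt : t * y * t = y := by rw [← hyt, mul_assoc, h.t_sq, mul_one]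
  have hsw : ∀ m ∈ M₁, y * m * y⁻¹ ∈ M₂ := by
    refine (c.act hy).resolve_left fun h1 => hyJ ?_
    rw [c.mem_J_iff hy, htyt]
    exact ⟨h1, h1⟩
  obtain ⟨g, hgy, hgS⟩ := c.ext_u hk
  have hAS : A ≤ S := (h.A_le_J.trans c.J_le).trans c.le
  have h1 : u ∈ ⁅A ⊓ centralizer {y}, A ⊓ centralizer {y}⁆ :=
    h.facts.swap₂ y hyy (c.nA y hy) hsw
  have h2 : g * u * g⁻¹ ∈ h.J := c.comm_mem hgS (X := A ⊓ centralizer {y})
    (fun s hs => hAS hs.1) (fun s hs => mem_centralizer_singleton_iff.mp hs.2) h1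
  have h3 : g * (t * u * t) * g⁻¹ ∈ h.J := by
    have h4 : MulAut.conj t u ∈ ⁅(A ⊓ centralizer {y}).map (MulAut.conj t).toMonoidHom,
        (A ⊓ centralizer {y}).map (MulAut.conj t).toMonoidHom⁆ := by
      rw [← map_commutator]
      exact ⟨u, h1, rfl⟩
    rw [MulAut.conj_apply, h.t_inv] at h4
    refine c.comm_mem hgS ?_ ?_ h4
    · rintro _ ⟨s, hs, rfl⟩
      exact S.mul_mem (S.mul_mem c.tS (hAS hs.1)) (S.inv_mem c.tS)
    · rintro _ ⟨s, hs, rfl⟩
      have h5 := mem_centralizer_singleton_iff.mp hs.2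
      show t * s * t⁻¹ * y = y * (t * s * t⁻¹)
      rw [h.t_inv]
      calc t * s * t * y = t * s * (t * y * t) * (t * t)⁻¹ * t := by group
        _ = t * (s * y) * t := by rw [htyt, h.t_sq]; group
        _ = t * (y * s) * t := by rw [h5]
        _ = (t * y) * s * t := by group
        _ = (y * t) * s * t := by rw [hyt]
        _ = y * (t * s * t) := by group
  -- `y ~ y u ~ y v`
  obtain ⟨a, ha, e⟩ := h.facts.swap₁ y hyy (c.nA y hy) hsw
  have e1 : a⁻¹ * y * a = u * y := by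
    have : y * a = a * u * y := by rw [← e]; group
    calc a⁻¹ * y * a = a⁻¹ * (y * a) := by group
      _ = u * y := by rw [this]; group
  have hcu := c.cu y hy
  have hcv := c.cv y hy
  have e2 : (t * a * t)⁻¹ * y * (t * a * t) = (t * u * t) * y := by
    have h5 : t * (a⁻¹ * y * a) * t = t * (u * y) * t := by rw [e1]
    rw [h.cj_mul, h.cj_mul, h.cj_mul, htyt, h.cj_inv] at h5
    exact h5
  have h6 : ∃ l, l * u * l⁻¹ = u * (g * u * g⁻¹) := by
    refine ⟨g * a⁻¹ * g⁻¹, ?_⟩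
    calc g * a⁻¹ * g⁻¹ * u * (g * a⁻¹ * g⁻¹)⁻¹
        = g * (a⁻¹ * (g⁻¹ * u * g) * a) * g⁻¹ := by group
      _ = g * (a⁻¹ * y * a) * g⁻¹ := by
          have : g⁻¹ * u * g = y := by rw [← hgy]; group
          rw [this]
      _ = g * (y * u) * g⁻¹ := by rw [e1, hcu]
      _ = (g * y * g⁻¹) * (g * u * g⁻¹) := by group
      _ = _ := by rw [hgy]
  have h7 : ∃ l, l * u * l⁻¹ = u * (g * (t * u * t) * g⁻¹) := by
    refine ⟨g * (t * a * t)⁻¹ * g⁻¹, ?_⟩
    calc g * (t * a * t)⁻¹ * g⁻¹ * u * (g * (t * a * t)⁻¹ * g⁻¹)⁻¹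
        = g * ((t * a * t)⁻¹ * (g⁻¹ * u * g) * (t * a * t)) * g⁻¹ := by group
      _ = g * ((t * a * t)⁻¹ * y * (t * a * t)) * g⁻¹ := by
          have : g⁻¹ * u * g = y := by rw [← hgy]; group
          rw [this]
      _ = g * (y * (t * u * t)) * g⁻¹ := by rw [e2, hcv]
      _ = (g * y * g⁻¹) * (g * (t * u * t) * g⁻¹) := by group
      _ = _ := by rw [hgy]
  have huA := h.u_mem_A
  -- both lie in `A`
  have key : ∀ x, (∃ l, l * u * l⁻¹ = x) → x ∈ h.J → (∃ l, l * u * l⁻¹ = u * x) →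
      x ∈ A ∧ x ≠ 1 ∧ x * x = 1 := by
    rintro x ⟨l, hl⟩ hxJ ⟨l', hl'⟩
    obtain ⟨b, hb, d, hd, rfl⟩ := h.mem_J.mp hxJ
    rcases c.of_conj_u hb hd hl with ⟨hb1, hd1, -⟩ | ⟨hd1, hb1, hbb⟩
    · exfalso
      rw [hb1] at hl'
      have e3 : u * pr t 1 d = pr t u d := by
        rw [h.pr_one_left]; rfl
      rw [e3] at hl'
      rcases c.of_conj_u huA hd hl' with ⟨h8, -⟩ | ⟨h8, -⟩
      · exact h.facts.u_ne h8
      · exact hd1 h8
    · rw [hd1, h.pr_one_right]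
      exact ⟨hb, hb1, hbb⟩
  obtain ⟨k1, k2, k3⟩ := key _ ⟨g, rfl⟩ h2 h6
  obtain ⟨l1, l2, l3⟩ := key (g * (t * u * t) * g⁻¹) ⟨g * t, by
    rw [mul_inv_rev, h.t_inv]; group⟩ h3 h7
  -- their product is conjugate to `z`
  have hz : g * pr t u u * g⁻¹ = pr t ((g * u * g⁻¹) * (g * (t * u * t) * g⁻¹)) 1 := by
    rw [h.pr_one_right]
    unfold pr
    group
  exact (c.of_conj_z (A.mul_mem k1 l1) A.one_mem hz).2.1 rfl

/-- (C4), `y ∈ S - S₀`, `y t ∉ J` -/
theorem case_two {y k : G} (hy : y ∈ S) (hyS : y * t ∈ S₀)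
    (hk : k * u * k⁻¹ = y) : False := by
  have hyy : y * y = 1 := by
    rw [← hk]
    calc k * u * k⁻¹ * (k * u * k⁻¹) = k * (u * u) * k⁻¹ := by group
      _ = 1 := by rw [h.u_sq]; group
  have hyi : y⁻¹ = y := inv_eq_of_mul_eq_one_left hyy
  have hAS : A ≤ S := (h.A_le_J.trans c.J_le).trans c.le
  obtain ⟨g, hgy, hgS⟩ := c.ext_u hk
  -- `y` maps `A` onto `A ^ t`
  have hyA : ∀ a ∈ A, ∃ b ∈ A, y * a * y = t * b * t := by
    intro a ha
    obtain ⟨b, hb, e⟩ := c.nB (y * t) hyS a ha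
    refine ⟨b, hb, ?_⟩
    rw [← e, mul_inv_rev, hyi, h.t_inv]
    calc y * a * y = y * (1 * a * 1) * y := by group
      _ = y * ((t * t) * a * (t * t)) * y := by rw [h.t_sq]
      _ = y * t * (t * a * t) * (t * y) := by group
  have hcom : ∀ a ∈ A, ∀ b ∈ A, a * (y * b * y) = (y * b * y) * a := by
    intro a ha b hb
    obtain ⟨d, hd, e⟩ := hyA b hb
    rw [e]
    exact h.comm a ha d hd
  -- the homomorphism `p ↦ p p ^ y`
  have hmul : ∀ a ∈ A, ∀ b ∈ A, (a * (y * a * y)) * (b * (y * b * y)) = (a * b) * (y * (a * b) * y) := by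
    intro a ha b hb
    calc (a * (y * a * y)) * (b * (y * b * y)) = a * ((y * a * y) * b) * (y * b * y) := by group
      _ = a * (b * (y * a * y)) * (y * b * y) := by rw [hcom b hb a ha]
      _ = (a * b) * (y * a * (y * y) * b * y) := by group
      _ = _ := by rw [hyy]; group
  let ψ : ↥A →* G :=
    { toFun := fun a => a * (y * a * y)
      map_one' := by
        show (1 : G) * (y * 1 * y) = 1
        rw [mul_one, hyy, one_mul]
      map_mul' := fun a b => (hmul a a.2 b b.2).symm }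
  have hψy : ∀ a ∈ A, (a * (y * a * y)) * y = y * (a * (y * a * y)) := by
    intro a ha
    calc (a * (y * a * y)) * y = a * (y * a) * (y * y) := by group
      _ = (y * y) * a * (y * a) * (y * y) := by rw [hyy, one_mul]
      _ = y * ((y * a * y) * a) * (y * y) := by group
      _ = y * (a * (y * a * y)) * (y * y) := by rw [hcom a ha a ha]
      _ = y * (a * (y * a * y)) := by rw [hyy, mul_one]
  have hψS : ∀ a ∈ A, a * (y * a * y) ∈ S := fun a ha =>
    S.mul_mem (hAS ha) (S.mul_mem (S.mul_mem hy (hAS ha)) hy)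
  have hV : ∀ x ∈ M₁ ⊓ M₂, g * (x * (y * x * y)) * g⁻¹ ∈ h.J := by
    intro x hx
    have hxA : x ∈ A := h.V_le hx
    have h1 : x * (y * x * y) ∈ ⁅((M₁ ⊔ M₂).subgroupOf A).map ψ, ((M₁ ⊔ M₂).subgroupOf A).map ψ⁆ := by
      rw [← map_commutator]
      have h2 : (⁅(M₁ ⊔ M₂).subgroupOf A, (M₁ ⊔ M₂).subgroupOf A⁆).map A.subtype = M₁ ⊓ M₂ := by
        rw [map_commutator, subgroupOf_map_subtype, inf_eq_left.mpr h.P_le, h.facts.comV]
      rw [← h2] at hx
      obtain ⟨x', hx', e⟩ := hx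
      refine ⟨x', hx', ?_⟩
      have e' : (x' : G) = x := e
      show (x' : G) * (y * x' * y) = _
      rw [e']
    refine c.comm_mem hgS ?_ ?_ h1
    · rintro _ ⟨s, -, rfl⟩
      exact hψS s s.2
    · rintro _ ⟨s, -, rfl⟩
      exact hψy s s.2
  -- the `A`-component is `u`
  have key : ∀ x ∈ M₁ ⊓ M₂, x ≠ 1 → ∃ b ∈ A, b ≠ 1 ∧ g * (x * (y * x * y)) * g⁻¹ = pr t u b := by
    intro x hx hx1
    have hxA : x ∈ A := h.V_le hx
    have hxx : x * x = 1 := h.facts.sq₁ x hx.1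
    obtain ⟨q, hq, eq⟩ := hyA x hxA
    have hqq : q * q = 1 := by
      have h1 : (t * q * t) * (t * q * t) = 1 := by
        rw [← eq]
        calc y * x * y * (y * x * y) = y * x * (y * y) * x * y := by group
          _ = y * (x * x) * y := by rw [hyy]; group
          _ = 1 := by rw [hxx, mul_one, hyy]
      rw [← h.cj_mul] at h1
      have h2 := h.cj_cj (q * q)
      rw [h1, mul_one, h.t_sq] at h2
      exact h2.symm
    have hq1 : q ≠ 1 := by
      rintro rfl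
      rw [mul_one, h.t_sq] at eq
      apply hx1
      calc x = (y * y) * x * (y * y) := by rw [hyy, one_mul, mul_one]
        _ = y * (y * x * y) * y := by group
        _ = 1 := by rw [eq, mul_one, hyy]
    obtain ⟨l, hl⟩ := conj_pr h hxA hxx hx1 hq hqq hq1
    obtain ⟨a, ha, b, hb, e⟩ := h.mem_J.mp (hV x hx)
    have h1 : (g * l⁻¹) * pr t u u * (g * l⁻¹)⁻¹ = pr t a b := by
      rw [← hl, ← e, eq]
      unfold pr
      group
    obtain ⟨ha1, hb1, haa, hbb⟩ := c.of_conj_z ha hb h1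
    -- `u (a, b) ~ u`
    have h2 : (g * x⁻¹ * g⁻¹) * u * (g * x⁻¹ * g⁻¹)⁻¹ = pr t (u * a) b := by
      have hxi : x⁻¹ = x := inv_eq_of_mul_eq_one_left hxx
      have h3 : u * pr t a b = pr t (u * a) b := by unfold pr; group
      rw [← h3, ← e]
      have h4 : g⁻¹ * u * g = y := by rw [← hgy]; group
      calc (g * x⁻¹ * g⁻¹) * u * (g * x⁻¹ * g⁻¹)⁻¹ = g * (x⁻¹ * (g⁻¹ * u * g) * x) * g⁻¹ := by group
        _ = g * (x * y * x) * g⁻¹ := by rw [h4, hxi]
        _ = g * ((y * y) * x * y * x) * g⁻¹ := by rw [hyy, one_mul]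
        _ = g * (y * ((y * x * y) * x)) * g⁻¹ := by group
        _ = g * (y * (x * (y * x * y))) * g⁻¹ := by rw [hcom x hxA x hxA]
        _ = (g * y * g⁻¹) * (g * (x * (y * x * y)) * g⁻¹) := by group
        _ = u * (g * (x * (y * x * y)) * g⁻¹) := by rw [hgy]
    rcases c.of_conj_u (A.mul_mem h.u_mem_A ha) hb h2 with ⟨h3, -⟩ | ⟨h3, -⟩
    · have h4 : a = u := by
        rw [← inv_eq_of_mul_eq_one_right h3, inv_eq_of_mul_eq_one_left h.u_sq]
      exact ⟨b, hb, hb1, by rw [e, h4]⟩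
    · exact absurd h3 hb1
  -- three elements of `V`
  obtain ⟨x, hx, hx1, hxu⟩ : ∃ b ∈ M₁ ⊓ M₂, b ≠ 1 ∧ b ≠ u := by
    by_contra hne
    push Not at hne
    have h1 : ((M₁ ⊓ M₂ : Subgroup G) : Set G) ⊆ {1, u} := by
      intro b hb
      by_cases hb1 : b = 1
      · exact Or.inl hb1
      · exact Or.inr (hne b hb hb1)
    have h2 := Set.ncard_le_ncard h1 (Set.toFinite _)
    have h3 : ((M₁ ⊓ M₂ : Subgroup G) : Set G).ncard = 4 := by
      rw [← Nat.card_coe_set_eq]; exact h.facts.cardV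
    have h4 := Set.ncard_insert_le (1 : G) {u}
    rw [Set.ncard_singleton] at h4
    omega
  have huV := h.facts.u_mem
  have hux : x * u ∈ M₁ ⊓ M₂ := (M₁ ⊓ M₂).mul_mem hx huV
  have hux1 : x * u ≠ 1 := by
    intro e
    apply hxu
    rw [← inv_eq_of_mul_eq_one_left e, inv_eq_of_mul_eq_one_left h.u_sq]
  obtain ⟨b1, hb1, -, e1⟩ := key x hx hx1
  obtain ⟨b2, hb2, -, e2⟩ := key u huV h.facts.u_ne
  obtain ⟨b3, hb3, -, e3⟩ := key (x * u) hux hux1
  have h4 : pr t u b1 * pr t u b2 = pr t u b3 := by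
    rw [← e1, ← e2, ← e3, ← hmul x (h.V_le hx) u h.u_mem_A]
    group
  rw [h.pr_mul h.u_mem_A hb1 h.u_mem_A hb2, h.u_sq] at h4
  obtain ⟨h5, -⟩ := h.pr_inj A.one_mem (A.mul_mem hb1 hb2) h.u_mem_A hb3 h4
  exact h.facts.u_ne h5.symm

/-- **(C4)** -/
theorem noT (g : G) : g * t * g⁻¹ ∉ S₀ := by
  intro hg
  by_cases hne : S₀ = h.J
  · exact c.tJ g (hne ▸ hg)
  -- `y = g⁻¹ u g` commutes with `t`
  have h1 : (g⁻¹ * u * g) * t = t * (g⁻¹ * u * g) := by
    have h2 := c.cu _ hg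
    calc (g⁻¹ * u * g) * t = g⁻¹ * (u * (g * t * g⁻¹)) * g := by group
      _ = g⁻¹ * ((g * t * g⁻¹) * u) * g := by rw [h2]
      _ = t * (g⁻¹ * u * g) := by group
  have h2 : IsPGroup 2 (zpowers (g⁻¹ * u * g)) := by
    intro ⟨x, hx⟩
    obtain ⟨i, rfl⟩ := mem_zpowers_iff.mp hx
    refine ⟨1, ?_⟩
    apply Subtype.ext
    show ((g⁻¹ * u * g) ^ i) ^ 2 ^ 1 = 1
    have h3 : (g⁻¹ * u * g) * (g⁻¹ * u * g) = 1 := by
      calc g⁻¹ * u * g * (g⁻¹ * u * g) = g⁻¹ * (u * u) * g := by group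
        _ = 1 := by rw [h.u_sq]; group
    rw [← zpow_natCast, ← zpow_mul, mul_comm i, zpow_mul, zpow_natCast, pow_one, pow_two, h3,
      one_zpow]
  obtain ⟨n, hn, hc⟩ := (c.sylt hne).1.exists_conj h2
    (zpowers_le.mpr (mem_centralizer_singleton_iff.mpr h1))
  have h3 := hc _ (mem_zpowers _)
  set y := n * (g⁻¹ * u * g) * n⁻¹ with hy
  have hyS : y ∈ S := h3.1
  have hyt : y * t = t * y := mem_centralizer_singleton_iff.mp h3.2
  have hk : (n * g⁻¹) * u * (n * g⁻¹)⁻¹ = y := by rw [hy]; group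
  have hyy : y * y = 1 := by
    rw [← hk]
    calc (n * g⁻¹) * u * (n * g⁻¹)⁻¹ * ((n * g⁻¹) * u * (n * g⁻¹)⁻¹) =
          (n * g⁻¹) * (u * u) * (n * g⁻¹)⁻¹ := by group
      _ = 1 := by rw [h.u_sq]; group
  rcases c.idx y hyS with h4 | h4
  · by_cases hJ : y ∈ h.J
    · obtain ⟨a, ha, b, hb, e⟩ := h.mem_J.mp hJ
      have h5 : pr t b a = pr t a b := by
        rw [← h.pr_swap ha hb, ← e, ← hyt, mul_assoc, h.t_sq, mul_one]
      obtain ⟨h6, -⟩ := h.pr_inj hb ha ha hb h5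
      rw [e, h6] at hk
      rcases c.of_conj_u ha ha hk with ⟨h7, h8, -⟩ | ⟨h7, h8, -⟩
      · exact h8 h7
      · exact h8 h7
    · exact c.case_one h4 hJ hyt hk
  · by_cases hJ : y * t ∈ h.J
    · obtain ⟨a, ha, b, hb, e⟩ := h.mem_J.mp hJ
      have h5 : pr t b a = pr t a b := by
        rw [← h.pr_swap ha hb, ← e]
        calc t * (y * t) * t = (t * y) * (t * t) := by group
          _ = y * t := by rw [h.t_sq, mul_one, hyt]
      obtain ⟨h6, -⟩ := h.pr_inj hb ha ha hb h5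
      -- `y = a t a`
      have h7 : y = a * t * a := by
        calc y = y * t * t := by rw [mul_assoc, h.t_sq, mul_one]
          _ = a * (t * b * t) * t := by rw [e]; rfl
          _ = a * t * a * (t * t) := by rw [h6]; group
          _ = a * t * a := by rw [h.t_sq, mul_one]
      have haa : a * a = 1 := by
        have h8 : pr t a b * pr t a b = 1 := by
          rw [← e]
          calc y * t * (y * t) = y * t * (t * y) := by rw [hyt]
            _ = y * (t * t) * y := by group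
            _ = 1 := by rw [h.t_sq, mul_one, hyy]
        exact (pr_sq h ha hb h8).1
      have h8 : a⁻¹ = a := inv_eq_of_mul_eq_one_left haa
      -- `t ~ u`
      apply c.tJ ((n * g⁻¹)⁻¹ * a)
      have h9 : (n * g⁻¹)⁻¹ * a * t * ((n * g⁻¹)⁻¹ * a)⁻¹ = u := by
        calc (n * g⁻¹)⁻¹ * a * t * ((n * g⁻¹)⁻¹ * a)⁻¹ =
              (n * g⁻¹)⁻¹ * (a * t * a⁻¹) * (n * g⁻¹) := by group
          _ = (n * g⁻¹)⁻¹ * y * (n * g⁻¹) := by rw [h8, h7]
          _ = u := by rw [← hk]; group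
      rw [h9]
      exact h.A_le_J h.u_mem_A
    · exact c.case_two hyS h4 hk

end Com

end Cfsg.Agent.Wreath.CommonDef
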