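import Cfsg.Agent.Wreath.CTwoB

/-!
# The end of the wreath pattern (S1739): the Sylow 2-subgroup (part (C3))
-/

set_option autoImplicit false

namespace Cfsg.Agent.Wreath.End

open Subgroup
open scoped commutatorElement
open Cfsg.Agent.Wreath.AData (Facts)

variable {G : Type*} [Group G] {t u : G} {A M₁ M₂ : Subgroup G}

theorem card_le_two_of {K : Subgroup G} {u : G} (hK : ∀ x ∈ K, x = 1 ∨ x = u) : Nat.card K ≤ 2 := by
  classical
  have h5 : ((K : Subgroup G) : Set G).ncard ≤ ({1, u} : Set G).ncard :=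
    Set.ncard_le_ncard (fun x hx => hK x hx) (Set.toFinite _)
  have h7 : ({1, u} : Set G).ncard ≤ 2 := Set.ncard_insert_le _ _ |>.trans (by rw [Set.ncard_singleton])
  exact h5.trans h7

namespace Inp

variable {h : Inp t u A M₁ M₂}

/-! ### Classes of involutions -/

theorem single (h : Inp t u A M₁ M₂) {a : G} (ha : a ∈ A) (h1 : a * a = 1) (h2 : a ≠ 1) : ∃ k : G, k * a * k⁻¹ = u := by
  obtain ⟨k, -, hk, -⟩ := h.w5 a ha h1 h2
  exact ⟨k, hk⟩

theorem mixed (h : Inp t u A M₁ M₂) {a b : G} (ha : a ∈ A) (h1 : a * a = 1) (h2 : a ≠ 1) (hb : b ∈ A) (h3 : b * b = 1)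
    (h4 : b ≠ 1) : ∃ k : G, k * pr t a b * k⁻¹ = u * (t * u * t) := by
  obtain ⟨k, hk, hk', -⟩ := h.w5 a ha h1 h2
  obtain ⟨l, hl, hl', -⟩ := h.w5 b hb h3 h4
  refine ⟨(t * l * t) * k, ?_⟩
  have e1 : k * pr t a b * k⁻¹ = u * (t * b * t) := by
    unfold pr
    have : k * (a * (t * b * t)) * k⁻¹ = (k * a * k⁻¹) * (k * (t * b * t) * k⁻¹) := by group
    rw [this, hk', hk b hb]; group
  have e2 : (t * l * t) * (u * (t * b * t)) * (t * l * t)⁻¹ = (t * l * t) * u * (t * l * t)⁻¹ * (t * (l * b * l⁻¹) * t) := by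
    have h5 : (t * l * t)⁻¹ = t * l⁻¹ * t := by rw [mul_inv_rev, mul_inv_rev, h.t_inv, ← mul_assoc]
    rw [h5]
    have h6 : (t * l * t) * (u * (t * b * t)) * (t * l⁻¹ * t) = t * l * t * u * t * b * (t * t) * l⁻¹ * t := by group
    have h7 : (t * l * t) * u * (t * l⁻¹ * t) * (t * (l * b * l⁻¹) * t) = t * l * t * u * t * l⁻¹ * (t * t) * l * b * l⁻¹ * t := by
      group
    rw [h6, h7, h.t_sq]; group
  have e3 : (t * l * t) * u * (t * l * t)⁻¹ = u := by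
    have h8 := hl (t * (t * u * t) * t)
    rw [h.cj_cj] at h8
    have h9 := hl u h.u_mem_A
    have h10 : (t * l * t) * u = t * (l * (t * u * t)) * t := by
      have : t * (l * (t * u * t)) * t = t * l * t * u * (t * t) := by group
      rw [this, h.t_sq, mul_one]
    have h11 : t * ((t * u * t) * l) * t = u * (t * l * t) := by
      have : t * ((t * u * t) * l) * t = (t * t) * u * t * l * t := by group
      rw [this, h.t_sq]; group
    rw [h10, h9, h11]; group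
  calc (t * l * t) * k * pr t a b * ((t * l * t) * k)⁻¹ = (t * l * t) * (k * pr t a b * k⁻¹) * (t * l * t)⁻¹ := by group
    _ = u * (t * u * t) := by rw [e1, e2, e3, hl']

/-- if `u` and `z = uv` are not conjugate, elements of `N(J)` fixing `u` normalise `A` -/
theorem NJ.nA [Finite G] (uz : ∀ g : G, g * u * g⁻¹ ≠ u * (t * u * t)) {x : G} (hx : h.NJ x) (hu : x * u * x⁻¹ = u) :
    ∀ a ∈ A, x * a * x⁻¹ ∈ A := by
  have key : A ≤ A.comap (MulAut.conj x).toMonoidHom := by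
    refine h.facts.gen.trans ?_
    rw [closure_le]
    rintro a ⟨ha, haa⟩
    show x * a * x⁻¹ ∈ A
    rcases eq_or_ne a 1 with rfl | ha1
    · rw [mul_one, mul_inv_cancel]; exact A.one_mem
    obtain ⟨a', ha', b', hb', he⟩ := h.mem_J.1 ((hx a).1 (h.A_le_J ha))
    have hsq : pr t a' b' * pr t a' b' = 1 := by
      rw [← he]
      have : x * a * x⁻¹ * (x * a * x⁻¹) = x * (a * a) * x⁻¹ := by group
      rw [this, haa]; group
    obtain ⟨h1, h2⟩ := h.pr_sq ha' hb' hsq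
    by_cases hb1 : b' = 1
    · rw [he, hb1, h.pr_one_right]; exact ha'
    exfalso
    by_cases ha1' : a' = 1
    · subst ha1'
      -- `x a x⁻¹ = pr 1 b'` with `b' ∈ V`
      have h3 : x * a * x⁻¹ ∈ h.PR A (M₁ ⊓ M₂) := hx.AV hu (by
        have := h.pr_mem_PR le_rfl h.V_le ha (one_mem (M₁ ⊓ M₂))
        rwa [h.pr_one_right] at this)
      rw [he] at h3
      have hbV : b' ∈ M₁ ⊓ M₂ := ((h.pr_mem_iff le_rfl h.V_le A.one_mem hb').1 h3).2
      have h4 : ∀ y ∈ A, a * y = y * a := by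
        intro y hy
        obtain ⟨c, hc, d, hd, hcd⟩ := h.mem_J.1 ((hx y).1 (h.A_le_J hy))
        have h5 : x * ⁅y, a⁆ * x⁻¹ = pr t 1 ⁅d, b'⁆ := by
          rw [conjugate_commutatorElement, he, hcd, h.pr_comm hc hd A.one_mem hb', commutatorElement_one_right]
        rcases conj_V h.facts hd hbV with h6 | h6
        · have h7 : x * ⁅y, a⁆ * x⁻¹ = 1 := by
            rw [h5, commutatorElement_def, h6, h.pr_one_one]
          have h8 : ⁅y, a⁆ = 1 := by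
            have : ⁅y, a⁆ = x⁻¹ * (x * ⁅y, a⁆ * x⁻¹) * x := by group
            rw [this, h7]; group
          exact (commutatorElement_eq_one_iff_mul_comm.1 h8).symm
        · exfalso
          have h7 : x * ⁅y, a⁆ * x⁻¹ = x * (t * u * t) * x⁻¹ := by
            rw [h5, commutatorElement_def, h6, h.pr_one_left, hx.v hu]
          have h8 : ⁅y, a⁆ = t * u * t := mul_left_cancel (mul_right_cancel h7)
          have h9 : pr t ⁅y, a⁆ 1 = pr t 1 u := by rw [h.pr_one_right, h.pr_one_left, h8]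
          exact h.facts.u_ne (h.pr_inj (com_mem hy ha) A.one_mem A.one_mem h.u_mem_A h9).2.symm
      rcases h.facts.center a ha h4 with h5 | h5
      · exact ha1 h5
      · subst h5
        rw [hu] at he
        have h6 : pr t a 1 = pr t 1 b' := by rw [h.pr_one_right]; exact he
        exact ha1 (h.pr_inj ha A.one_mem A.one_mem hb' h6).1
    · obtain ⟨g, hg⟩ := mixed h ha' h1 ha1' hb' h2 hb1
      obtain ⟨k, hk⟩ := single h ha haa ha1
      apply uz (g * x * k⁻¹)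
      rw [← hg, ← he, ← hk]; group
  intro a ha
  exact key ha

/-! ### Elementary abelian subgroups -/

theorem small_side [Finite G] {x : G} (hx : h.NJ x) (hu : x * u * x⁻¹ = u) (hs : h.Sd M₁ M₂ x) (hs' : h.Sd M₂ M₁ x)
    {F : Subgroup G} (hsq : ∀ g ∈ F, g * g = 1) (hc : ∀ g ∈ F, x * g * x⁻¹ = g) : Nat.card (h.p₁ F) ≤ 4 := by
  have hM1 : M₁ = M₁ ∨ M₁ = M₂ := Or.inl rfl
  have hM2 : M₂ = M₁ ∨ M₂ = M₂ := Or.inr rfl
  have key : ∀ d ∈ h.p₁ F, d ∈ M₁ ⊔ M₂ → d ∈ M₁ ⊓ M₂ := by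
    intro d hd hdP
    obtain ⟨hdA, b, hb, hdb⟩ := h.mem_p₁.1 hd
    rcases h.facts.inv d hdP (h.sq_p₁ hsq d hd) with h1 | h1
    · have h2 := Sd.XA hx hu hM1 hM2 hs (h.pr_mem_PR h.facts.le₁ le_rfl h1 hb)
      rw [hc _ hdb, h.pr_mem_iff h.facts.le₂ le_rfl hdA hb] at h2
      exact ⟨h1, h2.1⟩
    · have h2 := Sd.XA hx hu hM2 hM1 hs' (h.pr_mem_PR h.facts.le₂ le_rfl h1 hb)
      rw [hc _ hdb, h.pr_mem_iff h.facts.le₁ le_rfl hdA hb] at h2
      exact ⟨h2.1, h1⟩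
  by_cases hout : ∃ a ∈ h.p₁ F, a ∉ M₁ ⊔ M₂
  · obtain ⟨a, ha, haP⟩ := hout
    have h1 : Nat.card (h.p₁ F ⊓ (M₁ ⊔ M₂) : Subgroup G) ≤ 2 := by
      apply card_le_two_of (u := u)
      rintro d ⟨hd, hdP⟩
      exact h.facts.centu a (h.p₁_le F ha) haP d (key d hd hdP) (comm_of_sq (h.sq_p₁ hsq) ha hd)
    have h2 := card_le_two_mul (K := M₁ ⊔ M₂) (H := h.p₁ F) fun x hx y hy hx' hy' =>
      P_index h.facts (h.p₁_le F hx) (h.p₁_le F hy) hx' hy'
    omega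
  · push Not at hout
    have h1 : h.p₁ F ≤ M₁ ⊓ M₂ := fun d hd => key d hd (hout d hd)
    calc Nat.card (h.p₁ F) ≤ Nat.card (M₁ ⊓ M₂ : Subgroup G) :=
          Nat.card_le_card_of_injective _ (Subgroup.inclusion_injective h1)
      _ = 4 := h.facts.cardV

theorem p₁_map (h : Inp t u A M₁ M₂) (F : Subgroup G) : h.p₁ (F.map (MulAut.conj t).toMonoidHom) = h.p₂ F := by
  ext a
  rw [h.mem_p₁, h.mem_p₂]
  have h1 : ∀ b ∈ A, a ∈ A → (pr t a b ∈ F.map (MulAut.conj t).toMonoidHom ↔ pr t b a ∈ F) := by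
    intro b hb ha
    rw [Cfsg.Agent.StdEven.Syl.mem_map_conj, h.t_inv, h.pr_swap ha hb]
  constructor
  · rintro ⟨ha, b, hb, hab⟩
    exact ⟨ha, b, hb, (h1 b hb ha).1 hab⟩
  · rintro ⟨ha, b, hb, hab⟩
    exact ⟨ha, b, hb, (h1 b hb ha).2 hab⟩

theorem small_side₂ [Finite G] {x : G} (hx : h.NJ x) (hu : x * u * x⁻¹ = u) (hs : h.Sd M₁ M₂ (t * x * t))
    (hs' : h.Sd M₂ M₁ (t * x * t)) {F : Subgroup G} (hsq : ∀ g ∈ F, g * g = 1) (hc : ∀ g ∈ F, x * g * x⁻¹ = g) :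
    Nat.card (h.p₂ F) ≤ 4 := by
  rw [← p₁_map h F]
  apply small_side hx.conj_t (hx.u_conj_t hu) hs hs'
  · rintro _ ⟨g, hg, rfl⟩
    show t * g * t⁻¹ * (t * g * t⁻¹) = 1
    have : t * g * t⁻¹ * (t * g * t⁻¹) = t * (g * g) * t⁻¹ := by group
    rw [this, hsq g hg]; group
  · rintro _ ⟨g, hg, rfl⟩
    show (t * x * t) * (t * g * t⁻¹) * (t * x * t)⁻¹ = t * g * t⁻¹
    rw [h.t_inv]
    have h1 := conj_t_conj h x g
    rw [hc g hg] at h1
    have h2 : t * g * t = t * (t * (t * x * t * (t * g * t) * (t * x * t)⁻¹) * t) * t := by rw [← h1]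
    rw [h.cj_cj] at h2
    exact h2.symm

theorem small_swap [Finite G] {x : G} (hx : h.NJ x) (hu : x * u * x⁻¹ = t * u * t)
    {F : Subgroup G} (hF : F ≤ h.J) (hsq : ∀ g ∈ F, g * g = 1) (hc : ∀ g ∈ F, x * g * x⁻¹ = g) : Nat.card F ≤ 16 := by
  have key : ∀ b ∈ A, pr t 1 b ∈ F → b = 1 := by
    intro b hb hbF
    have hy : h.NJ (x * t) := hx.mul NJ.of_t
    have hyu : (x * t) * u * (x * t)⁻¹ = u := hx.mul_t_u hu
    have h1 : (x * t) * b * (x * t)⁻¹ = pr t 1 b := by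
      have h2 : (x * t) * b * (x * t)⁻¹ = x * (t * b * t) * x⁻¹ := by rw [mul_inv_rev, h.t_inv]; group
      rw [h2, ← h.pr_one_left, hc _ hbF]
    have hbV : b ∈ M₁ ⊓ M₂ := by
      have h3 := hy.AV hyu (h.pr_mem_PR le_rfl h.V_le hb (one_mem (M₁ ⊓ M₂)))
      rw [h.pr_one_right, h1] at h3
      exact ((h.pr_mem_iff le_rfl h.V_le A.one_mem hb).1 h3).2
    by_contra hb1
    by_cases hbu : b = u
    · subst hbu
      rw [hyu] at h1
      have h2 : pr t b 1 = pr t 1 b := by rw [h.pr_one_right]; exact h1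
      exact hb1 (h.pr_inj hb A.one_mem A.one_mem hb h2).1
    · obtain ⟨a, ha, haP⟩ := exists_out h.facts
      have h4 : ⁅a, b⁆ = u := by
        rcases conj_V h.facts ha hbV with h5 | h5
        · exfalso
          rcases h.facts.centu a ha haP b hbV (commutatorElement_eq_one_iff_mul_comm.1 h5) with h6 | h6
          · exact hb1 h6
          · exact hbu h6
        · exact h5
      obtain ⟨c, hc', d, hd, hcd⟩ := h.mem_J.1 ((hy a).1 (h.A_le_J ha))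
      have h5 : (x * t) * ⁅a, b⁆ * (x * t)⁻¹ = pr t 1 ⁅d, b⁆ := by
        rw [conjugate_commutatorElement, h1, hcd, h.pr_comm hc' hd A.one_mem hb, commutatorElement_one_right]
      rw [h4, hyu] at h5
      have h6 : pr t u 1 = pr t 1 ⁅d, b⁆ := by rw [h.pr_one_right]; exact h5
      exact h.facts.u_ne (h.pr_inj h.u_mem_A A.one_mem A.one_mem (com_mem hd hb) h6).1
  have hex : ∀ g : F, ∃ a ∈ A, ∃ b ∈ A, (g : G) = pr t a b := fun g => h.mem_J.1 (hF g.2)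
  choose a ha b hb hab using hex
  let f : F → h.p₁ F := fun g => ⟨a g, h.mem_p₁.2 ⟨ha g, b g, hb g, by rw [← hab]; exact g.2⟩⟩
  have hf : Function.Injective f := by
    intro g g' he
    have h1 : a g = a g' := Subtype.mk.inj he
    have h2 : (g : G) * (g' : G)⁻¹ = pr t 1 (b g * (b g')⁻¹) := by
      rw [hab g, hab g', h.pr_inv (ha g') (hb g'), h.pr_mul (ha g) (hb g) (A.inv_mem (ha g')) (A.inv_mem (hb g')), h1,
        mul_inv_cancel]
    have h3 := key _ (A.mul_mem (hb g) (A.inv_mem (hb g'))) (by rw [← h2]; exact F.mul_mem g.2 (F.inv_mem g'.2))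
    rw [h3, h.pr_one_one] at h2
    exact Subtype.ext (mul_inv_eq_one.1 h2)
  exact (Nat.card_le_card_of_injective f hf).trans (sq_card h.facts (h.p₁_le F) (h.sq_p₁ hsq))

/-! ### Elementary abelian subgroups of order `≥ 2⁸` lie in `J` -/

/-- the hypothesis (C1)(b) -/
def NQ (h : Inp t u A M₁ M₂) : Prop := ∀ S₁ : Subgroup G, IsPGroup 2 S₁ → t ∈ S₁ → h.J ≤ S₁ → ∀ x ∈ S₁, x * u * x⁻¹ = u →
  (∀ q ∈ h.PR M₁ M₁, x * q * x⁻¹ ∈ h.PR M₁ M₁) → x ∈ h.J

theorem card_mono [Finite G] {X Y : Subgroup G} (hle : X ≤ Y) : Nat.card X ≤ Nat.card Y :=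
  Nat.card_le_card_of_injective _ (Subgroup.inclusion_injective hle)

/-- normaliser of `M₁ × Vᵗ` -/
theorem mem_KA [Finite G] {x : G} : x ∈ normalizer ((h.PR M₁ (M₁ ⊓ M₂) : Subgroup G) : Set G) ↔ h.Sd M₁ M₁ x := by
  constructor
  · intro hx g hg
    exact Cfsg.Agent.StdEven.Syl.conj_mem_of_mem_normalizer hx hg
  · intro hx
    exact Cfsg.Agent.StdEven.Syl.mem_normalizer_of_conj_le hx

theorem KA_mul [Finite G] {x y : G} (hx : h.NJ x) (hy : h.NJ y) (hxu : x * u * x⁻¹ = u) (hyu : y * u * y⁻¹ = u)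
    (hx' : x ∉ normalizer ((h.PR M₁ (M₁ ⊓ M₂) : Subgroup G) : Set G))
    (hy' : y ∉ normalizer ((h.PR M₁ (M₁ ⊓ M₂) : Subgroup G) : Set G)) :
    x * y⁻¹ ∈ normalizer ((h.PR M₁ (M₁ ⊓ M₂) : Subgroup G) : Set G) := by
  rcases hx.side hxu with h1 | h1
  · exact absurd (mem_KA.2 h1.1) hx'
  rcases hy.inv.side (NJ.inv_u hyu) with h2 | h2
  · exact absurd ((Subgroup.inv_mem_iff _).1 (mem_KA.2 h2.1)) hy'
  exact mem_KA.2 (h2.1.mul h1.2)

/-- the subgroup of the `x` with `txt` fixing the side `M₁` -/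
def KB (h : Inp t u A M₁ M₂) : Subgroup G :=
  (normalizer ((h.PR M₁ (M₁ ⊓ M₂) : Subgroup G) : Set G)).comap (MulAut.conj t).toMonoidHom

theorem mem_KB [Finite G] {x : G} : x ∈ h.KB ↔ t * x * t ∈ normalizer ((h.PR M₁ (M₁ ⊓ M₂) : Subgroup G) : Set G) := by
  have h1 : x ∈ h.KB ↔ t * x * t⁻¹ ∈ normalizer ((h.PR M₁ (M₁ ⊓ M₂) : Subgroup G) : Set G) := Iff.rfl
  rw [h1, h.t_inv]

theorem KB_mul [Finite G] {x y : G} (hx : h.NJ x) (hy : h.NJ y) (hxu : x * u * x⁻¹ = u) (hyu : y * u * y⁻¹ = u)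
    (hx' : x ∉ h.KB) (hy' : y ∉ h.KB) : x * y⁻¹ ∈ h.KB := by
  rw [mem_KB] at *
  have h1 : t * (x * y⁻¹) * t = (t * x * t) * (t * y * t)⁻¹ := by rw [h.cj_mul, h.cj_inv]
  rw [h1]
  exact KA_mul hx.conj_t hy.conj_t (hx.u_conj_t hxu) (hy.u_conj_t hyu) hx' hy'

theorem U_mul [Finite G] {x y : G} (hx : h.NJ x) (hy : h.NJ y) (hx' : x * u * x⁻¹ ≠ u) (hy' : y * u * y⁻¹ ≠ u) :
    (x * y⁻¹) * u * (x * y⁻¹)⁻¹ = u := by
  have h1 : x * u * x⁻¹ = t * u * t := hx.uv.resolve_left hx'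
  have h2 : y * u * y⁻¹ = t * u * t := hy.uv.resolve_left hy'
  rcases (hx.mul hy.inv).uv with h3 | h3
  · exact h3
  · exfalso
    -- `y⁻¹ u y = u`
    have h4 : x * (y⁻¹ * u * y) * x⁻¹ = x * u * x⁻¹ := by
      rw [h1, ← h3]; group
    have h5 : y⁻¹ * u * y = u := mul_left_cancel (mul_right_cancel h4)
    apply hy'
    have h6 : u = y * (y⁻¹ * u * y) * y⁻¹ := by group
    rw [h5] at h6
    exact h6.symm

theorem e_le_J [Finite G] (nQ : h.NQ) {S₁ : Subgroup G} (hS : IsPGroup 2 S₁) (ht : t ∈ S₁) (hJ : h.J ≤ S₁)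
    (hN : ∀ x ∈ S₁, h.NJ x) {F : Subgroup G} (hF : F ≤ S₁) (hsq : ∀ x ∈ F, x * x = 1) (hc : 256 ≤ Nat.card F) :
    F ≤ h.J := by
  have hcen : ∀ x ∈ F, ∀ g ∈ F, x * g * x⁻¹ = g := by
    intro x hx g hg
    rw [comm_of_sq hsq hx hg]; group
  have hcen' : ∀ x ∈ F, ∀ g ∈ (F ⊓ h.J : Subgroup G), x * g * x⁻¹ = g := fun x hx g hg => hcen x hx g hg.1
  have hsq' : ∀ g ∈ (F ⊓ h.J : Subgroup G), g * g = 1 := fun g hg => hsq g hg.1
  have hsU : ∀ x : G, x ∈ centralizer ({u} : Set G) ↔ x * u * x⁻¹ = u := by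
    intro x
    rw [mem_centralizer_singleton_iff]
    constructor
    · intro h1; rw [h1]; group
    · intro h1
      calc x * u = (x * u * x⁻¹) * x := by group
        _ = u * x := by rw [h1]
  set U : Subgroup G := centralizer ({u} : Set G) with hU
  set KA : Subgroup G := normalizer ((h.PR M₁ (M₁ ⊓ M₂) : Subgroup G) : Set G) with hKA
  have c1 : Nat.card F ≤ 2 * Nat.card (F ⊓ U : Subgroup G) := by
    apply card_le_two_mul
    intro x hx y hy hx' hy'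
    rw [hsU] at hx' hy' ⊢
    exact U_mul (hN x (hF hx)) (hN y (hF hy)) hx' hy'
  have c2 : Nat.card (F ⊓ U : Subgroup G) ≤ 2 * Nat.card (F ⊓ U ⊓ KA : Subgroup G) := by
    apply card_le_two_mul
    intro x hx y hy hx' hy'
    exact KA_mul (hN x (hF hx.1)) (hN y (hF hy.1)) ((hsU x).1 hx.2) ((hsU y).1 hy.2) hx' hy'
  have c3 : Nat.card (F ⊓ U ⊓ KA : Subgroup G) ≤ 2 * Nat.card (F ⊓ U ⊓ KA ⊓ h.KB : Subgroup G) := by
    apply card_le_two_mul
    intro x hx y hy hx' hy'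
    exact KB_mul (hN x (hF hx.1.1)) (hN y (hF hy.1.1)) ((hsU x).1 hx.1.2) ((hsU y).1 hy.1.2) hx' hy'
  have c4 : ∀ x ∈ F, x ∈ U → x ∈ KA → x ∈ h.KB → x ∈ h.J := by
    intro x hx hxU hxA hxB
    have hxN := hN x (hF hx)
    have hxu := (hsU x).1 hxU
    exact nQ S₁ hS ht hJ x (hF hx) hxu fun q hq => Sd.norm_QQ hxN hxu (mem_KA.1 hxA) (mem_KA.1 (mem_KB.1 hxB)) hq
  have c5 : (F ⊓ U ⊓ KA ⊓ h.KB : Subgroup G) ≤ F ⊓ h.J := fun x hx => ⟨hx.1.1.1, c4 x hx.1.1.1 hx.1.1.2 hx.1.2 hx.2⟩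
  have c6 := card_mono c5
  have c7 := h.card_le_p (F := F ⊓ h.J) inf_le_right
  have c8 : Nat.card (h.p₁ (F ⊓ h.J)) ≤ 16 := sq_card h.facts (h.p₁_le _) (h.sq_p₁ hsq')
  have c9 : Nat.card (h.p₂ (F ⊓ h.J)) ≤ 16 := sq_card h.facts (h.p₂_le _) (h.sq_p₂ hsq')
  by_cases hFU : F ≤ U
  swap
  · exfalso
    obtain ⟨x, hx, hxU⟩ := SetLike.not_le_iff_exists.1 hFU
    have hxN := hN x (hF hx)
    have hxu : x * u * x⁻¹ = t * u * t := hxN.uv.resolve_left (fun h1 => hxU ((hsU x).2 h1))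
    have := small_swap hxN hxu (F := F ⊓ h.J) inf_le_right hsq' (hcen' x hx)
    omega
  have hFU' : (F ⊓ U : Subgroup G) = F := inf_of_le_left hFU
  rw [hFU'] at c2 c3 c5 c6
  by_cases hFA : F ≤ KA
  · have hFA' : (F ⊓ KA : Subgroup G) = F := inf_of_le_left hFA
    rw [hFA'] at c3 c5 c6
    by_cases hFB : F ≤ h.KB
    · intro x hx
      exact c4 x hx (hFU hx) (hFA hx) (hFB hx)
    · exfalso
      obtain ⟨x, hx, hxB⟩ := SetLike.not_le_iff_exists.1 hFB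
      have hxN := hN x (hF hx)
      have hxu := (hsU x).1 (hFU hx)
      rcases hxN.conj_t.side (hxN.u_conj_t hxu) with h1 | h1
      · exact hxB (mem_KB.2 (mem_KA.2 h1.1))
      have h2 := small_side₂ hxN hxu h1.1 h1.2 (F := F ⊓ h.J) hsq' (hcen' x hx)
      have h3 : Nat.card (h.p₁ (F ⊓ h.J)) * Nat.card (h.p₂ (F ⊓ h.J)) ≤ 16 * 4 := Nat.mul_le_mul c8 h2
      omega
  · obtain ⟨x, hx, hxA⟩ := SetLike.not_le_iff_exists.1 hFA
    exfalso
    have hxN := hN x (hF hx)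
    have hxu := (hsU x).1 (hFU hx)
    have h2 : Nat.card (h.p₁ (F ⊓ h.J)) ≤ 4 := by
      rcases hxN.side hxu with h1 | h1
      · exact absurd (mem_KA.2 h1.1) hxA
      exact small_side hxN hxu h1.1 h1.2 hsq' (hcen' x hx)
    by_cases hFB : F ≤ h.KB
    · have h3 : (F ⊓ KA ⊓ h.KB : Subgroup G) = F ⊓ KA := inf_of_le_left (inf_le_left.trans hFB)
      rw [h3] at c6
      have h4 : Nat.card (h.p₁ (F ⊓ h.J)) * Nat.card (h.p₂ (F ⊓ h.J)) ≤ 4 * 16 := Nat.mul_le_mul h2 c9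
      omega
    · obtain ⟨y, hy, hyB⟩ := SetLike.not_le_iff_exists.1 hFB
      have hyN := hN y (hF hy)
      have hyu := (hsU y).1 (hFU hy)
      rcases hyN.conj_t.side (hyN.u_conj_t hyu) with h1 | h1
      · exact hyB (mem_KB.2 (mem_KA.2 h1.1))
      have h5 := small_side₂ hyN hyu h1.1 h1.2 (F := F ⊓ h.J) hsq' (hcen' y hy)
      have h3 : Nat.card (h.p₁ (F ⊓ h.J)) * Nat.card (h.p₂ (F ⊓ h.J)) ≤ 4 * 4 := Nat.mul_le_mul h2 h5
      omega

end Inp

end Cfsg.Agent.Wreath.End
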