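import Cfsg.Agent.Wreath.CThree

/-!
# The end of the wreath pattern (S1739): `exists_common` (end of part (C3))
-/

set_option autoImplicit false

namespace Cfsg.Agent.Wreath.End

open Subgroup
open scoped commutatorElement
open Cfsg.Agent.Wreath.AData (Facts)
open Cfsg.Agent.StdEven.Syl (IsSyl mem_normalizer_of_conj_le conj_mem_of_mem_normalizer conj_inv_mem_of_mem_normalizer
  mem_map_conj exists_isSyl)

variable {G : Type*} [Group G] {t u : G} {A M₁ M₂ : Subgroup G}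

namespace Inp

variable {h : Inp t u A M₁ M₂}

/-- indexing of `M₁`, `M₂` -/
def Mi (M₁ M₂ : Subgroup G) (i : Bool) : Subgroup G := if i then M₁ else M₂

theorem Mi_or (i : Bool) : Mi M₁ M₂ i = M₁ ∨ Mi M₁ M₂ i = M₂ := by
  cases i
  · right; rfl
  · left; rfl

theorem exists_Mi {X : Subgroup G} (hX : X = M₁ ∨ X = M₂) : ∃ i, X = Mi M₁ M₂ i := by
  rcases hX with rfl | rfl
  · exact ⟨true, rfl⟩
  · exact ⟨false, rfl⟩

theorem Mi_inj (h : Inp t u A M₁ M₂) : Function.Injective (Mi M₁ M₂) := by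
  intro i j hij
  cases i <;> cases j
  · rfl
  · exact absurd hij.symm h.facts.ne
  · exact absurd hij h.facts.ne
  · rfl

/-- `J` normalises `X × Yᵗ` -/
theorem J_norm (h : Inp t u A M₁ M₂) {X Y : Subgroup G} (hX : X = M₁ ∨ X = M₂) (hY : Y = M₁ ∨ Y = M₂) {j g : G}
    (hj : j ∈ h.J) (hg : g ∈ h.PR X Y) : j * g * j⁻¹ ∈ h.PR X Y := by
  obtain ⟨a, ha, b, hb, rfl⟩ := h.mem_J.1 hj
  obtain ⟨x, hx, y, hy, rfl⟩ := (h.mem_PR (h.X_le hX) (h.X_le hY)).1 hg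
  rw [h.pr_conj ha hb (h.X_le hX hx) (h.X_le hY hy)]
  have hn : ∀ X : Subgroup G, (X = M₁ ∨ X = M₂) → ∀ a ∈ A, ∀ x ∈ X, a * x * a⁻¹ ∈ X := by
    rintro X (rfl | rfl) a ha x hx
    · exact h.facts.norm₁ a ha x hx
    · exact h.facts.norm₂ a ha x hx
  exact h.pr_mem_PR (h.X_le hX) (h.X_le hY) (hn X hX a ha x hx) (hn Y hY b hb y hy)

/-- `J` is weakly closed in each 2-group `S₁` with `J ⟨t⟩ ≤ S₁ ≤ N(J)`. -/
theorem wcl [Finite G] (nQ : h.NQ) {S₁ : Subgroup G} (hS : IsPGroup 2 S₁) (ht : t ∈ S₁) (hJ : h.J ≤ S₁)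
    (hN : ∀ x ∈ S₁, h.NJ x) {g : G} (hg : ∀ j ∈ h.J, g * j * g⁻¹ ∈ S₁) : ∀ j ∈ h.J, g * j * g⁻¹ ∈ h.J := by
  -- `g` permutes the four subgroups
  have h1 : ∀ i j : Bool, ∃ k l : Bool, (h.PR (Mi M₁ M₂ i) (Mi M₁ M₂ j)).map (MulAut.conj g).toMonoidHom =
      h.PR (Mi M₁ M₂ k) (Mi M₁ M₂ l) := by
    intro i j
    have hsq : ∀ x ∈ (h.PR (Mi M₁ M₂ i) (Mi M₁ M₂ j)).map (MulAut.conj g).toMonoidHom, x * x = 1 := by
      rintro _ ⟨x, hx, rfl⟩
      show g * x * g⁻¹ * (g * x * g⁻¹) = 1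
      have : g * x * g⁻¹ * (g * x * g⁻¹) = g * (x * x) * g⁻¹ := by group
      rw [this, h.PR_sq (Mi_or i) (Mi_or j) x hx]; group
    have hc : 256 ≤ Nat.card ((h.PR (Mi M₁ M₂ i) (Mi M₁ M₂ j)).map (MulAut.conj g).toMonoidHom) := by
      rw [← Nat.card_congr ((h.PR (Mi M₁ M₂ i) (Mi M₁ M₂ j)).equivMapOfInjective (MulAut.conj g).toMonoidHom
        (MulAut.conj g).injective).toEquiv, h.PR_card (Mi_or i) (Mi_or j)]
    have hle : (h.PR (Mi M₁ M₂ i) (Mi M₁ M₂ j)).map (MulAut.conj g).toMonoidHom ≤ h.J := by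
      apply e_le_J nQ hS ht hJ hN _ hsq hc
      rintro _ ⟨x, hx, rfl⟩
      exact hg x (h.PR_le_J (h.X_le (Mi_or i)) (h.X_le (Mi_or j)) hx)
    obtain ⟨X, Y, hX, hY, he⟩ := h.e256 hle hsq hc
    obtain ⟨k, rfl⟩ := exists_Mi hX
    obtain ⟨l, rfl⟩ := exists_Mi hY
    exact ⟨k, l, he⟩
  choose f₁ f₂ hf using h1
  let f : Bool × Bool → Bool × Bool := fun p => (f₁ p.1 p.2, f₂ p.1 p.2)
  have hfi : Function.Injective f := by
    rintro ⟨i, j⟩ ⟨i', j'⟩ he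
    simp only [f, Prod.mk.injEq] at he
    have h2 := hf i j
    rw [he.1, he.2, ← hf i' j'] at h2
    have h3 := Subgroup.map_injective (MulAut.conj g).injective h2
    have h4 := h.PR_inj (h.X_le (Mi_or i)) (h.X_le (Mi_or j)) (h.X_le (Mi_or i')) (h.X_le (Mi_or j')) h3.le
    have h5 := h.PR_inj (h.X_le (Mi_or i')) (h.X_le (Mi_or j')) (h.X_le (Mi_or i)) (h.X_le (Mi_or j)) h3.ge
    rw [Mi_inj h (le_antisymm h4.1 h5.1), Mi_inj h (le_antisymm h4.2 h5.2)]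
  have hfs : Function.Surjective f := Finite.injective_iff_surjective.1 hfi
  intro j hj
  obtain ⟨w, hw⟩ : ∃ w, w = g * j * g⁻¹ := ⟨_, rfl⟩
  rw [← hw]
  have hwS : w ∈ S₁ := by rw [hw]; exact hg j hj
  have hwN : h.NJ w := hN w hwS
  have hwQ : ∀ X Y : Subgroup G, (X = M₁ ∨ X = M₂) → (Y = M₁ ∨ Y = M₂) → ∀ q ∈ h.PR X Y, w * q * w⁻¹ ∈ h.PR X Y := by
    intro X Y hX hY q hq
    obtain ⟨k, rfl⟩ := exists_Mi hX
    obtain ⟨l, rfl⟩ := exists_Mi hY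
    obtain ⟨⟨i, i'⟩, hii⟩ := hfs (k, l)
    simp only [f, Prod.mk.injEq] at hii
    have h2 := hf i i'
    rw [hii.1, hii.2] at h2
    rw [← h2, mem_map_conj] at hq ⊢
    have h3 := h.J_norm (Mi_or i) (Mi_or i') hj hq
    have h4 : g⁻¹ * (w * q * w⁻¹) * g = j * (g⁻¹ * q * g) * j⁻¹ := by rw [hw]; group
    rw [h4]; exact h3
  have hM1 : M₁ = M₁ ∨ M₁ = M₂ := Or.inl rfl
  have hM2 : M₂ = M₁ ∨ M₂ = M₂ := Or.inr rfl
  have hwu : w * u * w⁻¹ = u := by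
    rcases hwN.uv with h2 | h2
    · exact h2
    exfalso
    have hy : h.NJ (w * t) := hwN.mul NJ.of_t
    have hyu := hwN.mul_t_u h2
    have h3 : w ∈ normalizer ((h.PR M₁ (M₁ ⊓ M₂) : Subgroup G) : Set G) := by
      apply mem_normalizer_of_conj_le
      intro q hq
      have h4 := hwQ M₁ M₁ hM1 hM1 q (h.PR_mono le_rfl inf_le_left h.facts.le₁ h.facts.le₁ hq)
      have h5 := hwQ M₁ M₂ hM1 hM2 q (h.PR_mono le_rfl inf_le_right h.facts.le₁ h.facts.le₂ hq)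
      exact h.PR_mono inf_le_left le_rfl h.facts.le₁ h.V_le (mem_inf h h.facts.le₁ h.facts.le₁ h.facts.le₁ h.facts.le₂ h4 h5)
    have h6 : h.PR M₁ (M₁ ⊓ M₂) ≤ h.PR (M₁ ⊓ M₂) A := by
      intro q hq
      have h7 := conj_inv_mem_of_mem_normalizer h3 hq
      have h8 : t * (w⁻¹ * q * w) * t ∈ h.PR (M₁ ⊓ M₂) A :=
        h.swap_PR le_rfl h.V_le (h.PR_mono h.facts.le₁ le_rfl le_rfl h.V_le h7)
      have h9 := hy.VA hyu h8
      have h10 : w * t * (t * (w⁻¹ * q * w) * t) * (w * t)⁻¹ = q := by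
        rw [mul_inv_rev, h.t_inv]
        have : w * t * (t * (w⁻¹ * q * w) * t) * (t * w⁻¹) = w * (t * t) * w⁻¹ * q * w * (t * t) * w⁻¹ := by group
        rw [this, h.t_sq]; group
      rwa [h10] at h9
    have h11 := (h.PR_inj h.facts.le₁ h.V_le h.V_le le_rfl h6).1
    have h12 := card_mono h11
    rw [h.facts.card₁, h.facts.cardV] at h12
    omega
  exact nQ S₁ hS ht hJ w hwS hwu (hwQ M₁ M₁ hM1 hM1)

theorem mem_NJ [Finite G] {x : G} : x ∈ normalizer ((h.J : Subgroup G) : Set G) ↔ h.NJ x :=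
  ⟨fun hx => mem_normalizer_iff.1 hx, fun hx => mem_normalizer_iff.2 hx⟩

/-- There is a Sylow 2-subgroup of `G` between `J ⟨t⟩` and `N(J)`. -/
theorem exists_syl [Finite G] (nQ : h.NQ) : ∃ S : Subgroup G, IsSyl S ⊤ ∧ t ∈ S ∧ h.J ≤ S ∧ ∀ x ∈ S, h.NJ x := by
  have h1 : IsPGroup 2 (zpowers t) := by
    apply IsPGroup.of_card (n := 1)
    rw [Nat.card_zpowers, pow_one]
    exact orderOf_eq_prime (by rw [pow_two, h.t_sq]) h.t_ne
  have h2 : zpowers t ≤ normalizer ((h.J : Subgroup G) : Set G) := by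
    rw [zpowers_le]; exact mem_NJ.2 NJ.of_t
  have h3 : IsPGroup 2 (zpowers t ⊔ h.J : Subgroup G) := h1.to_sup_of_normal_right' h.isPGroup_J h2
  obtain ⟨S, hS, hle⟩ := exists_isSyl h3 (sup_le h2 le_normalizer)
  have htS : t ∈ S := hle (le_sup_left (a := zpowers t) (mem_zpowers t))
  have hJS : h.J ≤ S := le_sup_right.trans hle
  have hN : ∀ x ∈ S, h.NJ x := fun x hx => mem_NJ.1 (hS.le hx)
  refine ⟨S, hS.top_of_normalizer ?_, htS, hJS, hN⟩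
  intro g hg
  apply mem_normalizer_of_conj_le
  exact wcl nQ hS.two htS hJS hN fun j hj => conj_mem_of_mem_normalizer hg (hJS hj)

end Inp

/-- Conclusion of (C1)-(C3). -/
theorem exists_common {G : Type*} [Group G] [Finite G] {t u : G} {A M₁ M₂ : Subgroup G} (h : Inp t u A M₁ M₂)
    (nQ : h.NQ) (tJ : ∀ g : G, g * t * g⁻¹ ∉ h.J) : ∃ S, Common h S := by
  have : Fact (Nat.Prime 2) := ⟨Nat.prime_two⟩
  obtain ⟨S, hS, htS, hJS, hN⟩ := Inp.exists_syl nQ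
  have hcu : ∀ x : G, x * u = u * x ↔ x * u * x⁻¹ = u := by
    intro x
    constructor
    · intro h1; rw [h1]; group
    · intro h1
      calc x * u = (x * u * x⁻¹) * x := by group
        _ = u * x := by rw [h1]
  have hwc : ∀ g : G, (∀ j ∈ h.J, g * j * g⁻¹ ∈ S) → ∀ j ∈ h.J, g * j * g⁻¹ ∈ h.J := fun g hg =>
    Inp.wcl nQ hS.two htS hJS hN hg
  -- `C_S(u)` is Sylow in `N(J) ∩ C(u)`
  set R : Subgroup G := normalizer ((h.J : Subgroup G) : Set G) ⊓ centralizer ({u} : Set G) with hR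
  have hmemR : ∀ x, x ∈ R ↔ h.NJ x ∧ x * u * x⁻¹ = u := by
    intro x
    rw [hR, mem_inf, Inp.mem_NJ, mem_centralizer_singleton_iff, hcu]
  have hRn : normalizer ((h.J : Subgroup G) : Set G) ≤ normalizer (R : Set G) := by
    intro n hn
    apply mem_normalizer_of_conj_le
    intro x hx
    rw [hmemR] at hx ⊢
    have hnN : h.NJ n := Inp.mem_NJ.1 hn
    refine ⟨(hnN.mul hx.1).mul hnN.inv, ?_⟩
    have h1 : n * x * n⁻¹ * u * (n * x * n⁻¹)⁻¹ = n * (x * (n⁻¹ * u * n⁻¹⁻¹) * x⁻¹) * n⁻¹ := by group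
    rw [h1]
    rcases hnN.inv.uv with h2 | h2
    · rw [h2, hx.2]
      have : n⁻¹ * u * n⁻¹⁻¹ = u := h2
      calc n * u * n⁻¹ = n * (n⁻¹ * u * n⁻¹⁻¹) * n⁻¹ := by rw [this]
        _ = u := by group
    · rw [h2, hx.1.v hx.2, ← h2]; group
  have hS0 : IsSyl (S ⊓ R) R :=
    (hS.mono (fun x hx => Inp.mem_NJ.2 (hN x hx)) le_top).inf_normal inf_le_left hRn
  have hJR : h.J ≤ R := by
    intro j hj
    rw [hmemR]
    refine ⟨Inp.NJ.of_mem hj, ?_⟩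
    obtain ⟨a, ha, b, hb, rfl⟩ := h.mem_J.1 hj
    have h1 : pr t a b * pr t u 1 * (pr t a b)⁻¹ = pr t u 1 := by
      rw [h.pr_conj ha hb h.u_mem_A A.one_mem, h.facts.u_cent a ha]
      congr 1 <;> group
    rwa [h.pr_one_right] at h1
  have hmaxu : ∀ T : Subgroup G, IsPGroup 2 T → (∀ x ∈ T, x * u = u * x) → (∀ x ∈ S, x * u = u * x → x ∈ T) →
      ∀ x ∈ T, x ∈ S := by
    intro T hT hTu hST
    have h1 : S ⊓ R ≤ T := fun x hx => hST x hx.1 ((hcu x).2 ((hmemR x).1 hx.2).2)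
    by_cases hlt : S ⊓ R = T
    · intro x hx
      rw [← hlt] at hx
      exact hx.1
    exfalso
    have h2 := Cfsg.Agent.SmallSimple.SylowMaxInter.lt_inf_normalizer hT (lt_of_le_of_ne h1 hlt)
    obtain ⟨y, hy, hyS⟩ := SetLike.exists_of_lt h2
    have h3 : h.NJ y := Inp.NJ.mk (hwc y fun j hj => (conj_mem_of_mem_normalizer hy.2 ⟨hJS hj, hJR hj⟩).1)
    have h4 : S ⊓ R ≤ T ⊓ R := le_inf h1 inf_le_right
    have h5 := hS0.max (T ⊓ R) (hT.to_le inf_le_left) inf_le_right h4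
    apply hyS
    rw [← h5]
    exact ⟨hy.1, (hmemR y).2 ⟨h3, (hcu y).1 (hTu y hy.1)⟩⟩
  have hCu : IsSyl (S ⊓ R) (centralizer ({u} : Set G)) := by
    refine ⟨inf_le_right.trans inf_le_right, hS.two.to_le inf_le_left, fun X hX hXu hle => le_antisymm ?_ hle⟩
    intro x hx
    have hxu : ∀ x ∈ X, x * u = u * x := fun x hx => mem_centralizer_singleton_iff.1 (hXu hx)
    have hxS := hmaxu X hX hxu (fun y hy hyu => hle ⟨hy, (hmemR y).2 ⟨hN y hy, (hcu y).1 hyu⟩⟩) x hx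
    exact ⟨hxS, (hmemR x).2 ⟨hN x hxS, (hcu x).1 (hxu x hx)⟩⟩
  have huz : ∀ g : G, g * u * g⁻¹ ≠ u * (t * u * t) := by
    intro g hg
    have h1 : ∀ x ∈ S, x * (u * (t * u * t)) * x⁻¹ = u * (t * u * t) := by
      intro x hx
      have hxN := hN x hx
      have h2 : x * (u * (t * u * t)) * x⁻¹ = (x * u * x⁻¹) * (x * (t * u * t) * x⁻¹) := by group
      rw [h2]
      rcases hxN.uv with h3 | h3
      · rw [h3, hxN.v h3]
      · have h4 := hxN.mul_t_u h3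
        have h5 : (x * t) * u * (x * t)⁻¹ = x * (t * u * t) * x⁻¹ := by rw [mul_inv_rev, h.t_inv]; group
        rw [h3, ← h5, h4]
        exact (h.comm u h.u_mem_A u h.u_mem_A).symm
    have h2 : S.map (MulAut.conj g⁻¹).toMonoidHom ≤ centralizer ({u} : Set G) := by
      rintro _ ⟨x, hx, rfl⟩
      rw [mem_centralizer_singleton_iff, hcu]
      show g⁻¹ * x * g⁻¹⁻¹ * u * (g⁻¹ * x * g⁻¹⁻¹)⁻¹ = u
      have h3 : g⁻¹ * x * g⁻¹⁻¹ * u * (g⁻¹ * x * g⁻¹⁻¹)⁻¹ = g⁻¹ * (x * (g * u * g⁻¹) * x⁻¹) * g := by group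
      rw [h3, hg, h1 x hx, ← hg]; group
    have h3 := hCu.card_le (hS.two.map _) h2
    rw [← Nat.card_congr (S.equivMapOfInjective (MulAut.conj g⁻¹).toMonoidHom (MulAut.conj g⁻¹).injective).toEquiv] at h3
    have h4 : S ⊓ R = S := Subgroup.eq_of_le_of_card_ge inf_le_left h3
    have h5 : t ∈ S ⊓ R := by rw [h4]; exact htS
    have h6 := ((hmemR t).1 h5.2).2
    rw [h.t_inv] at h6
    exact h.u_ne_v h6.symm
  have hnA : ∀ x ∈ S, x * u * x⁻¹ = u → ∀ a ∈ A, x * a * x⁻¹ ∈ A := fun x hx hxu => (hN x hx).nA huz hxu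
  refine ⟨S, hS.two, fun T hT hle => hS.max T hT le_top hle, htS, hJS, fun x hx j hj => (hN x hx j).1 hj,
    fun x hx => (hN x hx).uv, hnA, ?_, ?_, huz, tJ, fun g hg => (Inp.NJ.mk hg).uv, hwc, hmaxu⟩
  · intro x hx hxu a ha
    refine ⟨(t * x * t) * a * (t * x * t)⁻¹, (hN x hx).conj_t.nA huz ((hN x hx).u_conj_t hxu) a ha, ?_⟩
    have h1 := Inp.conj_t_conj h x (t * a * t)
    rwa [h.cj_cj] at h1
  · intro x hx hxu h1 h2
    apply nQ S hS.two htS hJS x hx hxu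
    intro q hq
    obtain ⟨m, hm, n, hn, rfl⟩ := (h.mem_PR h.facts.le₁ h.facts.le₁).1 hq
    obtain ⟨n', hn', h3⟩ := h2 n hn
    have h4 : x * pr t m n * x⁻¹ = pr t (x * m * x⁻¹) n' := by
      unfold pr
      rw [← h3]; group
    rw [h4]
    exact h.pr_mem_PR h.facts.le₁ h.facts.le₁ (h1 m hm) hn'

end Cfsg.Agent.Wreath.End
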