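import Cfsg.Agent.Wreath.Common
import Cfsg.Agent.StdEven.Syl

/-!
# The end of the wreath pattern (S1739): the structure of `J = A × Aᵗ` (part (C2))
-/

set_option autoImplicit false

namespace Cfsg.Agent.Wreath.End

open Subgroup
open Cfsg.Agent.Wreath.AData (Facts)

variable {G : Type*} [Group G] {t u : G} {A M₁ M₂ : Subgroup G}

/-! ### The group `A` -/

section Facts

theorem comm_of_sq {F : Subgroup G} (hF : ∀ x ∈ F, x * x = 1) {x y : G} (hx : x ∈ F) (hy : y ∈ F) : x * y = y * x := by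
  have h1 := hF _ (F.mul_mem hx hy)
  have h2 : x⁻¹ = x := inv_eq_of_mul_eq_one_left (hF x hx)
  have h3 : y⁻¹ = y := inv_eq_of_mul_eq_one_left (hF y hy)
  calc x * y = (x * y)⁻¹ := (inv_eq_of_mul_eq_one_left h1).symm
    _ = y * x := by rw [mul_inv_rev, h2, h3]

variable (f : Facts A M₁ M₂ u)
include f

theorem V_comm_P {c p : G} (hc : c ∈ M₁ ⊓ M₂) (hp : p ∈ M₁ ⊔ M₂) : c * p = p * c := by
  have h1 : M₁ ⊔ M₂ ≤ centralizer ({c} : Set G) := by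
    refine sup_le ?_ ?_
    · intro m hm
      rw [mem_centralizer_singleton_iff]
      exact comm_of_sq f.sq₁ hm hc.1
    · intro m hm
      rw [mem_centralizer_singleton_iff]
      exact comm_of_sq f.sq₂ hm hc.2
  exact (mem_centralizer_singleton_iff.1 (h1 hp)).symm

theorem V_cases {c : G} (hc : c ∈ M₁ ⊓ M₂) (h1 : c ≠ 1) (hu : c ≠ u) {y : G} (hy : y ∈ M₁ ⊓ M₂) :
    y = 1 ∨ y = u ∨ y = c ∨ y = c * u := by
  classical
  by_contra hcon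
  push Not at hcon
  obtain ⟨a1, a2, a3, a4⟩ := hcon
  have hcu : c * u ≠ 1 := by
    intro h
    have h2 : c = u⁻¹ := eq_inv_of_mul_eq_one_left h
    rw [inv_eq_of_mul_eq_one_left (f.sq₁ u f.u_mem.1)] at h2
    exact hu h2
  have hcc : c * u ≠ c := by
    intro h; exact f.u_ne (mul_eq_left.1 h)
  have hcuu : c * u ≠ u := by
    intro h; exact h1 (mul_eq_right.1 h)
  let s : Finset G := {1, u, c, c * u, y}
  have hs : s.card = 5 := by
    simp only [s]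
    rw [Finset.card_insert_of_notMem, Finset.card_insert_of_notMem, Finset.card_insert_of_notMem,
      Finset.card_insert_of_notMem, Finset.card_singleton]
    · simpa using Ne.symm a4
    · simp only [Finset.mem_insert, Finset.mem_singleton, not_or]
      exact ⟨Ne.symm hcc, Ne.symm a3⟩
    · simp only [Finset.mem_insert, Finset.mem_singleton, not_or]
      exact ⟨Ne.symm hu, Ne.symm hcuu, Ne.symm a2⟩
    · simp only [Finset.mem_insert, Finset.mem_singleton, not_or]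
      exact ⟨Ne.symm f.u_ne, Ne.symm h1, Ne.symm hcu, Ne.symm a1⟩
  have hsub : (s : Set G) ⊆ ((M₁ ⊓ M₂ : Subgroup G) : Set G) := by
    intro g hg
    simp only [s, Finset.coe_insert, Finset.coe_singleton, Set.mem_insert_iff, Set.mem_singleton_iff] at hg
    rcases hg with rfl | rfl | rfl | rfl | rfl
    · exact one_mem _
    · exact f.u_mem
    · exact hc
    · exact mul_mem hc f.u_mem
    · exact hy
  have hfin : Finite (M₁ ⊓ M₂ : Subgroup G) := Nat.finite_of_card_ne_zero (by rw [f.cardV]; norm_num)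
  have h5 : (s : Set G).ncard ≤ ((M₁ ⊓ M₂ : Subgroup G) : Set G).ncard := Set.ncard_le_ncard hsub (Set.toFinite _)
  rw [Set.ncard_coe_finset, hs] at h5
  have h6 : ((M₁ ⊓ M₂ : Subgroup G) : Set G).ncard = 4 := by
    rw [← f.cardV]; rfl
  omega

/-- conjugation by `A` on `V` -/
theorem conj_V {a c : G} (ha : a ∈ A) (hc : c ∈ M₁ ⊓ M₂) : a * c * a⁻¹ * c⁻¹ = 1 ∨ a * c * a⁻¹ * c⁻¹ = u := by
  have hcu : a * u = u * a := f.u_cent a ha
  rcases eq_or_ne c 1 with rfl | h1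
  · left; group
  rcases eq_or_ne c u with rfl | hu
  · left; rw [hcu]; group
  have h2 : a * c * a⁻¹ ∈ M₁ ⊓ M₂ := ⟨f.norm₁ a ha c hc.1, f.norm₂ a ha c hc.2⟩
  rcases V_cases f hc h1 hu h2 with h | h | h | h
  · exfalso; apply h1
    have : c = a⁻¹ * (a * c * a⁻¹) * a := by group
    rw [this, h]; group
  · exfalso; apply hu
    have : c = a⁻¹ * (a * c * a⁻¹) * a := by group
    rw [this, h, mul_assoc, ← hcu]; group
  · left; rw [h]; group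
  · right
    rw [h]
    have h3 : c * u = u * c := comm_of_sq f.sq₁ hc.1 f.u_mem.1
    rw [h3]; group

theorem exists_out : ∃ a ∈ A, a ∉ M₁ ⊔ M₂ := by
  by_contra hcon
  push Not at hcon
  have h1 : A ≤ M₁ ⊔ M₂ := hcon
  have h2 : A = M₁ ⊔ M₂ := le_antisymm h1 (sup_le f.le₁ f.le₂)
  have h3 := f.card
  rw [h2, f.cardP] at h3
  norm_num at h3

theorem exists_V : ∃ c ∈ M₁ ⊓ M₂, c ≠ 1 ∧ c ≠ u := by
  classical
  by_contra hcon
  push Not at hcon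
  have hsub : ((M₁ ⊓ M₂ : Subgroup G) : Set G) ⊆ ({1, u} : Set G) := by
    intro g hg
    rcases eq_or_ne g 1 with rfl | h1
    · left; rfl
    · right; exact hcon g hg h1
  have h5 : ((M₁ ⊓ M₂ : Subgroup G) : Set G).ncard ≤ ({1, u} : Set G).ncard := Set.ncard_le_ncard hsub (Set.toFinite _)
  have h6 : ((M₁ ⊓ M₂ : Subgroup G) : Set G).ncard = 4 := by
    rw [← f.cardV]; rfl
  have h7 : ({1, u} : Set G).ncard ≤ 2 := Set.ncard_insert_le _ _ |>.trans (by rw [Set.ncard_singleton])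
  omega

/-- the commutator of `P` is `V` -/
theorem com_P {p q : G} (hp : p ∈ M₁ ⊔ M₂) (hq : q ∈ M₁ ⊔ M₂) : p * q * p⁻¹ * q⁻¹ ∈ M₁ ⊓ M₂ := by
  rw [← f.comV]
  exact commutator_mem_commutator hp hq

theorem cent_P {a : G} (ha : a ∈ A) (h : ∀ p ∈ M₁ ⊔ M₂, a * p * a⁻¹ * p⁻¹ = 1) : a ∈ M₁ ⊓ M₂ := by
  have h1 : a ∈ M₁ ⊔ M₂ := f.centV a ha fun x hx => by
    have h2 := h x ((inf_le_left.trans le_sup_left : M₁ ⊓ M₂ ≤ M₁ ⊔ M₂) hx)
    have : a * x = (a * x * a⁻¹ * x⁻¹) * x * a := by group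
    rw [this, h2, one_mul]
  exact f.pv a h1 fun p hp => Or.inl (h p hp)

theorem sq_card {F : Subgroup G} (hF : F ≤ A) (hsq : ∀ x ∈ F, x * x = 1) : Nat.card F ≤ 16 := by
  by_contra hcon
  push Not at hcon
  rcases f.only F hF hsq hcon.le with h | h
  · rw [h, f.card₁] at hcon; omega
  · rw [h, f.card₂] at hcon; omega

/-- `P` has index two in `A` -/
theorem P_index {a b : G} (ha : a ∈ A) (hb : b ∈ A) (ha' : a ∉ M₁ ⊔ M₂) (hb' : b ∉ M₁ ⊔ M₂) : a * b⁻¹ ∈ M₁ ⊔ M₂ := by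
  have h1 : ((M₁ ⊔ M₂).subgroupOf A).index = 2 := by
    have h2 := ((M₁ ⊔ M₂).subgroupOf A).card_mul_index
    rw [Nat.card_congr (subgroupOfEquivOfLe (sup_le f.le₁ f.le₂ : M₁ ⊔ M₂ ≤ A)).toEquiv, f.cardP, f.card] at h2
    omega
  have h3 := Subgroup.mul_mem_iff_of_index_two h1 (a := (⟨a, ha⟩ : A)) (b := (⟨b⁻¹, A.inv_mem hb⟩ : A))
  have h4 : ((⟨a, ha⟩ : A) ∈ (M₁ ⊔ M₂).subgroupOf A ↔ (⟨b⁻¹, A.inv_mem hb⟩ : A) ∈ (M₁ ⊔ M₂).subgroupOf A) := by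
    rw [mem_subgroupOf, mem_subgroupOf]
    constructor
    · intro h; exact absurd h ha'
    · intro h; exact absurd (by simpa using (M₁ ⊔ M₂).inv_mem h) hb'
  exact h3.2 h4

end Facts

/-- a subgroup of index at most two -/
theorem card_le_two_mul [Finite G] {K H : Subgroup G} (hKH : ∀ x ∈ H, ∀ y ∈ H, x ∉ K → y ∉ K → x * y⁻¹ ∈ K) :
    Nat.card H ≤ 2 * Nat.card (H ⊓ K : Subgroup G) := by
  classical
  by_cases hle : H ≤ K
  · rw [inf_of_le_left hle]; omega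
  · obtain ⟨x, hx, hxK⟩ := SetLike.not_le_iff_exists.1 hle
    let g : H → (H ⊓ K : Subgroup G) × Bool := fun y =>
      if hy : (y : G) ∈ K then (⟨y, ⟨y.2, hy⟩⟩, true)
      else (⟨(y : G) * x⁻¹, ⟨H.mul_mem y.2 (H.inv_mem hx), hKH y y.2 x hx hy hxK⟩⟩, false)
    have hg : Function.Injective g := by
      rintro ⟨y, hy⟩ ⟨z, hz⟩ he
      simp only [g] at he
      by_cases h1 : y ∈ K <;> by_cases h2 : z ∈ K
      · simp only [h1, h2, dif_pos, Prod.mk.injEq] at he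
        exact Subtype.ext (Subtype.mk.inj he.1)
      · simp only [h1, h2, dif_pos, dif_neg, not_false_eq_true, Prod.mk.injEq, Bool.true_eq_false, and_false] at he
      · simp only [h1, h2, dif_pos, dif_neg, not_false_eq_true, Prod.mk.injEq, Bool.false_eq_true, and_false] at he
      · simp only [h1, h2, dif_neg, not_false_eq_true, Prod.mk.injEq] at he
        exact Subtype.ext (mul_right_cancel (Subtype.mk.inj he.1))
    have := Nat.card_le_card_of_injective g hg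
    rw [Nat.card_prod, Nat.card_eq_fintype_card (α := Bool), Fintype.card_bool] at this
    omega

namespace Inp

/-- first projection of a subgroup of `J` -/
def p₁ (h : Inp t u A M₁ M₂) (F : Subgroup G) : Subgroup G :=
  ((F.comap h.phi).map (MonoidHom.fst A A)).map A.subtype

/-- second projection of a subgroup of `J` -/
def p₂ (h : Inp t u A M₁ M₂) (F : Subgroup G) : Subgroup G :=
  ((F.comap h.phi).map (MonoidHom.snd A A)).map A.subtype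

variable (h : Inp t u A M₁ M₂)
include h

theorem mem_p₁ {F : Subgroup G} {a : G} : a ∈ h.p₁ F ↔ a ∈ A ∧ ∃ b ∈ A, pr t a b ∈ F := by
  constructor
  · rintro ⟨a', ⟨⟨a'', b⟩, hab, rfl⟩, rfl⟩
    exact ⟨a''.2, b, b.2, hab⟩
  · rintro ⟨ha, b, hb, hab⟩
    exact ⟨⟨a, ha⟩, ⟨(⟨a, ha⟩, ⟨b, hb⟩), hab, rfl⟩, rfl⟩

theorem mem_p₂ {F : Subgroup G} {b : G} : b ∈ h.p₂ F ↔ b ∈ A ∧ ∃ a ∈ A, pr t a b ∈ F := by
  constructor
  · rintro ⟨a', ⟨⟨a'', b⟩, hab, rfl⟩, rfl⟩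
    exact ⟨b.2, a'', a''.2, hab⟩
  · rintro ⟨hb, a, ha, hab⟩
    exact ⟨⟨b, hb⟩, ⟨(⟨a, ha⟩, ⟨b, hb⟩), hab, rfl⟩, rfl⟩

theorem p₁_le (F : Subgroup G) : h.p₁ F ≤ A := fun _ ha => (h.mem_p₁.1 ha).1

theorem p₂_le (F : Subgroup G) : h.p₂ F ≤ A := fun _ ha => (h.mem_p₂.1 ha).1

theorem le_PR_p {F : Subgroup G} (hF : F ≤ h.J) : F ≤ h.PR (h.p₁ F) (h.p₂ F) := by
  intro g hg
  obtain ⟨a, ha, b, hb, rfl⟩ := h.mem_J.1 (hF hg)
  exact h.pr_mem_PR (h.p₁_le F) (h.p₂_le F) (h.mem_p₁.2 ⟨ha, b, hb, hg⟩) (h.mem_p₂.2 ⟨hb, a, ha, hg⟩)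

theorem pr_sq {a b : G} (ha : a ∈ A) (hb : b ∈ A) (hs : pr t a b * pr t a b = 1) : a * a = 1 ∧ b * b = 1 := by
  rw [h.pr_mul ha hb ha hb] at hs
  exact h.pr_eq_one (A.mul_mem ha ha) (A.mul_mem hb hb) hs

theorem sq_p₁ {F : Subgroup G} (hsq : ∀ x ∈ F, x * x = 1) : ∀ x ∈ h.p₁ F, x * x = 1 := by
  intro a ha
  obtain ⟨ha, b, hb, hab⟩ := h.mem_p₁.1 ha
  exact (h.pr_sq ha hb (hsq _ hab)).1

theorem sq_p₂ {F : Subgroup G} (hsq : ∀ x ∈ F, x * x = 1) : ∀ x ∈ h.p₂ F, x * x = 1 := by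
  intro b hb
  obtain ⟨hb, a, ha, hab⟩ := h.mem_p₂.1 hb
  exact (h.pr_sq ha hb (hsq _ hab)).2

theorem card_le_p [Finite G] {F : Subgroup G} (hF : F ≤ h.J) : Nat.card F ≤ Nat.card (h.p₁ F) * Nat.card (h.p₂ F) := by
  rw [← h.card_PR (h.p₁_le F) (h.p₂_le F)]
  exact Nat.card_le_card_of_injective _ (Subgroup.inclusion_injective (h.le_PR_p hF))

/-- The elementary abelian subgroups of order `2⁸` of `J`. -/
theorem e256 [Finite G] {F : Subgroup G} (hF : F ≤ h.J) (hsq : ∀ x ∈ F, x * x = 1) (hc : 256 ≤ Nat.card F) :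
    ∃ X Y : Subgroup G, (X = M₁ ∨ X = M₂) ∧ (Y = M₁ ∨ Y = M₂) ∧ F = h.PR X Y := by
  have h1 := h.card_le_p hF
  have h2 := sq_card h.facts (h.p₁_le F) (h.sq_p₁ hsq)
  have h3 := sq_card h.facts (h.p₂_le F) (h.sq_p₂ hsq)
  have h4 : 16 ≤ Nat.card (h.p₁ F) := by
    by_contra hlt
    push Not at hlt
    have : Nat.card (h.p₁ F) * Nat.card (h.p₂ F) ≤ 15 * 16 := Nat.mul_le_mul (by omega) h3
    omega
  have h5 : 16 ≤ Nat.card (h.p₂ F) := by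
    by_contra hlt
    push Not at hlt
    have : Nat.card (h.p₁ F) * Nat.card (h.p₂ F) ≤ 16 * 15 := Nat.mul_le_mul h2 (by omega)
    omega
  refine ⟨h.p₁ F, h.p₂ F, h.facts.only _ (h.p₁_le F) (h.sq_p₁ hsq) h4,
    h.facts.only _ (h.p₂_le F) (h.sq_p₂ hsq) h5, ?_⟩
  apply Subgroup.eq_of_le_of_card_ge (h.le_PR_p hF)
  rw [h.card_PR (h.p₁_le F) (h.p₂_le F)]
  calc _ ≤ 16 * 16 := Nat.mul_le_mul h2 h3
    _ ≤ _ := hc

theorem X_le {X : Subgroup G} (hX : X = M₁ ∨ X = M₂) : X ≤ A := by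
  rcases hX with rfl | rfl
  · exact h.facts.le₁
  · exact h.facts.le₂

theorem X_le_P {X : Subgroup G} (hX : X = M₁ ∨ X = M₂) : X ≤ M₁ ⊔ M₂ := by
  rcases hX with rfl | rfl
  · exact le_sup_left
  · exact le_sup_right

theorem X_sq {X : Subgroup G} (hX : X = M₁ ∨ X = M₂) : ∀ x ∈ X, x * x = 1 := by
  rcases hX with rfl | rfl
  · exact h.facts.sq₁
  · exact h.facts.sq₂

theorem X_card {X : Subgroup G} (hX : X = M₁ ∨ X = M₂) : Nat.card X = 16 := by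
  rcases hX with rfl | rfl
  · exact h.facts.card₁
  · exact h.facts.card₂

theorem PR_sq {X Y : Subgroup G} (hX : X = M₁ ∨ X = M₂) (hY : Y = M₁ ∨ Y = M₂) : ∀ g ∈ h.PR X Y, g * g = 1 := by
  intro g hg
  obtain ⟨x, hx, y, hy, rfl⟩ := (h.mem_PR (h.X_le hX) (h.X_le hY)).1 hg
  rw [h.pr_mul (h.X_le hX hx) (h.X_le hY hy) (h.X_le hX hx) (h.X_le hY hy), h.X_sq hX x hx, h.X_sq hY y hy, h.pr_one_one]

theorem PR_card {X Y : Subgroup G} (hX : X = M₁ ∨ X = M₂) (hY : Y = M₁ ∨ Y = M₂) : Nat.card (h.PR X Y) = 256 := by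
  rw [h.card_PR (h.X_le hX) (h.X_le hY), h.X_card hX, h.X_card hY]

theorem PR_le_J {X Y : Subgroup G} (hX : X ≤ A) (hY : Y ≤ A) : h.PR X Y ≤ h.J := h.PR_mono hX hY le_rfl le_rfl

theorem PR_inj {X Y X' Y' : Subgroup G} (hX : X ≤ A) (hY : Y ≤ A) (hX' : X' ≤ A) (hY' : Y' ≤ A)
    (hle : h.PR X Y ≤ h.PR X' Y') : X ≤ X' ∧ Y ≤ Y' := by
  constructor
  · intro x hx
    have h1 := hle (h.pr_mem_PR hX hY hx Y.one_mem)
    exact ((h.pr_mem_iff hX' hY' (hX hx) A.one_mem).1 h1).1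
  · intro y hy
    have h1 := hle (h.pr_mem_PR hX hY X.one_mem hy)
    exact ((h.pr_mem_iff hX' hY' A.one_mem (hY hy)).1 h1).2

/-- `t` swaps the two factors -/
theorem swap_PR {X Y : Subgroup G} (hX : X ≤ A) (hY : Y ≤ A) {g : G} (hg : g ∈ h.PR X Y) : t * g * t ∈ h.PR Y X := by
  obtain ⟨x, hx, y, hy, rfl⟩ := (h.mem_PR hX hY).1 hg
  rw [h.pr_swap (hX hx) (hY hy)]
  exact h.pr_mem_PR hY hX hy hx

theorem t_norm {g : G} (hg : g ∈ h.J) : t * g * t ∈ h.J := h.swap_PR le_rfl le_rfl hg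

/-! ### Elements normalising `J` -/

/-- `x` normalises `J` -/
def NJ (x : G) : Prop := ∀ j, j ∈ h.J ↔ x * j * x⁻¹ ∈ h.J

variable {h}

theorem NJ.mk [Finite G] {x : G} (hx : ∀ j ∈ h.J, x * j * x⁻¹ ∈ h.J) : h.NJ x :=
  mem_normalizer_iff.1 (Cfsg.Agent.StdEven.Syl.mem_normalizer_of_conj_le hx)

theorem NJ.inv {x : G} (hx : h.NJ x) : h.NJ x⁻¹ := by
  intro j
  rw [hx (x⁻¹ * j * x⁻¹⁻¹)]
  have : x * (x⁻¹ * j * x⁻¹⁻¹) * x⁻¹ = j := by group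
  rw [this]

theorem NJ.mul {x y : G} (hx : h.NJ x) (hy : h.NJ y) : h.NJ (x * y) := by
  intro j
  rw [hy j, hx]
  have : x * (y * j * y⁻¹) * x⁻¹ = x * y * j * (x * y)⁻¹ := by group
  rw [this]

theorem NJ.of_t : h.NJ t := by
  intro j
  rw [h.t_inv]
  refine ⟨h.t_norm, fun hj => ?_⟩
  have := h.t_norm hj
  rwa [h.cj_cj] at this

theorem NJ.of_mem {x : G} (hx : x ∈ h.J) : h.NJ x := by
  intro j
  refine ⟨fun hj => h.J.mul_mem (h.J.mul_mem hx hj) (h.J.inv_mem hx), fun hj => ?_⟩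
  have h1 : j = x⁻¹ * (x * j * x⁻¹) * x := by group
  rw [h1]
  exact h.J.mul_mem (h.J.mul_mem (h.J.inv_mem hx) hj) hx

/-- `x` permutes the `E256`'s of `J` -/
theorem NJ.perm [Finite G] {x : G} (hx : h.NJ x) {X Y : Subgroup G} (hX : X = M₁ ∨ X = M₂) (hY : Y = M₁ ∨ Y = M₂) :
    ∃ X' Y' : Subgroup G, (X' = M₁ ∨ X' = M₂) ∧ (Y' = M₁ ∨ Y' = M₂) ∧
      (h.PR X Y).map (MulAut.conj x).toMonoidHom = h.PR X' Y' := by
  apply h.e256
  · rintro _ ⟨g, hg, rfl⟩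
    exact (hx g).1 (h.PR_le_J (h.X_le hX) (h.X_le hY) hg)
  · rintro _ ⟨g, hg, rfl⟩
    show x * g * x⁻¹ * (x * g * x⁻¹) = 1
    have : x * g * x⁻¹ * (x * g * x⁻¹) = x * (g * g) * x⁻¹ := by group
    rw [this, h.PR_sq hX hY g hg]; group
  · rw [Nat.card_congr ((h.PR X Y).equivMapOfInjective (MulAut.conj x).toMonoidHom (MulAut.conj x).injective).toEquiv.symm,
      h.PR_card hX hY]

theorem NJ.perm' [Finite G] {x : G} (hx : h.NJ x) {X Y : Subgroup G} (hX : X = M₁ ∨ X = M₂) (hY : Y = M₁ ∨ Y = M₂) :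
    ∃ X' Y' : Subgroup G, (X' = M₁ ∨ X' = M₂) ∧ (Y' = M₁ ∨ Y' = M₂) ∧ ∀ g ∈ h.PR X Y, x * g * x⁻¹ ∈ h.PR X' Y' := by
  obtain ⟨X', Y', hX', hY', he⟩ := hx.perm hX hY
  exact ⟨X', Y', hX', hY', fun g hg => by rw [← he]; exact ⟨g, hg, rfl⟩⟩

/-- `x` normalises `P × Pᵗ` -/
theorem NJ.PP [Finite G] {x : G} (hx : h.NJ x) {g : G} (hg : g ∈ h.PR (M₁ ⊔ M₂) (M₁ ⊔ M₂)) :
    x * g * x⁻¹ ∈ h.PR (M₁ ⊔ M₂) (M₁ ⊔ M₂) := by
  set K : Subgroup G := (h.PR (M₁ ⊔ M₂) (M₁ ⊔ M₂)).comap (MulAut.conj x).toMonoidHom with hK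
  have hQ : ∀ X Y : Subgroup G, (X = M₁ ∨ X = M₂) → (Y = M₁ ∨ Y = M₂) → h.PR X Y ≤ K := by
    intro X Y hX hY g hg
    obtain ⟨X', Y', hX', hY', he⟩ := hx.perm' hX hY
    exact h.PR_mono (h.X_le_P hX') (h.X_le_P hY') h.P_le h.P_le (he g hg)
  have h1 : M₁ ⊔ M₂ ≤ K := by
    refine sup_le ?_ ?_
    · intro m hm
      apply hQ M₁ M₁ (Or.inl rfl) (Or.inl rfl)
      rw [← h.pr_one_right m]
      exact h.pr_mem_PR h.facts.le₁ h.facts.le₁ hm (one_mem _)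
    · intro m hm
      apply hQ M₂ M₂ (Or.inr rfl) (Or.inr rfl)
      rw [← h.pr_one_right m]
      exact h.pr_mem_PR h.facts.le₂ h.facts.le₂ hm (one_mem _)
  have h2 : M₁ ⊔ M₂ ≤ K.comap (MulAut.conj t).toMonoidHom := by
    refine sup_le ?_ ?_
    · intro m hm
      show t * m * t⁻¹ ∈ K
      rw [h.t_inv, ← h.pr_one_left]
      exact hQ M₁ M₁ (Or.inl rfl) (Or.inl rfl) (h.pr_mem_PR h.facts.le₁ h.facts.le₁ (one_mem _) hm)
    · intro m hm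
      show t * m * t⁻¹ ∈ K
      rw [h.t_inv, ← h.pr_one_left]
      exact hQ M₂ M₂ (Or.inr rfl) (Or.inr rfl) (h.pr_mem_PR h.facts.le₂ h.facts.le₂ (one_mem _) hm)
  obtain ⟨a, ha, b, hb, rfl⟩ := (h.mem_PR h.P_le h.P_le).1 hg
  have h3 : t * b * t ∈ K := by
    have := h2 hb
    change t * b * t⁻¹ ∈ K at this
    rwa [h.t_inv] at this
  exact K.mul_mem (h1 ha) h3

end Inp

end Cfsg.Agent.Wreath.End
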