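import Cfsg.Agent.Wreath.CTwo

/-!
# The end of the wreath pattern (S1739): elements normalising `J = A × Aᵗ` (part (C2), continued)
-/

set_option autoImplicit false

namespace Cfsg.Agent.Wreath.End

open Subgroup
open scoped commutatorElement
open Cfsg.Agent.Wreath.AData (Facts)

variable {G : Type*} [Group G] {t u : G} {A M₁ M₂ : Subgroup G}

theorem com_mem {K : Subgroup G} {x y : G} (hx : x ∈ K) (hy : y ∈ K) : ⁅x, y⁆ ∈ K :=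
  K.mul_mem (K.mul_mem (K.mul_mem hx hy) (K.inv_mem hx)) (K.inv_mem hy)

namespace Inp

section Comm
variable (h : Inp t u A M₁ M₂)
include h

theorem pr_comm {a b x y : G} (ha : a ∈ A) (hb : b ∈ A) (hx : x ∈ A) (hy : y ∈ A) :
    ⁅pr t a b, pr t x y⁆ = pr t ⁅a, x⁆ ⁅b, y⁆ := by
  rw [commutatorElement_def, commutatorElement_def, commutatorElement_def, h.pr_conj ha hb hx hy, h.pr_inv hx hy,
    h.pr_mul (A.mul_mem (A.mul_mem ha hx) (A.inv_mem ha)) (A.mul_mem (A.mul_mem hb hy) (A.inv_mem hb))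
      (A.inv_mem hx) (A.inv_mem hy)]

theorem u_ne_v : u ≠ t * u * t := by
  intro he
  have h1 : pr t u 1 = pr t 1 u := by rw [h.pr_one_right, h.pr_one_left]; exact he
  exact h.facts.u_ne (h.pr_inj h.u_mem_A A.one_mem A.one_mem h.u_mem_A h1).1

theorem v_ne : t * u * t ≠ 1 := by
  intro he
  have h1 : pr t 1 u = pr t 1 1 := by rw [h.pr_one_one, h.pr_one_left]; exact he
  exact h.facts.u_ne (h.pr_inj A.one_mem h.u_mem_A A.one_mem A.one_mem h1).2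

/-- a property which singles out `u` and `v` -/
def Good (g : G) : Prop := ∃ c ∈ h.PR (M₁ ⊔ M₂) (M₁ ⊔ M₂),
  (∀ p ∈ h.PR (M₁ ⊔ M₂) (M₁ ⊔ M₂), ⁅c, p⁆ = 1) ∧ (∀ j ∈ h.J, ⁅j, c⁆ = 1 ∨ ⁅j, c⁆ = g) ∧ ∃ j ∈ h.J, ⁅j, c⁆ = g ∧ g ≠ 1

theorem good_u : h.Good u := by
  obtain ⟨c, hc, hc1, hcu⟩ := exists_V h.facts
  obtain ⟨a, ha, haP⟩ := exists_out h.facts
  have hVP : M₁ ⊓ M₂ ≤ M₁ ⊔ M₂ := inf_le_left.trans le_sup_left
  have hone : ∀ b : G, ⁅b, (1 : G)⁆ = 1 := fun b => commutatorElement_one_right b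
  refine ⟨pr t c 1, h.pr_mem_PR h.P_le h.P_le (hVP hc) (one_mem _), ?_, ?_, pr t a 1, h.pr_mem_J ha A.one_mem, ?_, h.facts.u_ne⟩
  · intro p hp
    obtain ⟨x, hx, y, hy, rfl⟩ := (h.mem_PR h.P_le h.P_le).1 hp
    rw [h.pr_comm (h.V_le hc) A.one_mem (h.P_le hx) (h.P_le hy), commutatorElement_one_left,
      commutatorElement_eq_one_iff_mul_comm.2 (V_comm_P h.facts hc hx), h.pr_one_one]
  · intro j hj
    obtain ⟨x, hx, y, hy, rfl⟩ := h.mem_J.1 hj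
    rw [h.pr_comm hx hy (h.V_le hc) A.one_mem, hone y]
    rcases conj_V h.facts hx hc with h1 | h1
    · left
      rw [commutatorElement_def, h1, h.pr_one_one]
    · right
      rw [commutatorElement_def, h1, h.pr_one_right]
  · rw [h.pr_comm ha A.one_mem (h.V_le hc) A.one_mem, hone]
    rcases conj_V h.facts ha hc with h1 | h1
    · exfalso
      have h2 : a * c = c * a := commutatorElement_eq_one_iff_mul_comm.1 h1
      rcases h.facts.centu a ha haP c hc h2 with h3 | h3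
      · exact hc1 h3
      · exact hcu h3
    · rw [commutatorElement_def, h1, h.pr_one_right]

end Comm

variable {h : Inp t u A M₁ M₂}

theorem Good.eq {g : G} (hg : h.Good g) : g = u ∨ g = t * u * t := by
  obtain ⟨c, hc, h1, h2, j, hj, h3, h4⟩ := hg
  obtain ⟨c₁, hc₁, c₂, hc₂, rfl⟩ := (h.mem_PR h.P_le h.P_le).1 hc
  have hc₁' : c₁ ∈ M₁ ⊓ M₂ := cent_P h.facts (h.P_le hc₁) fun p hp => by
    have h5 := h1 (pr t p 1) (h.pr_mem_PR h.P_le h.P_le hp (one_mem _))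
    rw [h.pr_comm (h.P_le hc₁) (h.P_le hc₂) (h.P_le hp) A.one_mem] at h5
    exact (h.pr_eq_one (com_mem (h.P_le hc₁) (h.P_le hp)) (com_mem (h.P_le hc₂) A.one_mem) h5).1
  have hc₂' : c₂ ∈ M₁ ⊓ M₂ := cent_P h.facts (h.P_le hc₂) fun p hp => by
    have h5 := h1 (pr t 1 p) (h.pr_mem_PR h.P_le h.P_le (one_mem _) hp)
    rw [h.pr_comm (h.P_le hc₁) (h.P_le hc₂) A.one_mem (h.P_le hp)] at h5
    exact (h.pr_eq_one (com_mem (h.P_le hc₁) A.one_mem) (com_mem (h.P_le hc₂) (h.P_le hp)) h5).2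
  obtain ⟨a, ha, b, hb, rfl⟩ := h.mem_J.1 hj
  rw [h.pr_comm ha hb (h.P_le hc₁) (h.P_le hc₂)] at h3
  have h5 : ⁅a, c₁⁆ = 1 ∨ ⁅a, c₁⁆ = u := conj_V h.facts ha hc₁'
  have h6 : ⁅b, c₂⁆ = 1 ∨ ⁅b, c₂⁆ = u := conj_V h.facts hb hc₂'
  rcases h5 with h5 | h5 <;> rcases h6 with h6 | h6 <;> rw [h5, h6] at h3
  · exact absurd (h3.symm.trans h.pr_one_one) h4
  · right; rw [← h3, h.pr_one_left]
  · left; rw [← h3, h.pr_one_right]
  · exfalso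
    have h7 := h2 (pr t a 1) (h.pr_mem_J ha A.one_mem)
    rw [h.pr_comm ha A.one_mem (h.P_le hc₁) (h.P_le hc₂), h5, commutatorElement_one_left, ← h3] at h7
    rcases h7 with h7 | h7
    · exact h.facts.u_ne (h.pr_eq_one h.u_mem_A A.one_mem h7).1
    · exact h.facts.u_ne (h.pr_inj h.u_mem_A A.one_mem h.u_mem_A h.u_mem_A h7).2.symm

theorem Good.conj [Finite G] {x g : G} (hx : h.NJ x) (hg : h.Good g) : h.Good (x * g * x⁻¹) := by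
  obtain ⟨c, hc, h1, h2, j, hj, h3, h4⟩ := hg
  have hb : ∀ y : G, x * (x⁻¹ * y * x) * x⁻¹ = y := fun y => by group
  refine ⟨x * c * x⁻¹, hx.PP hc, ?_, ?_, x * j * x⁻¹, (hx j).1 hj, ?_, ?_⟩
  · intro p hp
    have hp' : x⁻¹ * p * x ∈ h.PR (M₁ ⊔ M₂) (M₁ ⊔ M₂) := by
      have := hx.inv.PP hp
      rwa [inv_inv] at this
    rw [← hb p, ← conjugate_commutatorElement, h1 _ hp']; group
  · intro p hp
    have hp' : x⁻¹ * p * x ∈ h.J := by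
      have := (hx.inv p).1 hp
      rwa [inv_inv] at this
    rw [← hb p, ← conjugate_commutatorElement]
    rcases h2 _ hp' with h5 | h5
    · left; rw [h5]; group
    · right; rw [h5]
  · rw [← conjugate_commutatorElement, h3]
  · intro h5
    apply h4
    have : g = x⁻¹ * (x * g * x⁻¹) * x := by group
    rw [this, h5]; group

/-- elements normalising `J` fix or swap `u` and `v` -/
theorem NJ.uv [Finite G] {x : G} (hx : h.NJ x) : x * u * x⁻¹ = u ∨ x * u * x⁻¹ = t * u * t :=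
  (Good.conj hx h.good_u).eq

theorem NJ.conj_t {x : G} (hx : h.NJ x) : h.NJ (t * x * t) := (NJ.of_t.mul hx).mul NJ.of_t

theorem NJ.v [Finite G] {x : G} (hx : h.NJ x) (hu : x * u * x⁻¹ = u) : x * (t * u * t) * x⁻¹ = t * u * t := by
  have h1 := (hx.mul NJ.of_t).uv
  have h2 : (x * t) * u * (x * t)⁻¹ = x * (t * u * t) * x⁻¹ := by rw [mul_inv_rev, h.t_inv]; group
  rw [h2] at h1
  rcases h1 with h1 | h1
  · exfalso
    apply h.u_ne_v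
    have h3 : x * u * x⁻¹ = x * (t * u * t) * x⁻¹ := hu.trans h1.symm
    exact mul_left_cancel (mul_right_cancel h3)
  · exact h1

theorem NJ.u_conj_t [Finite G] {x : G} (hx : h.NJ x) (hu : x * u * x⁻¹ = u) : (t * x * t) * u * (t * x * t)⁻¹ = u := by
  have h1 : (t * x * t) * u * (t * x * t)⁻¹ = t * (x * (t * u * t) * x⁻¹) * t := by
    rw [mul_inv_rev, mul_inv_rev, h.t_inv]; group
  rw [h1, hx.v hu, h.cj_cj]

theorem NJ.inv_u {x : G} (hu : x * u * x⁻¹ = u) : x⁻¹ * u * x⁻¹⁻¹ = u := by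
  have h1 : x⁻¹ * (x * u * x⁻¹) * x⁻¹⁻¹ = u := by group
  rwa [hu] at h1

/-- `xt` fixes `u` if `x` swaps `u` and `v` -/
theorem NJ.mul_t_u [Finite G] {x : G} (hx : h.NJ x) (hu : x * u * x⁻¹ = t * u * t) : (x * t) * u * (x * t)⁻¹ = u := by
  have h2 : (x * t) * u * (x * t)⁻¹ = x * (t * u * t) * x⁻¹ := by rw [mul_inv_rev, h.t_inv]; group
  rcases (hx.mul NJ.of_t).uv with h1 | h1
  · exact h1
  · exfalso
    rw [h2] at h1
    exact h.u_ne_v (mul_left_cancel (mul_right_cancel (hu.trans h1.symm)))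

section Mem
variable (h)

theorem V_le_P : M₁ ⊓ M₂ ≤ M₁ ⊔ M₂ := inf_le_left.trans le_sup_left

include h

theorem mem_PV_iff {g : G} : g ∈ h.PR (M₁ ⊔ M₂) (M₁ ⊓ M₂) ↔ g ∈ h.PR (M₁ ⊔ M₂) (M₁ ⊔ M₂) ∧
    ∀ p ∈ h.PR (M₁ ⊔ M₂) (M₁ ⊔ M₂), ∀ j ∈ h.J, ⁅j, ⁅g, p⁆⁆ = 1 ∨ ⁅j, ⁅g, p⁆⁆ = u := by
  constructor
  · intro hg
    refine ⟨h.PR_mono le_rfl V_le_P h.P_le h.P_le hg, ?_⟩
    obtain ⟨x, hx, y, hy, rfl⟩ := (h.mem_PR h.P_le h.V_le).1 hg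
    intro p hp j hj
    obtain ⟨x', hx', y', hy', rfl⟩ := (h.mem_PR h.P_le h.P_le).1 hp
    obtain ⟨a, ha, b, hb, rfl⟩ := h.mem_J.1 hj
    have h1 : ⁅x, x'⁆ ∈ M₁ ⊓ M₂ := com_P h.facts hx hx'
    rw [h.pr_comm (h.P_le hx) (h.V_le hy) (h.P_le hx') (h.P_le hy'),
      commutatorElement_eq_one_iff_mul_comm.2 (V_comm_P h.facts hy hy'),
      h.pr_comm ha hb (h.V_le h1) A.one_mem, commutatorElement_one_right]
    rcases conj_V h.facts ha h1 with h2 | h2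
    · left; rw [commutatorElement_def a, h2, h.pr_one_one]
    · right; rw [commutatorElement_def a, h2, h.pr_one_right]
  · rintro ⟨hg, h1⟩
    obtain ⟨x, hx, y, hy, rfl⟩ := (h.mem_PR h.P_le h.P_le).1 hg
    refine h.pr_mem_PR h.P_le h.V_le hx (h.facts.pv y hy fun p hp => ?_)
    have h2 : ⁅y, p⁆ ∈ M₁ ⊓ M₂ := com_P h.facts hy hp
    apply h.facts.center ⁅y, p⁆ (h.V_le h2)
    intro b hb
    have h3 := h1 (pr t 1 p) (h.pr_mem_PR h.P_le h.P_le (one_mem _) hp) (pr t 1 b) (h.pr_mem_J A.one_mem hb)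
    rw [h.pr_comm (h.P_le hx) (h.P_le hy) A.one_mem (h.P_le hp), commutatorElement_one_right,
      h.pr_comm A.one_mem hb A.one_mem (h.V_le h2), commutatorElement_one_right] at h3
    have h4 : ⁅b, ⁅y, p⁆⁆ ∈ A := com_mem hb (h.V_le h2)
    rcases h3 with h3 | h3
    · exact (commutatorElement_eq_one_iff_mul_comm.1 (h.pr_eq_one A.one_mem h4 h3).2).symm
    · exfalso
      have h5 : pr t 1 ⁅b, ⁅y, p⁆⁆ = pr t u 1 := by rw [h3, h.pr_one_right]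
      exact h.facts.u_ne (h.pr_inj A.one_mem h4 h.u_mem_A A.one_mem h5).1.symm

theorem mem_VA_iff {g : G} : g ∈ h.PR (M₁ ⊓ M₂) A ↔ g ∈ h.J ∧
    ∀ m ∈ h.PR (M₁ ⊔ M₂) (M₁ ⊓ M₂), ⁅g, m⁆ = 1 ∨ ⁅g, m⁆ = t * u * t := by
  constructor
  · intro hg
    refine ⟨h.PR_le_J h.V_le le_rfl hg, ?_⟩
    obtain ⟨x, hx, y, hy, rfl⟩ := (h.mem_PR h.V_le le_rfl).1 hg
    intro m hm
    obtain ⟨x', hx', y', hy', rfl⟩ := (h.mem_PR h.P_le h.V_le).1 hm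
    rw [h.pr_comm (h.V_le hx) hy (h.P_le hx') (h.V_le hy'),
      commutatorElement_eq_one_iff_mul_comm.2 (V_comm_P h.facts hx hx')]
    rcases conj_V h.facts hy hy' with h2 | h2
    · left; rw [commutatorElement_def y, h2, h.pr_one_one]
    · right; rw [commutatorElement_def y, h2, h.pr_one_left]
  · rintro ⟨hg, h1⟩
    obtain ⟨x, hx, y, hy, rfl⟩ := h.mem_J.1 hg
    refine h.pr_mem_PR h.V_le le_rfl (cent_P h.facts hx fun p hp => ?_) hy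
    have h3 := h1 (pr t p 1) (h.pr_mem_PR h.P_le h.V_le hp (one_mem _))
    rw [h.pr_comm hx hy (h.P_le hp) A.one_mem, commutatorElement_one_right] at h3
    have h4 : ⁅x, p⁆ ∈ A := com_mem hx (h.P_le hp)
    rcases h3 with h3 | h3
    · exact (h.pr_eq_one h4 A.one_mem h3).1
    · exfalso
      have h5 : pr t ⁅x, p⁆ 1 = pr t 1 u := by rw [h3, h.pr_one_left]
      exact h.facts.u_ne (h.pr_inj h4 A.one_mem A.one_mem h.u_mem_A h5).2.symm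

end Mem

theorem NJ.back_mem {K : Subgroup G} {x : G} (hK : ∀ g ∈ K, x⁻¹ * g * x⁻¹⁻¹ ∈ K) {g : G} (hg : g ∈ K) : x⁻¹ * g * x ∈ K := by
  have := hK g hg
  rwa [inv_inv] at this

/-- `x` fixing `u` preserves `P × Vᵗ` -/
theorem NJ.PV [Finite G] {x : G} (hx : h.NJ x) (hu : x * u * x⁻¹ = u) {g : G} (hg : g ∈ h.PR (M₁ ⊔ M₂) (M₁ ⊓ M₂)) :
    x * g * x⁻¹ ∈ h.PR (M₁ ⊔ M₂) (M₁ ⊓ M₂) := by
  rw [h.mem_PV_iff] at hg ⊢
  refine ⟨hx.PP hg.1, fun p hp j hj => ?_⟩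
  have h5 := hg.2 _ (NJ.back_mem (fun g hg => hx.inv.PP hg) hp) _ (NJ.back_mem (fun g hg => (hx.inv g).1 hg) hj)
  have e : ⁅j, ⁅x * g * x⁻¹, p⁆⁆ = x * ⁅x⁻¹ * j * x, ⁅g, x⁻¹ * p * x⁆⁆ * x⁻¹ := by
    simp only [commutatorElement_def]; group
  rw [e]
  rcases h5 with h5 | h5
  · left; rw [h5]; group
  · right; rw [h5, hu]

/-- `x` fixing `u` preserves `V × Aᵗ` -/
theorem NJ.VA [Finite G] {x : G} (hx : h.NJ x) (hu : x * u * x⁻¹ = u) {g : G} (hg : g ∈ h.PR (M₁ ⊓ M₂) A) :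
    x * g * x⁻¹ ∈ h.PR (M₁ ⊓ M₂) A := by
  rw [h.mem_VA_iff] at hg ⊢
  refine ⟨(hx g).1 hg.1, fun p hp => ?_⟩
  have h5 := hg.2 _ (NJ.back_mem (fun g hg => hx.inv.PV (NJ.inv_u hu) hg) hp)
  have e : ⁅x * g * x⁻¹, p⁆ = x * ⁅g, x⁻¹ * p * x⁆ * x⁻¹ := by
    simp only [commutatorElement_def]; group
  rw [e]
  rcases h5 with h5 | h5
  · left; rw [h5]; group
  · right; rw [h5, hx.v hu]

theorem conj_t_conj (h : Inp t u A M₁ M₂) (x g : G) : x * g * x⁻¹ = t * ((t * x * t) * (t * g * t) * (t * x * t)⁻¹) * t := by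
  have h1 : (t * x * t)⁻¹ = t * x⁻¹ * t := by rw [mul_inv_rev, mul_inv_rev, h.t_inv, ← mul_assoc]
  rw [h1]
  have h2 : t * ((t * x * t) * (t * g * t) * (t * x⁻¹ * t)) * t = (t * t) * x * (t * t) * g * (t * t) * x⁻¹ * (t * t) := by group
  rw [h2, h.t_sq]; group

/-- transport of an inclusion by `t` -/
theorem swap_side {X Y X' Y' : Subgroup G} (hX : X ≤ A) (hY : Y ≤ A) (hX' : X' ≤ A) (hY' : Y' ≤ A) {x : G}
    (hs : ∀ g ∈ h.PR X Y, (t * x * t) * g * (t * x * t)⁻¹ ∈ h.PR X' Y') :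
    ∀ g ∈ h.PR Y X, x * g * x⁻¹ ∈ h.PR Y' X' := by
  intro g hg
  rw [conj_t_conj h]
  exact h.swap_PR hX' hY' (hs _ (h.swap_PR hY hX hg))

/-- `x` fixing `u` preserves `A × Vᵗ` -/
theorem NJ.AV [Finite G] {x : G} (hx : h.NJ x) (hu : x * u * x⁻¹ = u) {g : G} (hg : g ∈ h.PR A (M₁ ⊓ M₂)) :
    x * g * x⁻¹ ∈ h.PR A (M₁ ⊓ M₂) :=
  swap_side h.V_le le_rfl h.V_le le_rfl (fun _ hg => hx.conj_t.VA (hx.u_conj_t hu) hg) g hg

theorem mem_inf (h : Inp t u A M₁ M₂) {X Y X' Y' : Subgroup G} (hX : X ≤ A) (hY : Y ≤ A) (hX' : X' ≤ A) (hY' : Y' ≤ A) {g : G}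
    (h1 : g ∈ h.PR X Y) (h2 : g ∈ h.PR X' Y') : g ∈ h.PR (X ⊓ X') (Y ⊓ Y') := by
  obtain ⟨x, hx, y, hy, rfl⟩ := (h.mem_PR hX hY).1 h1
  obtain ⟨h3, h4⟩ := (h.pr_mem_iff hX' hY' (hX hx) (hY hy)).1 h2
  exact h.pr_mem_PR (inf_le_left.trans hX) (inf_le_left.trans hY) ⟨hx, h3⟩ ⟨hy, h4⟩

/-- `x` maps the side `X` to the side `X'` -/
def Sd (h : Inp t u A M₁ M₂) (X X' : Subgroup G) (x : G) : Prop :=
  ∀ g ∈ h.PR X (M₁ ⊓ M₂), x * g * x⁻¹ ∈ h.PR X' (M₁ ⊓ M₂)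

theorem V_le_X {X : Subgroup G} (hX : X = M₁ ∨ X = M₂) : M₁ ⊓ M₂ ≤ X := by
  rcases hX with rfl | rfl
  · exact inf_le_left
  · exact inf_le_right

theorem NJ.exists_side [Finite G] {x : G} (hx : h.NJ x) (hu : x * u * x⁻¹ = u) {X : Subgroup G} (hX : X = M₁ ∨ X = M₂) :
    ∃ X' : Subgroup G, (X' = M₁ ∨ X' = M₂) ∧ h.Sd X X' x := by
  obtain ⟨X', Y', hX', hY', h1⟩ := hx.perm' hX (Or.inl rfl : M₁ = M₁ ∨ M₁ = M₂)
  refine ⟨X', hX', fun g hg => ?_⟩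
  have h2 : g ∈ h.PR X M₁ := h.PR_mono le_rfl inf_le_left (h.X_le hX) h.facts.le₁ hg
  have h3 : g ∈ h.PR A (M₁ ⊓ M₂) := h.PR_mono (h.X_le hX) le_rfl le_rfl h.V_le hg
  have h4 := mem_inf h (h.X_le hX') (h.X_le hY') le_rfl h.V_le (h1 g h2) (hx.AV hu h3)
  exact h.PR_mono inf_le_left inf_le_right (h.X_le hX') h.V_le h4

theorem Sd.conj_card [Finite G] {x : G} {X X' : Subgroup G} (hX : X = M₁ ∨ X = M₂) (hX' : X' = M₁ ∨ X' = M₂)
    (hs : h.Sd X X' x) : (h.PR X (M₁ ⊓ M₂)).map (MulAut.conj x).toMonoidHom = h.PR X' (M₁ ⊓ M₂) := by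
  apply Subgroup.eq_of_le_of_card_ge
  · rintro _ ⟨g, hg, rfl⟩
    exact hs g hg
  · rw [← Nat.card_congr ((h.PR X (M₁ ⊓ M₂)).equivMapOfInjective (MulAut.conj x).toMonoidHom (MulAut.conj x).injective).toEquiv,
      h.card_PR (h.X_le hX) h.V_le, h.card_PR (h.X_le hX') h.V_le, h.X_card hX, h.X_card hX']

theorem Sd.inj [Finite G] {x : G} {X Y X' : Subgroup G} (hX : X = M₁ ∨ X = M₂) (hY : Y = M₁ ∨ Y = M₂)
    (hX' : X' = M₁ ∨ X' = M₂) (hs : h.Sd X X' x) (hs' : h.Sd Y X' x) : X = Y := by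
  have h1 := hs.conj_card hX hX'
  have h2 := hs'.conj_card hY hX'
  have h3 := Subgroup.map_injective (MulAut.conj x).injective (h1.trans h2.symm)
  apply le_antisymm
  · exact (h.PR_inj (h.X_le hX) h.V_le (h.X_le hY) h.V_le h3.le).1
  · exact (h.PR_inj (h.X_le hY) h.V_le (h.X_le hX) h.V_le h3.ge).1

theorem Sd.unique [Finite G] {x : G} {X X' Y' : Subgroup G} (hX : X = M₁ ∨ X = M₂) (hX' : X' = M₁ ∨ X' = M₂)
    (hY' : Y' = M₁ ∨ Y' = M₂) (hs : h.Sd X X' x) (hs' : h.Sd X Y' x) : X' = Y' := by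
  have h1 := hs.conj_card hX hX'
  have h2 := hs'.conj_card hX hY'
  have h3 := h1.symm.trans h2
  apply le_antisymm
  · exact (h.PR_inj (h.X_le hX') h.V_le (h.X_le hY') h.V_le h3.le).1
  · exact (h.PR_inj (h.X_le hY') h.V_le (h.X_le hX') h.V_le h3.ge).1

/-- `x` fixing `u` either fixes both `M₁`, `M₂` or swaps them -/
theorem NJ.side [Finite G] {x : G} (hx : h.NJ x) (hu : x * u * x⁻¹ = u) :
    (h.Sd M₁ M₁ x ∧ h.Sd M₂ M₂ x) ∨ (h.Sd M₁ M₂ x ∧ h.Sd M₂ M₁ x) := by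
  obtain ⟨X, hX, h1⟩ := hx.exists_side hu (Or.inl rfl : M₁ = M₁ ∨ M₁ = M₂)
  obtain ⟨Y, hY, h2⟩ := hx.exists_side hu (Or.inr rfl : M₂ = M₁ ∨ M₂ = M₂)
  rcases hX with rfl | rfl <;> rcases hY with rfl | rfl
  · exact absurd (Sd.inj (Or.inl rfl) (Or.inr rfl) (Or.inl rfl) h1 h2) h.facts.ne
  · exact Or.inl ⟨h1, h2⟩
  · exact Or.inr ⟨h1, h2⟩
  · exact absurd (Sd.inj (Or.inl rfl) (Or.inr rfl) (Or.inr rfl) h1 h2) h.facts.ne

theorem Sd.mul {x y : G} {X Y Z : Subgroup G} (h1 : h.Sd X Y y) (h2 : h.Sd Y Z x) : h.Sd X Z (x * y) := by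
  intro g hg
  have h3 := h2 _ (h1 g hg)
  have h4 : x * (y * g * y⁻¹) * x⁻¹ = x * y * g * (x * y)⁻¹ := by group
  rwa [h4] at h3

/-- the action on `X × Aᵗ` -/
theorem Sd.XA [Finite G] {x : G} (hx : h.NJ x) (hu : x * u * x⁻¹ = u) {X X' : Subgroup G} (hX : X = M₁ ∨ X = M₂)
    (hX' : X' = M₁ ∨ X' = M₂) (hs : h.Sd X X' x) {g : G} (hg : g ∈ h.PR X A) : x * g * x⁻¹ ∈ h.PR X' A := by
  obtain ⟨a, ha, b, hb, rfl⟩ := (h.mem_PR (h.X_le hX) le_rfl).1 hg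
  have h1 : pr t a b = pr t a 1 * pr t 1 b := by
    rw [h.pr_mul (h.X_le hX ha) A.one_mem A.one_mem hb, mul_one, one_mul]
  have h2 : x * pr t a b * x⁻¹ = (x * pr t a 1 * x⁻¹) * (x * pr t 1 b * x⁻¹) := by rw [h1]; group
  rw [h2]
  apply Subgroup.mul_mem
  · exact h.PR_mono le_rfl h.V_le (h.X_le hX') le_rfl (hs _ (h.pr_mem_PR (h.X_le hX) h.V_le ha (one_mem _)))
  · exact h.PR_mono (V_le_X hX') le_rfl (h.X_le hX') le_rfl (hx.VA hu (h.pr_mem_PR h.V_le le_rfl (one_mem _) hb))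

/-- an element fixing both sides normalises `M₁ × M₁ᵗ` -/
theorem Sd.norm_QQ [Finite G] {x : G} (hx : h.NJ x) (hu : x * u * x⁻¹ = u) (h1 : h.Sd M₁ M₁ x)
    (h2 : h.Sd M₁ M₁ (t * x * t)) {g : G} (hg : g ∈ h.PR M₁ M₁) : x * g * x⁻¹ ∈ h.PR M₁ M₁ := by
  have hM : M₁ = M₁ ∨ M₁ = M₂ := Or.inl rfl
  have h3 : x * g * x⁻¹ ∈ h.PR M₁ A := Sd.XA hx hu hM hM h1 (h.PR_mono le_rfl h.facts.le₁ h.facts.le₁ le_rfl hg)
  have h4 : x * g * x⁻¹ ∈ h.PR A M₁ := by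
    apply swap_side h.facts.le₁ le_rfl h.facts.le₁ le_rfl (fun _ hg => Sd.XA hx.conj_t (hx.u_conj_t hu) hM hM h2 hg)
    exact h.PR_mono h.facts.le₁ le_rfl le_rfl h.facts.le₁ hg
  have h5 := mem_inf h h.facts.le₁ le_rfl le_rfl h.facts.le₁ h3 h4
  exact h.PR_mono inf_le_left inf_le_right h.facts.le₁ h.facts.le₁ h5

end Inp

end Cfsg.Agent.Wreath.End
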