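import Cfsg.Agent.Wreath.EndBasic

/-!
# The end of the wreath pattern (S1739): the common part, statements

`Common h S` is what is known on a Sylow 2-subgroup `S ≥ J ⟨t⟩` of `G` (parts (C1)-(C3) of bb S1739 #7765).
-/

set_option autoImplicit false

namespace Cfsg.Agent.Wreath.End

open Subgroup
open Cfsg.Agent.Wreath.AData (Facts)

/-- Output of (C1)-(C3). -/
structure Common {G : Type*} [Group G] {t u : G} {A M₁ M₂ : Subgroup G} (h : Inp t u A M₁ M₂) (S : Subgroup G) :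
    Prop where
  /-- `S` is a Sylow 2-subgroup -/
  pS : IsPGroup 2 S
  max : ∀ T : Subgroup G, IsPGroup 2 T → S ≤ T → T = S
  tS : t ∈ S
  JS : h.J ≤ S
  nJ : ∀ x ∈ S, ∀ j ∈ h.J, x * j * x⁻¹ ∈ h.J
  /-- elements of `S` fix or swap `u` and `v = uᵗ` -/
  uv : ∀ x ∈ S, x * u * x⁻¹ = u ∨ x * u * x⁻¹ = t * u * t
  /-- `S⁰ = C_S(u)` normalises `A` and `B = Aᵗ` -/
  nA : ∀ x ∈ S, x * u * x⁻¹ = u → ∀ a ∈ A, x * a * x⁻¹ ∈ A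
  nB : ∀ x ∈ S, x * u * x⁻¹ = u → ∀ a ∈ A, ∃ b ∈ A, x * (t * a * t) * x⁻¹ = t * b * t
  /-- `S⁰/J` acts regularly on `{M₁, M₂} × {M₁ᵗ, M₂ᵗ}` -/
  reg : ∀ x ∈ S, x * u * x⁻¹ = u → (∀ m ∈ M₁, x * m * x⁻¹ ∈ M₁) → (∀ m ∈ M₁, ∃ n ∈ M₁, x * (t * m * t) * x⁻¹ = t * n * t) →
    x ∈ h.J
  /-- `u` and `z = uv` are not conjugate in `G` -/
  uz : ∀ g : G, g * u * g⁻¹ ≠ u * (t * u * t)
  /-- no conjugate of `t` lies in `J` -/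
  tJ : ∀ g : G, g * t * g⁻¹ ∉ h.J
  /-- `N_G(J)` fixes or swaps `u` and `v` -/
  NJ : ∀ g : G, (∀ j ∈ h.J, g * j * g⁻¹ ∈ h.J) → g * u * g⁻¹ = u ∨ g * u * g⁻¹ = t * u * t
  /-- `J` is weakly closed in `S` -/
  wc : ∀ g : G, (∀ j ∈ h.J, g * j * g⁻¹ ∈ S) → ∀ j ∈ h.J, g * j * g⁻¹ ∈ h.J
  /-- `S⁰` is a Sylow 2-subgroup of `C_G(u)` -/
  maxu : ∀ T : Subgroup G, IsPGroup 2 T → (∀ x ∈ T, x * u = u * x) → (∀ x ∈ S, x * u = u * x → x ∈ T) →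
    ∀ x ∈ T, x ∈ S

end Cfsg.Agent.Wreath.End
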