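import Cfsg.Agent.Wreath.Common
import Cfsg.Agent.StdEven.Syl

/-!
# The wreath pattern: the common part (C1)-(C3) as a structure

`S` is a Sylow 2-subgroup of `G`, `S₀ = C_S(u)` of index 2 in `S`, `J ≤ S₀`, `S₀ / J` acts faithfully on
`{M₁, M₂} × {M₁ ^ t, M₂ ^ t}`.
-/

set_option autoImplicit false

namespace Cfsg.Agent.Wreath.CommonDef

open Subgroup Cfsg.Agent.Wreath.End Cfsg.Agent.StdEven.Syl
open scoped commutatorElement

variable {G : Type*} [Group G] {t u : G} {A M₁ M₂ : Subgroup G}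

/-- Output of (C1)-(C3), with `S₀ = C_S(u)` as a subgroup. -/
structure Com (h : Inp t u A M₁ M₂) (S S₀ : Subgroup G) : Prop where
  syl : IsSyl S ⊤
  tS : t ∈ S
  le : S₀ ≤ S
  J_le : h.J ≤ S₀
  idx : ∀ g ∈ S, g ∈ S₀ ∨ g * t ∈ S₀
  cu : ∀ g ∈ S₀, g * u = u * g
  cv : ∀ g ∈ S₀, g * (t * u * t) = (t * u * t) * g
  of_cu : ∀ g ∈ S, g * u = u * g → g ∈ S₀
  sylu : IsSyl S₀ (centralizer {u})
  nA : ∀ g ∈ S₀, ∀ a ∈ A, g * a * g⁻¹ ∈ A
  nB : ∀ g ∈ S₀, ∀ a ∈ A, ∃ b ∈ A, g * (t * a * t) * g⁻¹ = t * b * t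
  fix : ∀ g ∈ S₀, (∀ m ∈ M₁, g * m * g⁻¹ ∈ M₁) →
    (∀ m ∈ M₁, ∃ n ∈ M₁, g * (t * m * t) * g⁻¹ = t * n * t) → g ∈ h.J
  uz : ∀ g, g * u * g⁻¹ ≠ u * (t * u * t)
  tJ : ∀ g, g * t * g⁻¹ ∉ h.J

/-- `Com` from `Common`. -/
theorem Com.of [Finite G] {h : Inp t u A M₁ M₂} {S : Subgroup G} (c : Common h S) :
    Com h S (S ⊓ centralizer {u}) := by
  have hmem : ∀ {g : G}, g ∈ S ⊓ centralizer {u} ↔ g ∈ S ∧ g * u * g⁻¹ = u := by
    intro g
    rw [mem_inf, mem_centralizer_singleton_iff, mul_inv_eq_iff_eq_mul]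
  have huv : u ≠ t * u * t := by
    intro e
    apply h.facts.u_ne
    apply h.disj u h.u_mem_A
    rw [← e]
    exact h.u_mem_A
  have ht : ∀ g : G, (g * t) * u * (g * t)⁻¹ = g * (t * u * t) * g⁻¹ := by
    intro g
    rw [mul_inv_rev, h.t_inv]; group
  have huv' : ∀ g ∈ S, g * u * g⁻¹ = u → g * (t * u * t) * g⁻¹ = t * u * t := by
    intro g hg e
    rw [← ht]
    rcases c.uv (g * t) (S.mul_mem hg c.tS) with h1 | h1
    · exfalso
      rw [ht] at h1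
      have h2 : g * (t * u * t) * g⁻¹ = g * u * g⁻¹ := h1.trans e.symm
      exact huv (mul_left_cancel (mul_right_cancel h2)).symm
    · exact h1
  have hJu : ∀ j ∈ h.J, j * u * j⁻¹ = u := by
    intro j hj
    obtain ⟨a, ha, b, hb, rfl⟩ := h.mem_J.mp hj
    have h1 := h.pr_conj ha hb h.u_mem_A A.one_mem
    rw [h.pr_one_right, mul_one, mul_inv_cancel, h.pr_one_right] at h1
    rw [h1, h.facts.u_cent a ha, mul_inv_cancel_right]
  refine
    { syl := ⟨le_top, c.pS, fun X hX _ hle => c.max X hX hle⟩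
      tS := c.tS
      le := inf_le_left
      J_le := fun j hj => hmem.mpr ⟨c.JS hj, hJu j hj⟩
      idx := ?_
      cu := fun g hg => mul_inv_eq_iff_eq_mul.mp (hmem.mp hg).2
      cv := fun g hg => mul_inv_eq_iff_eq_mul.mp (huv' g (hmem.mp hg).1 (hmem.mp hg).2)
      of_cu := fun g hg e => hmem.mpr ⟨hg, by rw [e, mul_inv_cancel_right]⟩
      sylu := ⟨inf_le_right, c.pS.to_le inf_le_left, fun X hX hXu hle => ?_⟩
      nA := fun g hg => c.nA g (hmem.mp hg).1 (hmem.mp hg).2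
      nB := fun g hg => c.nB g (hmem.mp hg).1 (hmem.mp hg).2
      fix := fun g hg => c.reg g (hmem.mp hg).1 (hmem.mp hg).2
      uz := c.uz
      tJ := c.tJ }
  · intro g hg
    rcases c.uv g hg with h1 | h1
    · exact Or.inl (hmem.mpr ⟨hg, h1⟩)
    · right
      refine hmem.mpr ⟨S.mul_mem hg c.tS, ?_⟩
      rcases c.uv (g * t) (S.mul_mem hg c.tS) with h2 | h2
      · exact h2
      · exfalso
        rw [ht] at h2
        have h3 : g * (t * u * t) * g⁻¹ = g * u * g⁻¹ := h2.trans h1.symm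
        exact huv (mul_left_cancel (mul_right_cancel h3)).symm
  · apply le_antisymm _ hle
    intro x hx
    refine ⟨?_, hXu hx⟩
    exact c.maxu X hX (fun y hy => mem_centralizer_singleton_iff.mp (hXu hy))
      (fun y hy hyu => hle ⟨hy, mem_centralizer_singleton_iff.mpr hyu⟩) x hx

/-! ### involutions of `J` -/

section Inp

variable (h : Inp t u A M₁ M₂)
include h

theorem tut_sq : (t * u * t) * (t * u * t) = 1 := by
  rw [← h.cj_mul, h.u_sq, mul_one, h.t_sq]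

theorem pr_sq {a b : G} (ha : a ∈ A) (hb : b ∈ A) (he : pr t a b * pr t a b = 1) :
    a * a = 1 ∧ b * b = 1 := by
  rw [h.pr_mul ha hb ha hb] at he
  exact h.pr_eq_one (A.mul_mem ha ha) (A.mul_mem hb hb) he

/-- involutions of `A` are conjugate to `u` -/
theorem conj_A {a : G} (ha : a ∈ A) (haa : a * a = 1) (ha1 : a ≠ 1) : ∃ k, k * a * k⁻¹ = u := by
  obtain ⟨k, -, hk, -⟩ := h.w5 a ha haa ha1
  exact ⟨k, hk⟩

theorem conj_tA {a : G} (ha : a ∈ A) (haa : a * a = 1) (ha1 : a ≠ 1) :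
    ∃ k, k * (t * a * t) * k⁻¹ = u := by
  obtain ⟨k, hk⟩ := conj_A h ha haa ha1
  refine ⟨k * t, ?_⟩
  rw [mul_inv_rev, h.t_inv]
  calc k * t * (t * a * t) * (t * k⁻¹) = k * ((t * t) * a * (t * t)) * k⁻¹ := by group
    _ = u := by rw [h.t_sq, one_mul, mul_one, hk]

/-- `(a, b) ~ (u, u) = z` -/
theorem conj_pr {a b : G} (ha : a ∈ A) (haa : a * a = 1) (ha1 : a ≠ 1) (hb : b ∈ A) (hbb : b * b = 1)
    (hb1 : b ≠ 1) : ∃ k, k * pr t a b * k⁻¹ = pr t u u := by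
  obtain ⟨k, hkB, hk, -⟩ := h.w5 a ha haa ha1
  obtain ⟨l, hlB, hl, -⟩ := h.w5 b hb hbb hb1
  -- `t l t` commutes with `A`
  have h1 : ∀ c ∈ A, (t * l * t) * c = c * (t * l * t) := by
    intro c hc
    have h2 := hlB c hc
    calc (t * l * t) * c = t * (l * (t * c * t)) * t := by
          calc (t * l * t) * c = t * l * t * c * (t * t) := by rw [h.t_sq, mul_one]
            _ = t * (l * (t * c * t)) * t := by group
      _ = t * ((t * c * t) * l) * t := by rw [h2]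
      _ = (t * t) * c * (t * l * t) := by group
      _ = c * (t * l * t) := by rw [h.t_sq, one_mul]
  refine ⟨(t * l * t) * k, ?_⟩
  have h2 : k * pr t a b * k⁻¹ = u * (t * b * t) := by
    unfold pr
    have h3 : k * (t * b * t) * k⁻¹ = t * b * t := by rw [hkB b hb, mul_inv_cancel_right]
    calc k * (a * (t * b * t)) * k⁻¹ = (k * a * k⁻¹) * (k * (t * b * t) * k⁻¹) := by group
      _ = _ := by rw [hk, h3]
  have h4 : (t * l * t)⁻¹ = t * l⁻¹ * t := by rw [h.cj_inv]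
  calc (t * l * t) * k * pr t a b * ((t * l * t) * k)⁻¹
      = (t * l * t) * (k * pr t a b * k⁻¹) * (t * l * t)⁻¹ := by group
    _ = (t * l * t) * (u * (t * b * t)) * (t * l * t)⁻¹ := by rw [h2]
    _ = ((t * l * t) * u) * (t * b * t) * (t * l * t)⁻¹ := by group
    _ = u * ((t * l * t) * (t * b * t) * (t * l * t)⁻¹) := by rw [h1 u h.u_mem_A]; group
    _ = u * (t * (l * b * l⁻¹) * t) := by rw [h4, h.cj_mul, h.cj_mul]
    _ = pr t u u := by rw [hl]; rfl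

end Inp

namespace Com

variable {h : Inp t u A M₁ M₂} {S S₀ : Subgroup G} (c : Com h S S₀)
include c

/-- conjugates of `u` in `J` -/
theorem of_conj_u {a b k : G} (ha : a ∈ A) (hb : b ∈ A) (hk : k * u * k⁻¹ = pr t a b) :
    (a = 1 ∧ b ≠ 1 ∧ b * b = 1) ∨ (b = 1 ∧ a ≠ 1 ∧ a * a = 1) := by
  have h1 : pr t a b * pr t a b = 1 := by
    rw [← hk]
    calc k * u * k⁻¹ * (k * u * k⁻¹) = k * (u * u) * k⁻¹ := by group
      _ = 1 := by rw [h.u_sq]; group
  obtain ⟨haa, hbb⟩ := pr_sq h ha hb h1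
  by_cases ha1 : a = 1
  · left
    refine ⟨ha1, ?_, hbb⟩
    rintro rfl
    rw [ha1, h.pr_one_one] at hk
    apply h.facts.u_ne
    calc u = k⁻¹ * (k * u * k⁻¹) * k := by group
      _ = 1 := by rw [hk]; group
  · right
    refine ⟨?_, ha1, haa⟩
    by_contra hb1
    obtain ⟨l, hl⟩ := conj_pr h ha haa ha1 hb hbb hb1
    apply c.uz (l * k)
    show l * k * u * (l * k)⁻¹ = pr t u u
    rw [← hl, ← hk]
    group

/-- conjugates of `z` in `J` -/
theorem of_conj_z {a b k : G} (ha : a ∈ A) (hb : b ∈ A) (hk : k * pr t u u * k⁻¹ = pr t a b) :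
    a ≠ 1 ∧ b ≠ 1 ∧ a * a = 1 ∧ b * b = 1 := by
  have hz : pr t u u * pr t u u = 1 := by
    rw [h.pr_mul h.u_mem_A h.u_mem_A h.u_mem_A h.u_mem_A, h.u_sq, h.pr_one_one]
  have h1 : pr t a b * pr t a b = 1 := by
    rw [← hk]
    calc k * pr t u u * k⁻¹ * (k * pr t u u * k⁻¹) = k * (pr t u u * pr t u u) * k⁻¹ := by group
      _ = 1 := by rw [hz]; group
  obtain ⟨haa, hbb⟩ := pr_sq h ha hb h1
  have hzu : ∀ l, l * pr t u u * l⁻¹ ≠ u := by
    intro l hl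
    apply c.uz l⁻¹
    show l⁻¹ * u * l⁻¹⁻¹ = pr t u u
    calc l⁻¹ * u * l⁻¹⁻¹ = l⁻¹ * (l * pr t u u * l⁻¹) * l⁻¹⁻¹ := by rw [hl]
      _ = pr t u u := by group
  have hz1 : pr t u u ≠ 1 := by
    intro e
    exact h.facts.u_ne (h.pr_eq_one h.u_mem_A h.u_mem_A e).1
  refine ⟨?_, ?_, haa, hbb⟩
  · rintro rfl
    by_cases hb1 : b = 1
    · rw [hb1, h.pr_one_one] at hk
      apply hz1
      calc pr t u u = k⁻¹ * (k * pr t u u * k⁻¹) * k := by group
        _ = 1 := by rw [hk]; group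
    · obtain ⟨l, hl⟩ := conj_tA h hb hbb hb1
      rw [h.pr_one_left] at hk
      apply hzu (l * k)
      calc l * k * pr t u u * (l * k)⁻¹ = l * (k * pr t u u * k⁻¹) * l⁻¹ := by group
        _ = u := by rw [hk, hl]
  · rintro rfl
    by_cases ha1 : a = 1
    · rw [ha1, h.pr_one_one] at hk
      apply hz1
      calc pr t u u = k⁻¹ * (k * pr t u u * k⁻¹) * k := by group
        _ = 1 := by rw [hk]; group
    · obtain ⟨l, hl⟩ := conj_A h ha haa ha1
      rw [h.pr_one_right] at hk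
      apply hzu (l * k)
      calc l * k * pr t u u * (l * k)⁻¹ = l * (k * pr t u u * k⁻¹) * l⁻¹ := by group
        _ = u := by rw [hk, hl]

/-! ### the action on `{M₁, M₂}` -/

theorem tS₀ {g : G} (hg : g ∈ S₀) : t * g * t ∈ S₀ := by
  apply c.of_cu _ (S.mul_mem (S.mul_mem c.tS (c.le hg)) c.tS)
  have h1 := c.cv g hg
  calc t * g * t * u = t * (g * (t * u * t)) * t * (t * t)⁻¹ := by
        calc t * g * t * u = t * (g * (t * u * t)) * t⁻¹ := by group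
          _ = _ := by rw [h.t_sq, h.t_inv, inv_one, mul_one]
    _ = t * ((t * u * t) * g) * t * (t * t)⁻¹ := by rw [h1]
    _ = (t * t) * u * (t * g * t) * (t * t)⁻¹ := by group
    _ = u * (t * g * t) := by rw [h.t_sq, one_mul, inv_one, mul_one]

theorem t_notMem : t ∉ S₀ := by
  intro ht
  have h1 := c.cu t ht
  have h2 : t * u * t = u := by rw [h1, mul_assoc, h.t_sq, mul_one]
  refine h.facts.u_ne (h.disj u h.u_mem_A ?_)
  rw [h2]
  exact h.u_mem_A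

omit c in
/-- a group element normalising `A` moving `M₁` -/
theorem conj_M {X : Subgroup G} {g : G} (hnA : ∀ a ∈ A, g * a * g⁻¹ ∈ A) (hX : X ≤ A)
    (hsq : ∀ x ∈ X, x * x = 1) (hc : Nat.card X = 16) (h : Inp t u A M₁ M₂) :
    (∀ m ∈ X, g * m * g⁻¹ ∈ M₁) ∨ (∀ m ∈ X, g * m * g⁻¹ ∈ M₂) := by
  have h1 : X.map (MulAut.conj g).toMonoidHom = M₁ ∨ X.map (MulAut.conj g).toMonoidHom = M₂ := by
    apply h.facts.only
    · rintro _ ⟨x, hx, rfl⟩
      exact hnA x (hX hx)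
    · rintro _ ⟨x, hx, rfl⟩
      show (g * x * g⁻¹) * (g * x * g⁻¹) = 1
      calc (g * x * g⁻¹) * (g * x * g⁻¹) = g * (x * x) * g⁻¹ := by group
        _ = 1 := by rw [hsq x hx]; group
    · rw [← hc]
      exact (Nat.card_congr (X.equivMapOfInjective (MulAut.conj g).toMonoidHom
        (MulAut.conj g).injective).toEquiv).le
  rcases h1 with h1 | h1
  · left
    intro m hm
    rw [← h1]
    exact ⟨m, hm, rfl⟩
  · right
    intro m hm
    rw [← h1]
    exact ⟨m, hm, rfl⟩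

omit c in
theorem not_both [Finite G] {X : Subgroup G} {g : G} (hc : Nat.card X = 16) (h : Inp t u A M₁ M₂)
    (h1 : ∀ m ∈ X, g * m * g⁻¹ ∈ M₁) (h2 : ∀ m ∈ X, g * m * g⁻¹ ∈ M₂) : False := by
  have h3 : X.map (MulAut.conj g).toMonoidHom ≤ M₁ ⊓ M₂ := by
    rintro _ ⟨x, hx, rfl⟩
    exact ⟨h1 x hx, h2 x hx⟩
  have h4 := Nat.card_le_card_of_injective _ (Subgroup.inclusion_injective h3)
  rw [h.facts.cardV, ← Nat.card_congr (X.equivMapOfInjective (MulAut.conj g).toMonoidHom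
    (MulAut.conj g).injective).toEquiv, hc] at h4
  omega

/-- `g` normalises `M₁` -/
def Fx (M₁ : Subgroup G) (g : G) : Prop := ∀ m ∈ M₁, g * m * g⁻¹ ∈ M₁

variable [Finite G]

omit c in
theorem Fx.norm {g : G} (hg : Fx M₁ g) : g ∈ normalizer (M₁ : Set G) := mem_normalizer_of_conj_le hg

omit c [Finite G] in
theorem Fx.of_norm {g : G} (hg : g ∈ normalizer (M₁ : Set G)) : Fx M₁ g := fun m hm =>
  (mem_normalizer_iff.mp hg m).mp hm

theorem act {g : G} (hg : g ∈ S₀) :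
    (∀ m ∈ M₁, g * m * g⁻¹ ∈ M₁) ∨ (∀ m ∈ M₁, g * m * g⁻¹ ∈ M₂) :=
  conj_M (c.nA g hg) h.facts.le₁ h.facts.sq₁ h.facts.card₁ h

theorem swap_two {g : G} (hg : g ∈ S₀) (h1 : ¬ Fx M₁ g) : ∀ m ∈ M₂, g * m * g⁻¹ ∈ M₁ := by
  have h2 := (c.act hg).resolve_left h1
  refine (conj_M (c.nA g hg) h.facts.le₂ h.facts.sq₂ h.facts.card₂ h).resolve_right fun h3 => ?_
  have h4 : (M₁ ⊔ M₂) ≤ M₂.comap (MulAut.conj g).toMonoidHom := sup_le h2 h3
  have h5 : (M₁ ⊔ M₂).map (MulAut.conj g).toMonoidHom ≤ M₂ := map_le_iff_le_comap.mpr h4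
  have h6 := Nat.card_le_card_of_injective _ (Subgroup.inclusion_injective h5)
  rw [h.facts.card₂, ← Nat.card_congr ((M₁ ⊔ M₂).equivMapOfInjective (MulAut.conj g).toMonoidHom
    (MulAut.conj g).injective).toEquiv, h.facts.cardP] at h6
  omega

theorem fx_mul {g g' : G} (hg : g ∈ S₀) (hg' : g' ∈ S₀) :
    Fx M₁ (g * g') ↔ (Fx M₁ g ↔ Fx M₁ g') := by
  have key : ∀ m, (g * g') * m * (g * g')⁻¹ = g * (g' * m * g'⁻¹) * g⁻¹ := fun m => by group
  by_cases h1 : Fx M₁ g <;> by_cases h2 : Fx M₁ g'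
  · simp only [h1, h2, iff_true]
    intro m hm
    rw [key]; exact h1 _ (h2 m hm)
  · simp only [h1, h2, iff_false, not_true]
    intro h3
    apply h2
    have h4 := Subgroup.mul_mem _ (Subgroup.inv_mem _ h1.norm) h3.norm
    rw [inv_mul_cancel_left] at h4
    exact Fx.of_norm h4
  · simp only [h1, h2, iff_true, iff_false]
    intro h3
    apply h1
    have h4 := Subgroup.mul_mem _ h3.norm (Subgroup.inv_mem _ h2.norm)
    rw [mul_inv_cancel_right] at h4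
    exact Fx.of_norm h4
  · simp only [h1, h2, iff_true]
    intro m hm
    rw [key]
    exact c.swap_two hg h1 _ ((c.act hg').resolve_left h2 m hm)

theorem fx_inv {g : G} : Fx M₁ g⁻¹ ↔ Fx M₁ g := by
  constructor
  · intro h1
    have := Subgroup.inv_mem _ h1.norm
    rw [inv_inv] at this
    exact Fx.of_norm this
  · intro h1
    exact Fx.of_norm (Subgroup.inv_mem _ h1.norm)

theorem mem_J_iff {g : G} (hg : g ∈ S₀) : g ∈ h.J ↔ Fx M₁ g ∧ Fx M₁ (t * g * t) := by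
  constructor
  · intro hJ
    obtain ⟨a, ha, b, hb, rfl⟩ := h.mem_J.mp hJ
    have key : ∀ a ∈ A, ∀ b ∈ A, Fx M₁ (pr t a b) := by
      intro a ha b hb m hm
      have hmA : m ∈ A := h.facts.le₁ hm
      have h1 := h.pr_conj ha hb hmA A.one_mem
      rw [h.pr_one_right, mul_one, mul_inv_cancel, h.pr_one_right] at h1
      rw [h1]
      exact h.facts.norm₁ a ha m hm
    exact ⟨key a ha b hb, by rw [h.pr_swap ha hb]; exact key b hb a ha⟩
  · rintro ⟨h1, h2⟩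
    refine c.fix g hg h1 fun m hm => ⟨_, h2 m hm, ?_⟩
    have e1 : (t * g * t)⁻¹ = t * g⁻¹ * t := by rw [h.cj_inv]
    rw [e1]
    calc g * (t * m * t) * g⁻¹ = (1 * g * t) * m * (t * g⁻¹ * 1) := by group
      _ = ((t * t) * g * t) * m * (t * g⁻¹ * (t * t)) := by rw [h.t_sq]
      _ = t * (t * g * t * m * (t * g⁻¹ * t)) * t := by group

/-- `S₀ / J` is elementary abelian -/
theorem sq_mem {g : G} (hg : g ∈ S₀) : g * g ∈ h.J := by
  rw [c.mem_J_iff (S₀.mul_mem hg hg), h.cj_mul, c.fx_mul hg hg, c.fx_mul (c.tS₀ hg) (c.tS₀ hg)]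
  exact ⟨Iff.rfl, Iff.rfl⟩

theorem comm_le : ⁅S₀, S₀⁆ ≤ h.J := by
  rw [commutator_le]
  intro g hg g' hg'
  have h1 := S₀.inv_mem hg
  have h2 := S₀.inv_mem hg'
  have h3 := S₀.mul_mem hg hg'
  have h4 := S₀.mul_mem h3 h1
  have h5 := c.tS₀ hg
  have h6 := c.tS₀ hg'
  rw [commutatorElement_def, c.mem_J_iff (S₀.mul_mem h4 h2), h.cj_mul, h.cj_mul, h.cj_mul,
    c.fx_mul h4 h2, c.fx_mul h3 h1, c.fx_mul hg hg', c.fx_inv, c.fx_inv]
  rw [h.cj_inv, h.cj_inv]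
  have h7 := S₀.inv_mem h5
  have h8 := S₀.inv_mem h6
  have h9 := S₀.mul_mem h5 h6
  have h10 := S₀.mul_mem h9 h7
  rw [c.fx_mul h10 h8, c.fx_mul h9 h7, c.fx_mul h5 h6, c.fx_inv, c.fx_inv]
  constructor <;> tauto

end Com

end Cfsg.Agent.Wreath.CommonDef
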