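import Cfsg.Agent.Wreath.CThreeEnd
import Cfsg.Agent.Wreath.COne

/-!
# The end of the wreath pattern (S1739): the Sylow 2-subgroup exists
-/

set_option autoImplicit false

namespace Cfsg.Agent.Wreath.End

open Subgroup

/-- (C1)-(C3) -/
theorem Inp.nQ {G : Type*} [Group G] [Finite G] {t u : G} {A M₁ M₂ : Subgroup G} (h : Inp t u A M₁ M₂) : h.NQ :=
  fun _ hS ht hJ _ hx hu hQ => COne.norm_Q h hS ht hJ hx hu hQ

/-- (C1)-(C3) -/
theorem Inp.exists_common {G : Type*} [Group G] [Finite G] {t u : G} {A M₁ M₂ : Subgroup G} (h : Inp t u A M₁ M₂) :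
    ∃ S, Common h S := Cfsg.Agent.Wreath.End.exists_common h h.nQ (COne.t_not_conj h)

end Cfsg.Agent.Wreath.End
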