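import Cfsg.Agent.StdEven.Syl
import Cfsg.Agent.Wreath.AData

/-!
# The end of the wreath pattern, case (D4): all involutions of `C_M(t)` are conjugate in `C_G(t)` (S1739, `Ly`)

`D = A⟨x⟩`, `S₀ = D × D ^ t`, `S = S₀ ⟨t⟩` is a Sylow 2-subgroup of `G = M ⟨t⟩`.
Result: the involutions of `S₀` which are `M`-conjugate to `u` are those of `D`.
-/

set_option autoImplicit false

namespace Cfsg.Agent.Wreath.DFour

open Subgroup Cfsg.Agent.StdEven.Syl
open scoped commutatorElement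

variable {G : Type*} [Group G]

/-- `g` is `M`-conjugate to `c` -/
def Cl (M : Subgroup G) (c g : G) : Prop := ∃ m ∈ M, MulAut.conj m c = g

theorem Cl.symm {M : Subgroup G} {c g : G} (h : Cl M c g) : Cl M g c := by
  obtain ⟨m, hm, rfl⟩ := h
  refine ⟨m⁻¹, M.inv_mem hm, ?_⟩
  rw [← MulAut.mul_apply, ← map_mul, inv_mul_cancel, map_one, MulAut.one_apply]

theorem Cl.trans {M : Subgroup G} {a b c : G} (h : Cl M a b) (h' : Cl M b c) : Cl M a c := by
  obtain ⟨m, hm, rfl⟩ := h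
  obtain ⟨n, hn, rfl⟩ := h'
  exact ⟨n * m, M.mul_mem hn hm, by rw [map_mul, MulAut.mul_apply]⟩

theorem Cl.of {M : Subgroup G} {m : G} (hm : m ∈ M) (c : G) : Cl M c (MulAut.conj m c) := ⟨m, hm, rfl⟩

theorem conj_conj_inv (m c : G) : MulAut.conj m (MulAut.conj m⁻¹ c) = c := by
  rw [← MulAut.mul_apply, ← map_mul, mul_inv_cancel, map_one, MulAut.one_apply]

theorem conj_inv_conj (m c : G) : MulAut.conj m⁻¹ (MulAut.conj m c) = c := by
  rw [← MulAut.mul_apply, ← map_mul, inv_mul_cancel, map_one, MulAut.one_apply]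

theorem conj_mul_apply (a b c : G) : MulAut.conj (a * b) c = MulAut.conj a (MulAut.conj b c) := by
  rw [map_mul, MulAut.mul_apply]

theorem conj_eq_self {m c : G} (h : m * c = c * m) : MulAut.conj m c = c := by
  rw [MulAut.conj_apply, h, mul_inv_cancel_right]

theorem comm_of_conj {m c : G} (h : MulAut.conj m c = c) : m * c = c * m := by
  rw [MulAut.conj_apply] at h
  exact mul_inv_eq_iff_eq_mul.mp h

/-- extremal conjugation -/
theorem exists_ext [Finite G] {T N : Subgroup G} (hT : IsSyl T N) {y c m : G}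
    (hcN : ∀ s ∈ T, s * c = c * s) (hm : m ∈ N) (hmc : MulAut.conj m y = c) :
    ∃ m' ∈ N, MulAut.conj m' y = c ∧ ∀ s ∈ T, s * y = y * s → MulAut.conj m' s ∈ T := by
  have h1 : IsSyl T (N ⊓ centralizer {c}) :=
    hT.mono (le_inf hT.le fun s hs => mem_centralizer_singleton_iff.mpr (hcN s hs)) inf_le_left
  have h2 : (T ⊓ centralizer {y}).map (MulAut.conj m).toMonoidHom ≤ N ⊓ centralizer {c} := by
    rintro _ ⟨s, ⟨hs1, hs2⟩, rfl⟩
    refine ⟨N.mul_mem (N.mul_mem hm (hT.le hs1)) (N.inv_mem hm), ?_⟩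
    show MulAut.conj m s ∈ centralizer {c}
    rw [mem_centralizer_singleton_iff, ← hmc, ← map_mul, ← map_mul,
      mem_centralizer_singleton_iff.mp hs2]
  have h3 : IsPGroup 2 ((T ⊓ centralizer {y}).map (MulAut.conj m).toMonoidHom : Subgroup G) :=
    (hT.two.to_le inf_le_left).map _
  obtain ⟨n, hn, hc⟩ := h1.exists_conj h3 h2
  refine ⟨n * m, N.mul_mem hn.1 hm, ?_, fun s hs hsy => ?_⟩
  · rw [map_mul, MulAut.mul_apply, hmc]
    exact conj_eq_self (mem_centralizer_singleton_iff.mp hn.2)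
  · have h4 := hc _ ⟨s, ⟨hs, mem_centralizer_singleton_iff.mpr hsy⟩, rfl⟩
    rw [map_mul, MulAut.mul_apply]
    exact h4

/-- Hypotheses of (D4). -/
structure Hyp (M S A M₁ M₂ D : Subgroup G) (t u x : G) : Prop where
  F : AData.Facts A M₁ M₂ u
  tt : t * t = 1
  nM : M.Normal
  tM : t ∉ M
  idx : ∀ g, g ∈ M ∨ g * t ∈ M
  syl : IsSyl S ⊤
  tS : t ∈ S
  AM : A ≤ M
  AD : A ≤ D
  DS : D ≤ S
  xD : x ∈ D
  xA : x ∉ A
  xx : x * x = 1
  ix : ∀ g ∈ D, g ∈ A ∨ g * x ∈ A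
  xn : ∀ a ∈ A, x * a * x⁻¹ ∈ A
  sw : ∀ y ∈ D, y ∉ A → ∀ m ∈ M₁, y * m * y⁻¹ ∈ M₂
  comm : ∀ a ∈ D, ∀ b ∈ D, a * MulAut.conj t b = MulAut.conj t b * a
  inf : ∀ a ∈ D, MulAut.conj t a ∈ D → a = 1
  dec : ∀ g ∈ S, ∃ a ∈ D, ∃ b ∈ D, g = a * MulAut.conj t b ∨ g = a * MulAut.conj t b * t
  noT : ∀ g, ∀ a ∈ D, ∀ b ∈ D, MulAut.conj g t ≠ a * MulAut.conj t b
  uz : ∀ g, MulAut.conj g u ≠ u * MulAut.conj t u
  w : x * MulAut.conj t x ∈ M
  ly : ∀ y ∈ D, y ∉ A → y * y = 1 → ∃ g, g * t = t * g ∧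
    MulAut.conj g (y * MulAut.conj t y) = u * MulAut.conj t u
  fus : ∀ a ∈ A, a * a = 1 → a ≠ 1 → ∃ k ∈ M, (∀ b ∈ A, k * MulAut.conj t b = MulAut.conj t b * k) ∧
    MulAut.conj k u = a
  fus' : ∀ y ∈ D, y ∉ A → y * y = 1 → ∀ b ∈ A, b * b = 1 → b ≠ 1 → ∃ k, (∀ a ∈ A, k * a = a * k) ∧
    k * y = y * k ∧ MulAut.conj k (MulAut.conj t b) = MulAut.conj t u

namespace Hyp

variable {M S A M₁ M₂ D : Subgroup G} {t u x : G} (h : Hyp M S A M₁ M₂ D t u x)
include h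

local notation "τ" => MulAut.conj t

theorem t_inv : t⁻¹ = t := inv_eq_of_mul_eq_one_left h.tt

theorem ττ (a : G) : τ (τ a) = a := by
  rw [← MulAut.mul_apply, ← map_mul, h.tt, map_one, MulAut.one_apply]

theorem uA : u ∈ A := h.F.le₁ (mem_inf.mp h.F.u_mem).1

theorem uD : u ∈ D := h.AD h.uA

theorem uu : u * u = 1 := h.F.sq₁ u (mem_inf.mp h.F.u_mem).1

theorem u1 : u ≠ 1 := h.F.u_ne

/-- `S₀ = D × D ^ t` -/
def T : Subgroup G where
  carrier := {g | ∃ a ∈ D, ∃ b ∈ D, g = a * τ b}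
  one_mem' := ⟨1, D.one_mem, 1, D.one_mem, by rw [map_one, mul_one]⟩
  mul_mem' := by
    rintro _ _ ⟨a, ha, b, hb, rfl⟩ ⟨a', ha', b', hb', rfl⟩
    refine ⟨a * a', D.mul_mem ha ha', b * b', D.mul_mem hb hb', ?_⟩
    rw [map_mul, mul_assoc, ← mul_assoc (τ b), ← h.comm a' ha' b hb]
    group
  inv_mem' := by
    rintro _ ⟨a, ha, b, hb, rfl⟩
    refine ⟨a⁻¹, D.inv_mem ha, b⁻¹, D.inv_mem hb, ?_⟩
    rw [h.comm a ha b hb, mul_inv_rev, map_inv]

/-- `J = A × A ^ t` -/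
def J : Subgroup G where
  carrier := {g | ∃ a ∈ A, ∃ b ∈ A, g = a * τ b}
  one_mem' := ⟨1, A.one_mem, 1, A.one_mem, by rw [map_one, mul_one]⟩
  mul_mem' := by
    rintro _ _ ⟨a, ha, b, hb, rfl⟩ ⟨a', ha', b', hb', rfl⟩
    refine ⟨a * a', A.mul_mem ha ha', b * b', A.mul_mem hb hb', ?_⟩
    rw [map_mul, mul_assoc, ← mul_assoc (τ b), ← h.comm a' (h.AD ha') b (h.AD hb)]
    group
  inv_mem' := by
    rintro _ ⟨a, ha, b, hb, rfl⟩
    refine ⟨a⁻¹, A.inv_mem ha, b⁻¹, A.inv_mem hb, ?_⟩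
    rw [h.comm a (h.AD ha) b (h.AD hb), mul_inv_rev, map_inv]

theorem mem_T {g : G} : g ∈ h.T ↔ ∃ a ∈ D, ∃ b ∈ D, g = a * τ b := Iff.rfl

theorem mem_J {g : G} : g ∈ h.J ↔ ∃ a ∈ A, ∃ b ∈ A, g = a * τ b := Iff.rfl

theorem D_le : D ≤ h.T := fun a ha => ⟨a, ha, 1, D.one_mem, by rw [map_one, mul_one]⟩

theorem τD_mem {b : G} (hb : b ∈ D) : τ b ∈ h.T := ⟨1, D.one_mem, b, hb, by rw [one_mul]⟩

theorem uniq {a b a' b' : G} (ha : a ∈ D) (hb : b ∈ D) (ha' : a' ∈ D) (hb' : b' ∈ D)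
    (e : a * τ b = a' * τ b') : a = a' ∧ b = b' := by
  have h1 : a'⁻¹ * a = τ (b' * b⁻¹) := by
    rw [map_mul, map_inv, inv_mul_eq_iff_eq_mul, ← mul_assoc, ← e]; group
  have h2 := h.inf (b' * b⁻¹) (D.mul_mem hb' (D.inv_mem hb)) (h1 ▸ D.mul_mem (D.inv_mem ha') ha)
  rw [h2, map_one] at h1
  exact ⟨(inv_mul_eq_one.mp h1).symm, (mul_inv_eq_one.mp h2).symm⟩

theorem T_le : h.T ≤ S := by
  rintro _ ⟨a, ha, b, hb, rfl⟩
  exact S.mul_mem (h.DS ha) (S.mul_mem (S.mul_mem h.tS (h.DS hb)) (S.inv_mem h.tS))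

theorem τ_T {g : G} (hg : g ∈ h.T) : τ g ∈ h.T := by
  obtain ⟨a, ha, b, hb, rfl⟩ := hg
  exact ⟨b, hb, a, ha, by rw [map_mul, h.ττ, h.comm b hb a ha]⟩

theorem S_dec {g : G} (hg : g ∈ S) : g ∈ h.T ∨ g * t ∈ h.T := by
  obtain ⟨a, ha, b, hb, rfl | rfl⟩ := h.dec g hg
  · exact Or.inl ⟨a, ha, b, hb, rfl⟩
  · right
    rw [mul_assoc, h.tt, mul_one]
    exact ⟨a, ha, b, hb, rfl⟩

theorem not_T (m : G) : MulAut.conj m t ∉ h.T := by
  rintro ⟨a, ha, b, hb, e⟩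
  exact h.noT m a ha b hb e

/-- `u` is central in `D` -/
theorem u_cent {a : G} (ha : a ∈ D) : a * u = u * a := by
  have h1 : ∀ a ∈ A, a * u = u * a := h.F.u_cent
  -- `x` normalises `Z(A)`
  have hxu : x * u = u * x := by
    have h2 : x * u * x⁻¹ ∈ A := h.xn u h.uA
    have h3 : ∀ b ∈ A, (x * u * x⁻¹) * b = b * (x * u * x⁻¹) := by
      intro b hb
      have hx : x⁻¹ = x := inv_eq_of_mul_eq_one_left h.xx
      have h4 : x⁻¹ * b * x ∈ A := by
        have := h.xn b hb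
        rwa [hx] at this ⊢
      have h5 := h1 _ h4
      calc x * u * x⁻¹ * b = x * (u * (x⁻¹ * b * x)) * x⁻¹ := by group
        _ = x * ((x⁻¹ * b * x) * u) * x⁻¹ := by rw [h5]
        _ = b * (x * u * x⁻¹) := by group
    rcases h.F.center _ h2 h3 with h4 | h4
    · exfalso
      apply h.u1
      have : u = x⁻¹ * (x * u * x⁻¹) * x := by group
      rw [this, h4]; group
    · exact mul_inv_eq_iff_eq_mul.mp h4
  rcases h.ix a ha with h2 | h2
  · exact h1 a h2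
  · have h3 := h1 _ h2
    have hx : x⁻¹ = x := inv_eq_of_mul_eq_one_left h.xx
    calc a * u = a * x * (x⁻¹ * u) := by group
      _ = a * x * (u * x⁻¹) := by rw [hx, hxu]
      _ = (a * x * u) * x⁻¹ := by group
      _ = (u * (a * x)) * x⁻¹ := by rw [h3]
      _ = u * a := by group

theorem T_u {g : G} (hg : g ∈ h.T) : g * u = u * g := by
  obtain ⟨a, ha, b, hb, rfl⟩ := hg
  rw [mul_assoc, ← h.comm u h.uD b hb, ← mul_assoc, h.u_cent ha, mul_assoc]

theorem T_v {g : G} (hg : g ∈ h.T) : g * τ u = τ u * g := by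
  have h1 := h.T_u (h.τ_T hg)
  have h2 := congrArg (MulAut.conj t) h1
  rw [map_mul, map_mul, h.ττ] at h2
  exact h2

theorem T_z {g : G} (hg : g ∈ h.T) : g * (u * τ u) = (u * τ u) * g := by
  rw [← mul_assoc, h.T_u hg, mul_assoc, h.T_v hg, mul_assoc]

theorem τz : τ (u * τ u) = u * τ u := by
  rw [map_mul, h.ττ, h.comm u h.uD u h.uD]

theorem S_z {g : G} (hg : g ∈ S) : g * (u * τ u) = (u * τ u) * g := by
  rcases h.S_dec hg with h1 | h1
  · exact h.T_z h1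
  · have h2 := h.T_z h1
    have h3 : t * (u * τ u) = (u * τ u) * t := comm_of_conj h.τz
    calc g * (u * τ u) = g * t * (t⁻¹ * (u * τ u)) := by group
      _ = g * t * (t * (u * τ u)) := by rw [h.t_inv]
      _ = (g * t * (u * τ u)) * t := by rw [h3]; group
      _ = (u * τ u) * (g * t) * t := by rw [h2]
      _ = (u * τ u) * g * (t * t) := by group
      _ = (u * τ u) * g := by rw [h.tt, mul_one]

/-- involutions of `S - S₀` are conjugate to `t` -/
theorem conj_of_notMem {g : G} (hg : g ∈ S) (hT : g ∉ h.T) (hgg : g * g = 1) :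
    ∃ a ∈ D, g = MulAut.conj a t := by
  obtain ⟨a, ha, b, hb, rfl | rfl⟩ := h.dec g hg
  · exact absurd ⟨a, ha, b, hb, rfl⟩ hT
  · refine ⟨a, ha, ?_⟩
    have h1 : (a * b) * τ (b * a) = 1 * τ 1 := by
      have h2 : t * τ b * t = b := by
        rw [MulAut.conj_apply]
        calc t * (t * b * t⁻¹) * t = (t * t) * b * (t⁻¹ * t) := by group
          _ = b := by rw [h.tt]; group
      have h3 : t * a = τ a * t := by rw [MulAut.conj_apply]; group
      calc (a * b) * τ (b * a) = a * (b * τ (b * a)) := by group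
        _ = a * (τ (b * a) * b) := by rw [h.comm b hb _ (D.mul_mem hb ha)]
        _ = a * τ b * (τ a * b) := by rw [map_mul]; group
        _ = a * τ b * (τ a * (t * τ b * t)) := by rw [h2]
        _ = a * τ b * (τ a * t) * τ b * t := by group
        _ = a * τ b * (t * a) * τ b * t := by rw [h3]
        _ = (a * τ b * t) * (a * τ b * t) := by group
        _ = 1 * τ 1 := by rw [hgg, map_one, mul_one]
    obtain ⟨h2, -⟩ := h.uniq (D.mul_mem ha hb) (D.mul_mem hb ha) D.one_mem D.one_mem h1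
    have h3 : b = a⁻¹ := (inv_eq_of_mul_eq_one_right h2).symm
    rw [h3, MulAut.conj_apply, MulAut.conj_apply]
    group

theorem x_inv : x⁻¹ = x := inv_eq_of_mul_eq_one_left h.xx

theorem Dn {d a : G} (hd : d ∈ D) (ha : a ∈ A) : d * a * d⁻¹ ∈ A := by
  rcases h.ix d hd with h1 | h1
  · exact A.mul_mem (A.mul_mem h1 ha) (A.inv_mem h1)
  · have h2 := A.mul_mem (A.mul_mem h1 (h.xn a ha)) (A.inv_mem h1)
    have h3 : d * x * (x * a * x⁻¹) * (d * x)⁻¹ = d * (x * x) * a * (x * x)⁻¹ * d⁻¹ := by group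
    rw [h3, h.xx] at h2
    simpa using h2

theorem DD {a b : G} (ha : a ∈ D) (hb : b ∈ D) (ha' : a ∉ A) (hb' : b ∉ A) : a * b ∈ A := by
  have h1 := (h.ix a ha).resolve_left ha'
  have h2 := (h.ix b hb).resolve_left hb'
  have h3 := A.mul_mem h1 (h.xn _ h2)
  have h4 : a * x * (x * (b * x) * x⁻¹) = a * (x * x) * b * (x * x⁻¹) := by group
  rw [h4, h.xx] at h3
  simpa using h3

theorem Dcomm {a b : G} (ha : a ∈ D) (hb : b ∈ D) : ⁅a, b⁆ ∈ A := by
  rw [commutatorElement_def]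
  by_cases ha' : a ∈ A
  · have h1 := A.mul_mem ha' (h.Dn hb (A.inv_mem ha'))
    have h2 : a * (b * a⁻¹ * b⁻¹) = a * b * a⁻¹ * b⁻¹ := by group
    rwa [h2] at h1
  · by_cases hb' : b ∈ A
    · exact A.mul_mem (h.Dn ha hb') (A.inv_mem hb')
    · have h1 := A.mul_mem (h.DD ha hb ha' hb') (h.DD (D.inv_mem ha) (D.inv_mem hb)
        (fun h1 => ha' ((A.inv_mem_iff).mp h1)) (fun h1 => hb' ((A.inv_mem_iff).mp h1)))
      rwa [← mul_assoc] at h1

/-- `[S₀, S₀] ≤ J` -/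
theorem comm_le : ⁅h.T, h.T⁆ ≤ h.J := by
  rw [Subgroup.commutator_le]
  rintro _ ⟨a, ha, b, hb, rfl⟩ _ ⟨a', ha', b', hb', rfl⟩
  refine ⟨⁅a, a'⁆, h.Dcomm ha ha', ⁅b, b'⁆, h.Dcomm hb hb', ?_⟩
  have c1 := h.comm a' ha' b hb
  have c2 : τ b * a⁻¹ = a⁻¹ * τ b := (h.comm _ (D.inv_mem ha) b hb).symm
  have c3 : τ b' * a⁻¹ = a⁻¹ * τ b' := (h.comm _ (D.inv_mem ha) b' hb').symm
  have c4 : τ b⁻¹ * a'⁻¹ = a'⁻¹ * τ b⁻¹ := (h.comm _ (D.inv_mem ha') _ (D.inv_mem hb)).symm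
  have c5 : τ b' * a'⁻¹ = a'⁻¹ * τ b' := (h.comm _ (D.inv_mem ha') b' hb').symm
  have c6 : τ b * a'⁻¹ = a'⁻¹ * τ b := (h.comm _ (D.inv_mem ha') b hb).symm
  have c7 : τ b⁻¹ * a⁻¹ = a⁻¹ * τ b⁻¹ := (h.comm _ (D.inv_mem ha) _ (D.inv_mem hb)).symm
  rw [commutatorElement_def, commutatorElement_def, commutatorElement_def, map_mul, map_mul, map_mul,
    mul_inv_rev, mul_inv_rev, ← map_inv, ← map_inv]
  calc a * τ b * (a' * τ b') * (τ b⁻¹ * a⁻¹) * (τ b'⁻¹ * a'⁻¹)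
      = a * (τ b * a') * τ b' * (τ b⁻¹ * a⁻¹) * (τ b'⁻¹ * a'⁻¹) := by group
    _ = a * a' * τ b * τ b' * (a⁻¹ * τ b⁻¹) * (a'⁻¹ * τ b'⁻¹) := by
        rw [← c1, c7, (h.comm _ (D.inv_mem ha') _ (D.inv_mem hb')).symm]; group
    _ = a * a' * τ b * (τ b' * a⁻¹) * (τ b⁻¹ * a'⁻¹) * τ b'⁻¹ := by group
    _ = a * a' * (τ b * a⁻¹) * (τ b' * a'⁻¹) * τ b⁻¹ * τ b'⁻¹ := by rw [c3, c4]; group
    _ = a * a' * a⁻¹ * (τ b * a'⁻¹) * τ b' * τ b⁻¹ * τ b'⁻¹ := by rw [c2, c5]; group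
    _ = _ := by rw [c6]; group

/-! ### (4.1), (4.2) -/

omit h in
theorem z_eq {g : G} (hg : g * t = t * g) (y : G) : MulAut.conj g (τ y) = τ (MulAut.conj g y) := by
  rw [← conj_mul_apply, ← conj_mul_apply, hg]

variable [Finite G]

theorem sylz : IsSyl S (centralizer {u * τ u}) :=
  h.syl.mono (fun _ hs => mem_centralizer_singleton_iff.mpr (h.S_z hs)) le_top

/-- (4.1) -/
theorem exists_h {y : G} (hy : y ∈ D) (hyA : y ∉ A) (hyy : y * y = 1) : ∃ k ∈ M, k * t = t * k ∧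
    MulAut.conj k (y * τ y) = u * τ u ∧
    ∀ s ∈ S, s * (y * τ y) = (y * τ y) * s → MulAut.conj k s ∈ S := by
  obtain ⟨g, hgt, hg⟩ := h.ly y hy hyA hyy
  have hτ : τ (y * τ y) = y * τ y := by rw [map_mul, h.ττ, h.comm y hy y hy]
  obtain ⟨m, -, hm, hmS⟩ := exists_ext (N := ⊤) (y := y * τ y) (c := u * τ u) (m := g) h.syl
    (fun s hs => h.S_z hs) trivial hg
  have h1 : MulAut.conj m t ∈ S := hmS t h.tS (comm_of_conj hτ)
  have h2 : MulAut.conj m t * MulAut.conj m t = 1 := by rw [← map_mul, h.tt, map_one]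
  obtain ⟨a, ha, e⟩ := h.conj_of_notMem h1 (h.not_T m) h2
  have key : ∃ k, k * t = t * k ∧ MulAut.conj k (y * τ y) = u * τ u ∧
      ∀ s ∈ S, s * (y * τ y) = (y * τ y) * s → MulAut.conj k s ∈ S := by
    refine ⟨a⁻¹ * m, ?_, ?_, ?_⟩
    · apply comm_of_conj
      rw [conj_mul_apply, e, conj_inv_conj]
    · rw [conj_mul_apply, hm]
      apply conj_eq_self
      exact h.T_z (h.D_le (D.inv_mem ha))
    · intro s hs hsy
      rw [conj_mul_apply]
      exact S.mul_mem (S.mul_mem (S.inv_mem (h.DS ha)) (hmS s hs hsy)) (S.inv_mem (S.inv_mem (h.DS ha)))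
  obtain ⟨k, hk, hkz, hkS⟩ := key
  rcases h.idx k with h3 | h3
  · exact ⟨k, h3, hk, hkz, hkS⟩
  · refine ⟨k * t, h3, by rw [hk, mul_assoc, ← hk], ?_, ?_⟩
    · rw [conj_mul_apply, hτ, hkz]
    · intro s hs hsy
      rw [conj_mul_apply]
      apply hkS _ (S.mul_mem (S.mul_mem h.tS hs) (S.inv_mem h.tS))
      have h4 := congrArg (MulAut.conj t) hsy
      rw [map_mul _ s, map_mul _ _ s, hτ] at h4
      exact h4

omit [Finite G] in
/-- involutions of `S₀` stay in `S₀` -/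
theorem invol_T {k s : G} (hs : s ∈ h.T) (hss : s * s = 1) (hk : MulAut.conj k s ∈ S) :
    MulAut.conj k s ∈ h.T := by
  by_contra hT
  have h1 : MulAut.conj k s * MulAut.conj k s = 1 := by rw [← map_mul, hss, map_one]
  obtain ⟨a, ha, e⟩ := h.conj_of_notMem hk hT h1
  apply h.not_T (k⁻¹ * a)
  rw [conj_mul_apply, ← e, conj_inv_conj]
  exact hs

omit [Finite G] in
theorem τM {g : G} (hg : g ∈ M) : τ g ∈ M := h.nM.conj_mem g hg t

/-- (4.2) -/
theorem DM : D ≤ M := by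
  obtain ⟨k, hkM, hkt, hkz, hkS⟩ := h.exists_h h.xD h.xA h.xx
  have hx1 : MulAut.conj k x ∈ h.T := h.invol_T (h.D_le h.xD) h.xx (hkS x (h.DS h.xD) (by
    rw [mul_assoc, ← h.comm x h.xD x h.xD]))
  -- `t ^ x = t w`
  have h1 : MulAut.conj x t = (x * τ x) * t := by
    rw [MulAut.conj_apply, MulAut.conj_apply, h.x_inv, h.t_inv]
    calc x * t * x = x * (t * x * t) * t * (t * t)⁻¹ := by group
      _ = x * (t * x * t) * t := by rw [h.tt]; group
  have h2 : MulAut.conj u t = (u * τ u) * t := by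
    have : u⁻¹ = u := inv_eq_of_mul_eq_one_left h.uu
    rw [MulAut.conj_apply, MulAut.conj_apply, this, h.t_inv]
    calc u * t * u = u * (t * u * t) * t * (t * t)⁻¹ := by group
      _ = u * (t * u * t) * t := by rw [h.tt]; group
  have hkt' : MulAut.conj k t = t := conj_eq_self hkt
  have h3 : MulAut.conj (MulAut.conj k x) t = MulAut.conj u t := by
    have e1 : MulAut.conj (MulAut.conj k x) t = MulAut.conj k (MulAut.conj x (MulAut.conj k⁻¹ t)) := by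
      simp only [MulAut.conj_apply]; group
    have e2 : MulAut.conj k⁻¹ t = t := by
      have := congrArg (MulAut.conj k⁻¹) hkt'
      rw [conj_inv_conj] at this
      exact this.symm
    rw [e1, e2, h1, map_mul, hkz, hkt', h2]
  -- `u⁻¹ x'` centralises `t`
  set x' := MulAut.conj k x with hx'
  have h4 : τ (u⁻¹ * x') = u⁻¹ * x' := by
    have h5 : (u⁻¹ * x') * t = t * (u⁻¹ * x') := by
      apply comm_of_conj
      rw [conj_mul_apply, h3, conj_inv_conj]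
    exact conj_eq_self h5.symm
  have h5 : u⁻¹ * x' ∈ h.T := h.T.mul_mem (h.T.inv_mem (h.D_le h.uD)) hx1
  obtain ⟨a, ha, b, hb, e⟩ := h5
  have hab : a = b := by
    rw [e, map_mul, h.ττ] at h4
    have h6 : b * τ a = a * τ b := by rw [h.comm b hb a ha]; exact h4
    exact (h.uniq hb ha ha hb h6).1.symm
  subst hab
  have h6 : u⁻¹ * x' ∈ M := by
    rw [e]
    rcases h.ix a ha with h7 | h7
    · exact M.mul_mem (h.AM h7) (h.τM (h.AM h7))
    · obtain ⟨p, hp⟩ : ∃ p, p = a * x := ⟨_, rfl⟩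
      have hpD : p ∈ D := hp ▸ D.mul_mem ha h.xD
      have hpa : a = p * x := by rw [hp, mul_assoc, h.xx, mul_one]
      rw [← hp] at h7
      have h8 : a * τ a = (p * τ p) * (x * τ x) := by
        rw [hpa, map_mul]
        calc p * x * (τ p * τ x) = p * (x * τ p) * τ x := by group
          _ = _ := by rw [h.comm x h.xD p hpD]; group
      rw [h8]
      exact M.mul_mem (M.mul_mem (h.AM h7) (h.τM (h.AM h7))) h.w
  have h7 : x' ∈ M := by
    have := M.mul_mem (h.AM h.uA) h6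
    rwa [mul_inv_cancel_left] at this
  have h8 : x ∈ M := by
    have := h.nM.conj_mem _ h7 k⁻¹
    have e3 : k⁻¹ * x' * k⁻¹⁻¹ = x := by rw [hx', MulAut.conj_apply]; group
    rwa [e3] at this
  intro d hd
  rcases h.ix d hd with h9 | h9
  · exact h.AM h9
  · have := M.mul_mem (h.AM h9) (M.inv_mem h8)
    rwa [mul_inv_cancel_right] at this

theorem TM : h.T ≤ M := by
  rintro _ ⟨a, ha, b, hb, rfl⟩
  exact M.mul_mem (h.DM ha) (h.τM (h.DM hb))

theorem SM : S ⊓ M = h.T := by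
  apply le_antisymm _ (le_inf h.T_le h.TM)
  rintro g ⟨hg, hM⟩
  rcases h.S_dec hg with h1 | h1
  · exact h1
  · exfalso
    apply h.tM
    have h2 := M.mul_mem (M.inv_mem hM) (h.TM h1)
    rwa [inv_mul_cancel_left] at h2

theorem sylM : IsSyl h.T M := by
  have h1 := h.syl.inf_normal le_top (N' := M) (by rw [normalizer_eq_top_iff.mpr h.nM])
  rwa [h.SM] at h1

/-! ### (4.3) -/

omit [Finite G] in
theorem uv_ne : u ≠ τ u := fun e => h.u1 (h.inf u h.uD (e ▸ h.uD))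

theorem center_D {a : G} (ha : a ∈ D) (hc : ∀ b ∈ D, a * b = b * a) : a = 1 ∨ a = u := by
  by_cases hA : a ∈ A
  · exact h.F.center a hA fun b hb => hc b (h.AD hb)
  · exfalso
    have h1 : M₁ ≤ M₂ := by
      intro m hm
      have h2 := h.sw a ha hA m hm
      rwa [hc m (h.AD (h.F.le₁ hm)), mul_inv_cancel_right] at h2
    exact h.F.ne (Subgroup.eq_of_le_of_card_ge h1 (by rw [h.F.card₁, h.F.card₂]))

theorem center_T {g : G} (hg : g ∈ h.T) (hc : ∀ s ∈ h.T, g * s = s * g) :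
    g = 1 ∨ g = u ∨ g = τ u ∨ g = u * τ u := by
  obtain ⟨a, ha, b, hb, rfl⟩ := hg
  have h1 : ∀ d ∈ D, a * d = d * a := by
    intro d hd
    have h2 := hc d (h.D_le hd)
    rw [mul_assoc, ← h.comm d hd b hb, ← mul_assoc, ← mul_assoc] at h2
    exact mul_right_cancel h2
  have h2 : ∀ d ∈ D, b * d = d * b := by
    intro d hd
    have h3 := hc (τ d) (h.τD_mem hd)
    rw [← mul_assoc, ← h.comm a ha d hd, mul_assoc, mul_assoc] at h3
    have h4 := mul_left_cancel h3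
    rw [← map_mul, ← map_mul] at h4
    exact (MulAut.conj t).injective h4
  rcases h.center_D ha h1 with rfl | rfl <;> rcases h.center_D hb h2 with rfl | rfl
  · left; rw [map_one, mul_one]
  · right; right; left; rw [one_mul]
  · right; left; rw [map_one, mul_one]
  · right; right; right; rfl

omit [Finite G] in
theorem not_uz (m : G) : MulAut.conj m u ≠ u * τ u := h.uz m

omit [Finite G] in
theorem not_vz (m : G) : MulAut.conj m (τ u) ≠ u * τ u := by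
  rw [← conj_mul_apply]
  exact h.uz _

/-- (4.3) -/
theorem not_uv : ¬ Cl M u (τ u) := by
  rintro ⟨m, hm, hmu⟩
  obtain ⟨g, hg, hgu, hgT⟩ := exists_ext h.sylM (fun s hs => h.T_v hs) hm hmu
  have hgN : g ∈ normalizer (h.T : Set G) :=
    mem_normalizer_of_conj_le fun s hs => hgT s hs (h.T_u hs)
  have huT : u ∈ h.T := h.D_le h.uD
  have hvT : τ u ∈ h.T := h.τD_mem h.uD
  have hgv : MulAut.conj g (τ u) = u := by
    have h1 : MulAut.conj g (τ u) ∈ h.T := hgT _ hvT (h.T_u hvT)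
    have h2 : ∀ s ∈ h.T, MulAut.conj g (τ u) * s = s * MulAut.conj g (τ u) := by
      intro s hs
      have h3 : MulAut.conj g⁻¹ s ∈ h.T := (mem_normalizer_iff.mp (inv_mem hgN) s).mp hs
      have h4 := congrArg (MulAut.conj g) (h.T_v h3)
      rw [map_mul, map_mul, conj_conj_inv] at h4
      exact h4.symm
    rcases h.center_T h1 h2 with h3 | h3 | h3 | h3
    · exfalso
      have h4 : τ u = 1 := (MulAut.conj g).injective (h3.trans (map_one _).symm)
      exact h.u1 ((MulAut.conj t).injective (h4.trans (map_one _).symm))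
    · exact h3
    · exfalso
      exact h.uv_ne ((MulAut.conj g).injective (hgu.trans h3.symm))
    · exact absurd h3 (h.not_vz g)
  -- odd powers of `g` move `u`
  have h2 : ∀ k : ℕ, MulAut.conj (g ^ (2 * k)) u = u := by
    intro k
    induction k with
    | zero => simp
    | succ k ih =>
      have e : g ^ (2 * (k + 1)) = g * (g * g ^ (2 * k)) := by
        rw [mul_add, mul_one, pow_succ', pow_succ']
      rw [e, conj_mul_apply, conj_mul_apply, ih, hgu, hgv]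
  have h3 : ∀ k : ℕ, MulAut.conj (g ^ (2 * k + 1)) u = τ u := by
    intro k
    rw [pow_succ', conj_mul_apply, h2, hgu]
  obtain ⟨e, q, hq, he⟩ := Nat.exists_eq_two_pow_mul_odd (orderOf_pos g).ne'
  obtain ⟨k, rfl⟩ := hq
  have h4 : (g ^ (2 * k + 1)) ^ 2 ^ e = 1 := by
    rw [← pow_mul, mul_comm, ← he, pow_orderOf_eq_one]
  have h5 : IsPGroup 2 (zpowers (g ^ (2 * k + 1))) := by
    intro ⟨y, hy⟩
    obtain ⟨j, rfl⟩ := mem_zpowers_iff.mp hy
    refine ⟨e, ?_⟩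
    apply Subtype.ext
    show ((g ^ (2 * k + 1)) ^ j) ^ 2 ^ e = 1
    rw [← zpow_natCast, ← zpow_mul, mul_comm j, zpow_mul, zpow_natCast, h4, one_zpow]
  have h6 : IsSyl h.T (M ⊓ normalizer (h.T : Set G)) :=
    h.sylM.mono (le_inf h.TM le_normalizer) inf_le_left
  obtain ⟨n, hn, hc⟩ := h6.exists_conj h5 (by
    rw [zpowers_le]
    exact ⟨M.pow_mem hg _, Subgroup.pow_mem _ hgN _⟩)
  have h7 := hc _ (mem_zpowers _)
  have h8 : g ^ (2 * k + 1) ∈ h.T := (mem_normalizer_iff.mp hn.2 _).mpr h7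
  have h9 := conj_eq_self (h.T_u h8)
  rw [h3] at h9
  exact h.uv_ne h9.symm

omit [Finite G] in
theorem clU {a : G} (ha : a ∈ A) (haa : a * a = 1) (ha1 : a ≠ 1) : Cl M u a := by
  obtain ⟨k, hk, -, e⟩ := h.fus a ha haa ha1
  exact ⟨k, hk, e⟩

omit [Finite G] in
theorem Cl_τ {a b : G} (hc : Cl M a b) : Cl M (τ a) (τ b) := by
  obtain ⟨k, hk, rfl⟩ := hc
  refine ⟨τ k, h.τM hk, ?_⟩
  simp only [MulAut.conj_apply]; group

omit [Finite G] in
theorem clV {a : G} (ha : a ∈ A) (haa : a * a = 1) (ha1 : a ≠ 1) : Cl M (τ u) (τ a) :=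
  h.Cl_τ (h.clU ha haa ha1)

omit [Finite G] in
theorem clZ {a b : G} (ha : a ∈ A) (haa : a * a = 1) (ha1 : a ≠ 1) (hb : b ∈ A) (hbb : b * b = 1)
    (hb1 : b ≠ 1) : Cl M (u * τ u) (a * τ b) := by
  obtain ⟨k, hk, hkc, e⟩ := h.fus a ha haa ha1
  obtain ⟨k', hk', hkc', e'⟩ := h.fus b hb hbb hb1
  have h1 : Cl M (u * τ u) (u * τ b) := by
    refine ⟨τ k', h.τM hk', ?_⟩
    have h2 := congrArg (MulAut.conj t) (hkc' u h.uA)
    rw [map_mul, map_mul, h.ττ] at h2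
    rw [map_mul, conj_eq_self h2]
    congr 1
    rw [← e']
    simp only [MulAut.conj_apply]; group
  refine h1.trans ⟨k, hk, ?_⟩
  rw [map_mul, e, conj_eq_self (hkc b hb)]

omit [Finite G] in
theorem not_clUZ {g : G} (h1 : Cl M u g) (h2 : Cl M (u * τ u) g) : False := by
  obtain ⟨m, -, e⟩ := h1.trans h2.symm
  exact h.uz m e

omit [Finite G] in
theorem not_clVZ {g : G} (h1 : Cl M (τ u) g) (h2 : Cl M (u * τ u) g) : False := by
  obtain ⟨m, -, e⟩ := h1.trans h2.symm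
  exact h.not_vz m e

theorem not_clUV {g : G} (h1 : Cl M u g) (h2 : Cl M (τ u) g) : False :=
  h.not_uv (h1.trans h2.symm)

omit h [Finite G] in
theorem cl_one {c : G} (h1 : Cl M c 1) : c = 1 := by
  obtain ⟨m, -, e⟩ := h1
  exact (MulAut.conj m).injective (e.trans (map_one _).symm)

omit h [Finite G] in
theorem cl_sq {c g : G} (hc : c * c = 1) (h1 : Cl M c g) : g * g = 1 := by
  obtain ⟨m, -, rfl⟩ := h1
  rw [← map_mul, hc, map_one]

omit [Finite G] in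
theorem vv : τ u * τ u = 1 := by rw [← map_mul, h.uu, map_one]

omit [Finite G] in
theorem v1 : τ u ≠ 1 := fun e => h.u1 ((MulAut.conj t).injective (e.trans (map_one _).symm))

omit [Finite G] in
theorem zz : (u * τ u) * (u * τ u) = 1 := by
  calc (u * τ u) * (u * τ u) = u * (τ u * u) * τ u := by group
    _ = (u * u) * (τ u * τ u) := by rw [← h.comm u h.uD u h.uD]; group
    _ = 1 := by rw [h.uu, h.vv, one_mul]

omit [Finite G] in
theorem sq_of_prod {a b : G} (ha : a ∈ D) (hb : b ∈ D) (hg : (a * τ b) * (a * τ b) = 1) :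
    a * a = 1 ∧ b * b = 1 := by
  have h1 : (a * a) * τ (b * b) = 1 * τ 1 := by
    rw [map_one, mul_one, ← hg, map_mul]
    calc a * a * (τ b * τ b) = a * (a * τ b) * τ b := by group
      _ = a * (τ b * a) * τ b := by rw [h.comm a ha b hb]
      _ = a * τ b * (a * τ b) := by group
  exact h.uniq (D.mul_mem ha ha) (D.mul_mem hb hb) D.one_mem D.one_mem h1

/-- `u ^ M ∩ J ⊆ A` -/
theorem J_U {g : G} (hg : g ∈ h.J) (hc : Cl M u g) : g ∈ A ∧ g * g = 1 ∧ g ≠ 1 := by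
  have hgg := cl_sq h.uu hc
  obtain ⟨a, ha, b, hb, rfl⟩ := hg
  obtain ⟨haa, hbb⟩ := h.sq_of_prod (h.AD ha) (h.AD hb) hgg
  by_cases hb1 : b = 1
  · subst hb1
    rw [map_one, mul_one] at hc ⊢
    refine ⟨ha, haa, ?_⟩
    rintro rfl
    exact h.u1 (cl_one hc)
  · exfalso
    by_cases ha1 : a = 1
    · subst ha1
      rw [one_mul] at hc
      exact h.not_clUV hc (h.clV hb hbb hb1)
    · exact h.not_clUZ hc (h.clZ ha haa ha1 hb hbb hb1)

/-- `v ^ M ∩ J ⊆ B` -/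
theorem J_V {g : G} (hg : g ∈ h.J) (hc : Cl M (τ u) g) :
    ∃ b ∈ A, b * b = 1 ∧ b ≠ 1 ∧ g = τ b := by
  have hgg := cl_sq h.vv hc
  obtain ⟨a, ha, b, hb, rfl⟩ := hg
  obtain ⟨haa, hbb⟩ := h.sq_of_prod (h.AD ha) (h.AD hb) hgg
  by_cases ha1 : a = 1
  · subst ha1
    rw [one_mul] at hc ⊢
    refine ⟨b, hb, hbb, ?_, rfl⟩
    rintro rfl
    rw [map_one] at hc
    exact h.v1 (cl_one hc)
  · exfalso
    by_cases hb1 : b = 1
    · subst hb1
      rw [map_one, mul_one] at hc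
      exact h.not_clUV (h.clU ha haa ha1) hc
    · exact h.not_clVZ hc (h.clZ ha haa ha1 hb hbb hb1)

/-! ### (4.4) -/

omit [Finite G] in
theorem conj_comm_mem {X : Subgroup G} {m y : G} (hX : X ≤ h.T) (hXy : ∀ s ∈ X, s * y = y * s)
    (hm : ∀ s ∈ h.T, s * y = y * s → MulAut.conj m s ∈ h.T) {g : G} (hg : g ∈ ⁅X, X⁆) :
    MulAut.conj m g ∈ h.J := by
  apply h.comm_le
  have h1 : X.map (MulAut.conj m).toMonoidHom ≤ h.T := by
    rintro _ ⟨s, hs, rfl⟩
    exact hm s (hX hs) (hXy s hs)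
  have h2 : MulAut.conj m g ∈ (⁅X, X⁆).map (MulAut.conj m).toMonoidHom := ⟨g, hg, rfl⟩
  rw [map_commutator] at h2
  exact commutator_mono h1 h1 h2

omit [Finite G] in
theorem PA : M₁ ⊔ M₂ ≤ A := sup_le h.F.le₁ h.F.le₂

/-- For `b ∈ V`, `τ b` is mapped into `τ A` by extremal conjugations. -/
theorem V_conj {m y c b : G} (hy : y ∈ D) (hcD : ∀ a ∈ A, a * c = c * a) (hmM : m ∈ M)
    (hm : ∀ s ∈ h.T, s * (y * τ c) = (y * τ c) * s → MulAut.conj m s ∈ h.T)
    (hb : b ∈ M₁ ⊓ M₂) (hb1 : b ≠ 1) : ∃ b' ∈ A, b' * b' = 1 ∧ b' ≠ 1 ∧ MulAut.conj m (τ b) = τ b' := by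
  have hbA : b ∈ A := h.F.le₁ hb.1
  have h1 : MulAut.conj m (τ b) ∈ h.J := by
    apply h.conj_comm_mem (X := (M₁ ⊔ M₂).map (MulAut.conj t).toMonoidHom) _ _ hm
    · rw [← map_commutator, h.F.comV]
      exact ⟨b, hb, rfl⟩
    · rintro _ ⟨s, hs, rfl⟩
      exact h.τD_mem (h.AD (h.PA hs))
    · rintro _ ⟨s, hs, rfl⟩
      show τ s * (y * τ c) = (y * τ c) * τ s
      have h2 := h.comm y hy s (h.AD (h.PA hs))
      have h3 := congrArg (MulAut.conj t) (hcD s (h.PA hs))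
      rw [map_mul, map_mul] at h3
      rw [← mul_assoc, ← h2, mul_assoc, h3, mul_assoc]
  have h2 : Cl M (τ u) (MulAut.conj m (τ b)) :=
    (h.clV hbA (h.F.sq₁ b hb.1) hb1).trans ⟨m, hmM, rfl⟩
  exact h.J_V h1 h2

omit [Finite G] in
theorem exists_V : ∃ b ∈ M₁ ⊓ M₂, b ≠ 1 ∧ b ≠ u := by
  by_contra hne
  push Not at hne
  have h1 : ((M₁ ⊓ M₂ : Subgroup G) : Set G) ⊆ {1, u} := by
    intro b hb
    by_cases hb1 : b = 1
    · exact Or.inl hb1
    · exact Or.inr (hne b hb hb1)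
  have h2 := Set.ncard_le_ncard h1 (Set.toFinite _)
  have h3 : ((M₁ ⊓ M₂ : Subgroup G) : Set G).ncard = 4 := by
    rw [← Nat.card_coe_set_eq]; exact h.F.cardV
  have h4 := Set.ncard_insert_le (1 : G) {u}
  rw [Set.ncard_singleton] at h4
  omega

/-! ### `C_G(u) ≤ M` -/

theorem norm_T {n : G} (hn : n ∈ normalizer (h.T : Set G)) :
    (MulAut.conj n u = u ∧ MulAut.conj n (τ u) = τ u) ∨
      (MulAut.conj n u = τ u ∧ MulAut.conj n (τ u) = u) := by
  have key : ∀ c ∈ h.T, (∀ s ∈ h.T, s * c = c * s) → c ≠ 1 → MulAut.conj n c ≠ u * τ u →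
      MulAut.conj n c = u ∨ MulAut.conj n c = τ u := by
    intro c hc hcc hc1 hcz
    have h1 : MulAut.conj n c ∈ h.T := (mem_normalizer_iff.mp hn c).mp hc
    have h2 : ∀ s ∈ h.T, MulAut.conj n c * s = s * MulAut.conj n c := by
      intro s hs
      have h3 : MulAut.conj n⁻¹ s ∈ h.T := (mem_normalizer_iff.mp (inv_mem hn) s).mp hs
      have h4 := congrArg (MulAut.conj n) (hcc _ h3)
      rw [map_mul, map_mul, conj_conj_inv] at h4
      exact h4.symm
    rcases h.center_T h1 h2 with h3 | h3 | h3 | h3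
    · exact absurd ((MulAut.conj n).injective (h3.trans (map_one _).symm)) hc1
    · exact Or.inl h3
    · exact Or.inr h3
    · exact absurd h3 hcz
  have hu := key u (h.D_le h.uD) (fun s hs => h.T_u hs) h.u1 (h.not_uz n)
  have hv := key (τ u) (h.τD_mem h.uD) (fun s hs => h.T_v hs) h.v1 (h.not_vz n)
  rcases hu with hu | hu <;> rcases hv with hv | hv
  · exact absurd ((MulAut.conj n).injective (hu.trans hv.symm)) h.uv_ne
  · exact Or.inl ⟨hu, hv⟩
  · exact Or.inr ⟨hu, hv⟩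
  · exact absurd ((MulAut.conj n).injective (hu.trans hv.symm)) h.uv_ne

omit [Finite G] in
theorem mem_T_of_comm {s : G} (hs : s ∈ S) (hsu : s * u = u * s) : s ∈ h.T := by
  rcases h.S_dec hs with h1 | h1
  · exact h1
  · exfalso
    have h2 := h.T_u h1
    apply h.uv_ne
    rw [MulAut.conj_apply, eq_mul_inv_iff_mul_eq]
    have h3 : s * (t * u) = s * (u * t) := by
      rw [← mul_assoc, h2, ← mul_assoc, ← hsu, mul_assoc]
    exact (mul_left_cancel h3).symm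

omit [Finite G] in
theorem t_norm : t ∈ normalizer (h.T : Set G) := by
  rw [mem_normalizer_iff]
  intro g
  refine ⟨fun hg => h.τ_T hg, fun hg => ?_⟩
  have := h.τ_T hg
  rwa [show t * g * t⁻¹ = τ g from rfl, h.ττ] at this

omit [Finite G] in
theorem S_norm : S ≤ normalizer (h.T : Set G) := by
  intro s hs
  rcases h.S_dec hs with h1 | h1
  · exact le_normalizer h1
  · have h2 := Subgroup.mul_mem _ (le_normalizer h1) (Subgroup.inv_mem _ h.t_norm)
    rwa [mul_inv_cancel_right] at h2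

theorem sylu : IsSyl h.T (centralizer {u}) := by
  have hTu : h.T ≤ centralizer {u} := fun s hs => mem_centralizer_singleton_iff.mpr (h.T_u hs)
  obtain ⟨P, hP, hTP⟩ := exists_isSyl h.sylM.two hTu
  by_cases hPT : h.T = P
  · rwa [← hPT] at hP
  exfalso
  have h1 := Cfsg.Agent.SmallSimple.SylowMaxInter.lt_inf_normalizer hP.two (lt_of_le_of_ne hTP hPT)
  obtain ⟨p, hp, hpT⟩ := SetLike.exists_of_lt h1
  have h2 : IsSyl S (normalizer (h.T : Set G)) := h.syl.mono h.S_norm le_top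
  have h3 : IsPGroup 2 (zpowers p) := hP.two.to_le (zpowers_le.mpr hp.1)
  obtain ⟨n, hn, hc⟩ := h2.exists_conj h3 (zpowers_le.mpr hp.2)
  have h4 : MulAut.conj n p ∈ S := hc p (mem_zpowers p)
  have hpu : MulAut.conj p u = u := conj_eq_self (mem_centralizer_singleton_iff.mp (hP.le hp.1))
  have hpv : MulAut.conj p (τ u) = τ u := by
    rcases h.norm_T hp.2 with h5 | h5
    · exact h5.2
    · exact absurd (hpu.symm.trans h5.1) h.uv_ne
  have h5 : MulAut.conj n p * u = u * MulAut.conj n p := by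
    have e : ∀ c, MulAut.conj (MulAut.conj n p) (MulAut.conj n c) = MulAut.conj n (MulAut.conj p c) := by
      intro c; simp only [MulAut.conj_apply]; group
    apply comm_of_conj
    rcases h.norm_T hn with h6 | h6
    · have := e u
      rwa [hpu, h6.1] at this
    · have := e (τ u)
      rwa [hpv, h6.2] at this
  have h6 := h.mem_T_of_comm h4 h5
  exact hpT ((mem_normalizer_iff.mp hn p).mpr h6)

/-- `C_G(u) ≤ M` -/
theorem CuM {k : G} (hk : k * u = u * k) : k ∈ M := by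
  by_contra hkM
  obtain ⟨e, q, hq, he⟩ := Nat.exists_eq_two_pow_mul_odd (orderOf_pos k).ne'
  obtain ⟨j, rfl⟩ := hq
  have h2M : ∀ g : G, g * g ∈ M := by
    intro g
    rcases h.idx g with h1 | h1
    · exact M.mul_mem h1 h1
    · have h2 := M.mul_mem h1 (h.nM.conj_mem _ h1 t⁻¹)
      have h3 : g * t * (t⁻¹ * (g * t) * t⁻¹⁻¹) = g * g * (t * t) := by group
      rwa [h3, h.tt, mul_one] at h2
  have h3 : k ^ (2 * j + 1) ∉ M := by
    intro h4
    apply hkM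
    have h5 : k ^ (2 * j) ∈ M := by
      rw [pow_mul, pow_two]
      exact M.pow_mem (h2M k) j
    have h6 := M.mul_mem (M.inv_mem h5) h4
    rwa [pow_succ, inv_mul_cancel_left] at h6
  have h4 : (k ^ (2 * j + 1)) ^ 2 ^ e = 1 := by
    rw [← pow_mul, mul_comm, ← he, pow_orderOf_eq_one]
  have h5 : IsPGroup 2 (zpowers (k ^ (2 * j + 1))) := by
    intro ⟨y, hy⟩
    obtain ⟨i, rfl⟩ := mem_zpowers_iff.mp hy
    refine ⟨e, ?_⟩
    apply Subtype.ext
    show ((k ^ (2 * j + 1)) ^ i) ^ 2 ^ e = 1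
    rw [← zpow_natCast, ← zpow_mul, mul_comm i, zpow_mul, zpow_natCast, h4, one_zpow]
  obtain ⟨n, -, hc⟩ := h.sylu.exists_conj h5 (by
    rw [zpowers_le]
    exact Subgroup.pow_mem _ (mem_centralizer_singleton_iff.mpr hk) _)
  have h6 := h.TM (hc _ (mem_zpowers _))
  apply h3
  have h7 := h.nM.conj_mem _ h6 n⁻¹
  have h8 : n⁻¹ * (n * k ^ (2 * j + 1) * n⁻¹) * n⁻¹⁻¹ = k ^ (2 * j + 1) := by group
  rwa [h8] at h7

/-! ### (4.4) -/

/-- `y b ~ y v` -/
theorem yb_yv {y b : G} (hy : y ∈ D) (hyA : y ∉ A) (hyy : y * y = 1) (hb : b ∈ A) (hbb : b * b = 1)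
    (hb1 : b ≠ 1) : Cl M (y * τ b) (y * τ u) := by
  obtain ⟨k, hkA, hky, e⟩ := h.fus' y hy hyA hyy b hb hbb hb1
  refine ⟨k, h.CuM (hkA u h.uA), ?_⟩
  rw [map_mul, e, conj_eq_self hky]

omit [Finite G] in
/-- (P1) -/
theorem swap1 {y : G} (hy : y ∈ D) (hyA : y ∉ A) (hyy : y * y = 1) :
    ∃ a ∈ A, MulAut.conj a⁻¹ y = u * y := by
  obtain ⟨a, ha, e⟩ := h.F.swap₁ y hyy (fun a ha => h.Dn hy ha) (h.sw y hy hyA)
  refine ⟨a, ha, ?_⟩
  have h1 : y * a = a * u * y := by rw [← e]; group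
  rw [MulAut.conj_apply, inv_inv, mul_assoc, h1]
  group

/-- `y v` is not `M`-conjugate to `u` or `v` -/
theorem yv_not {y : G} (hy : y ∈ D) (hyA : y ∉ A) (hyy : y * y = 1) :
    ¬ Cl M u (y * τ u) ∧ ¬ Cl M (τ u) (y * τ u) := by
  have huc : ∀ a ∈ A, a * u = u * a := h.F.u_cent
  constructor
  · intro hc
    obtain ⟨m₀, hm₀, e₀⟩ := hc.symm
    obtain ⟨m, hmM, hm, hmT⟩ := exists_ext h.sylM (fun s hs => h.T_u hs) hm₀ e₀
    obtain ⟨b, hb, hb1, hbu⟩ := h.exists_V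
    have hbA : b ∈ A := h.F.le₁ hb.1
    have hbb : b * b = 1 := h.F.sq₁ b hb.1
    obtain ⟨b', hb', hbb', hb1', e⟩ := h.V_conj hy huc hmM hmT hb hb1
    -- `y v b ~ y v`
    have hub : (u * b) * (u * b) = 1 := by
      calc u * b * (u * b) = u * (b * u) * b := by group
        _ = (u * u) * (b * b) := by rw [huc b hbA]; group
        _ = 1 := by rw [h.uu, hbb, one_mul]
    have hub1 : u * b ≠ 1 := by
      intro e1
      apply hbu
      rw [← inv_eq_of_mul_eq_one_right e1, inv_eq_of_mul_eq_one_left h.uu]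
    have h1 := h.yb_yv hy hyA hyy (A.mul_mem h.uA hbA) hub hub1
    have h2 : Cl M u (y * τ (u * b)) := hc.trans h1.symm
    have h3 : MulAut.conj m (y * τ (u * b)) = u * τ b' := by
      rw [map_mul (MulAut.conj t), ← mul_assoc, map_mul, hm, e]
    have h4 : Cl M u (u * τ b') := h3 ▸ h2.trans ⟨m, hmM, rfl⟩
    exact h.not_clUZ h4 (h.clZ h.uA h.uu h.u1 hb' hbb' hb1')
  · intro hc
    obtain ⟨m₀, hm₀, e₀⟩ := hc.symm
    obtain ⟨m, hmM, hm, hmT⟩ := exists_ext h.sylM (fun s hs => h.T_v hs) hm₀ e₀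
    -- `u` lies in the commutator subgroup of `C_A(y)`
    have h1 : u ∈ ⁅A ⊓ centralizer {y}, A ⊓ centralizer {y}⁆ :=
      h.F.swap₂ y hyy (fun a ha => h.Dn hy ha) (h.sw y hy hyA)
    have h2 : MulAut.conj m u ∈ h.J := by
      refine h.conj_comm_mem (X := A ⊓ centralizer {y}) (fun s hs => h.D_le (h.AD hs.1))
        (fun s hs => ?_) hmT h1
      rw [← mul_assoc, mem_centralizer_singleton_iff.mp hs.2, mul_assoc,
        h.comm s (h.AD hs.1) u h.uD, mul_assoc]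
    obtain ⟨ha, haa, ha1⟩ := h.J_U h2 ⟨m, hmM, rfl⟩
    obtain ⟨a, haA, e⟩ := h.swap1 hy hyA hyy
    have h3 : Cl M (τ u) (u * y * τ u) := by
      refine hc.trans ⟨a⁻¹, M.inv_mem (h.AM haA), ?_⟩
      rw [map_mul, e, conj_eq_self (h.comm _ (D.inv_mem (h.AD haA)) u h.uD)]
    have h4 : MulAut.conj m (u * y * τ u) = MulAut.conj m u * τ u := by
      rw [mul_assoc, map_mul, hm]
    have h5 : Cl M (τ u) (MulAut.conj m u * τ u) := h4 ▸ h3.trans ⟨m, hmM, rfl⟩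
    exact h.not_clVZ h5 (h.clZ ha haa ha1 h.uA h.uu h.u1)

/-- (4.4) -/
theorem yb_not {y b : G} (hy : y ∈ D) (hyA : y ∉ A) (hyy : y * y = 1) (hb : b ∈ A) (hbb : b * b = 1)
    (hb1 : b ≠ 1) : ¬ Cl M u (y * τ b) ∧ ¬ Cl M (τ u) (y * τ b) := by
  have h1 := h.yb_yv hy hyA hyy hb hbb hb1
  have h2 := h.yv_not hy hyA hyy
  exact ⟨fun h3 => h2.1 (h3.trans h1), fun h3 => h2.2 (h3.trans h1)⟩

/-- (4.5) -/
theorem y_notV {y : G} (hy : y ∈ D) (hyA : y ∉ A) (hyy : y * y = 1) : ¬ Cl M (τ u) y := by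
  intro hc
  obtain ⟨m₀, hm₀, e₀⟩ := hc.symm
  obtain ⟨m, hmM, hm, hmT⟩ := exists_ext h.sylM (fun s hs => h.T_v hs) hm₀ e₀
  have hmT' : ∀ s ∈ h.T, s * (y * τ 1) = (y * τ 1) * s → MulAut.conj m s ∈ h.T := by
    rw [map_one, mul_one]; exact hmT
  have key : ∀ b ∈ M₁ ⊓ M₂, b ≠ 1 → MulAut.conj m (τ b) = τ u := by
    intro b hb hb1
    have hbA : b ∈ A := h.F.le₁ hb.1
    have hbb : b * b = 1 := h.F.sq₁ b hb.1
    obtain ⟨b', hb', hbb', hb1', e⟩ := h.V_conj hy (fun a _ => by rw [mul_one, one_mul]) hmM hmT' hb hb1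
    have h1 : MulAut.conj m (y * τ b) = τ (u * b') := by rw [map_mul, hm, e, map_mul]
    by_cases hub : u * b' = 1
    · rw [e, ← inv_eq_of_mul_eq_one_right hub, inv_eq_of_mul_eq_one_left h.uu]
    · exfalso
      have hubb : (u * b') * (u * b') = 1 := by
        calc u * b' * (u * b') = u * (b' * u) * b' := by group
          _ = (u * u) * (b' * b') := by rw [h.F.u_cent b' hb']; group
          _ = 1 := by rw [h.uu, hbb', one_mul]
      have h2 : Cl M (τ u) (τ (u * b')) := h.clV (A.mul_mem h.uA hb') hubb hub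
      exact (h.yb_not hy hyA hyy hbA hbb hb1).2 (h2.trans (Cl.symm ⟨m, hmM, h1⟩))
  obtain ⟨b, hb, hb1, hbu⟩ := h.exists_V
  have h1 := key b hb hb1
  have h2 := key u h.F.u_mem h.u1
  exact hbu ((MulAut.conj t).injective ((MulAut.conj m).injective (h1.trans h2.symm)))

/-! ### (4.6) -/

/-- `v ^ M ∩ (D × ⟨v⟩) = {v}` -/
theorem VDv {a : G} (ha : a ∈ D) :
    ¬ Cl M (τ u) a ∧ (Cl M (τ u) (a * τ u) → a = 1) := by
  constructor
  · intro hc
    have haa := cl_sq h.vv hc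
    by_cases haA : a ∈ A
    · have ha1 : a ≠ 1 := by
        rintro rfl
        exact h.v1 (cl_one hc)
      exact h.not_clUV (h.clU haA haa ha1) hc
    · exact h.y_notV ha haA haa hc
  · intro hc
    have h1 := cl_sq h.vv hc
    obtain ⟨haa, -⟩ := h.sq_of_prod ha h.uD h1
    by_cases haA : a ∈ A
    · by_contra ha1
      exact h.not_clVZ hc (h.clZ haA haa ha1 h.uA h.uu h.u1)
    · exact absurd hc (h.yv_not ha haA haa).2

/-- (4.6) -/
theorem y_notZ {y : G} (hy : y ∈ D) (hyA : y ∉ A) (hyy : y * y = 1) : ¬ Cl M (u * τ u) y := by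
  intro hc
  obtain ⟨m₀, hm₀, e₀⟩ := hc.symm
  obtain ⟨m, hmM, hm, hmT⟩ := exists_ext h.sylM (fun s hs => h.T_z hs) hm₀ e₀
  set v1 := MulAut.conj m⁻¹ (τ u) with hv1
  set u1 := MulAut.conj m⁻¹ u with hu1
  have hy1 : y = u1 * v1 := by
    rw [hu1, hv1, ← map_mul, ← hm, conj_inv_conj]
  have hv1v : v1 * v1 = 1 := by rw [hv1, ← map_mul, h.vv, map_one]
  -- `v1` centralises `τ D`
  set B : Subgroup G := D.map (MulAut.conj t).toMonoidHom with hB
  have hBT : B ≤ h.T := by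
    rintro _ ⟨s, hs, rfl⟩
    exact h.τD_mem hs
  have hv1c : ∀ s ∈ B, v1 * s = s * v1 := by
    rintro _ ⟨s, hs, rfl⟩
    have h1 : MulAut.conj m (τ s) ∈ h.T := hmT _ (h.τD_mem hs) (h.comm y hy s hs).symm
    have h2 := congrArg (MulAut.conj m⁻¹) (h.T_v h1)
    rw [map_mul, map_mul, conj_inv_conj] at h2
    exact h2.symm
  have hTB : h.T ≤ normalizer (B : Set G) := by
    intro s hs
    apply mem_normalizer_of_conj_le
    rintro _ ⟨d, hd, rfl⟩
    obtain ⟨a, ha, b, hb, rfl⟩ := hs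
    refine ⟨b * d * b⁻¹, D.mul_mem (D.mul_mem hb hd) (D.inv_mem hb), ?_⟩
    show τ (b * d * b⁻¹) = a * τ b * τ d * (a * τ b)⁻¹
    have h1 : a * τ (b * d * b⁻¹) = τ (b * d * b⁻¹) * a :=
      h.comm a ha _ (D.mul_mem (D.mul_mem hb hd) (D.inv_mem hb))
    rw [← mul_inv_eq_iff_eq_mul.mpr h1, map_mul, map_mul, map_inv]
    group
  have h1 : IsSyl h.T (M ⊓ normalizer (B : Set G)) := h.sylM.mono (le_inf h.TM hTB) inf_le_left
  have h2 : IsSyl (h.T ⊓ (M ⊓ centralizer (B : Set G))) (M ⊓ centralizer (B : Set G)) := by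
    apply h1.inf_normal (inf_le_inf le_rfl (centralizer_le_normalizer _))
    rintro n ⟨hnM, hnB⟩
    apply mem_normalizer_of_conj_le
    rintro c ⟨hcM, hcB⟩
    refine ⟨M.mul_mem (M.mul_mem hnM hcM) (M.inv_mem hnM), mem_centralizer_iff.mpr ?_⟩
    intro b hb
    have h3 : n⁻¹ * b * n ∈ B := conj_inv_mem_of_mem_normalizer hnB hb
    have h4 := mem_centralizer_iff.mp hcB _ h3
    calc b * (n * c * n⁻¹) = n * ((n⁻¹ * b * n) * c) * n⁻¹ := by group
      _ = n * (c * (n⁻¹ * b * n)) * n⁻¹ := by rw [h4]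
      _ = n * c * n⁻¹ * b := by group
  have h3 : IsPGroup 2 (zpowers v1) := by
    intro ⟨c, hc⟩
    obtain ⟨i, rfl⟩ := mem_zpowers_iff.mp hc
    refine ⟨1, ?_⟩
    apply Subtype.ext
    show (v1 ^ i) ^ 2 ^ 1 = 1
    rw [← zpow_natCast, ← zpow_mul, mul_comm i, zpow_mul, zpow_natCast, pow_one, pow_two, hv1v,
      one_zpow]
  have hv1M : v1 ∈ M := h.nM.conj_mem _ (h.τM (h.AM h.uA)) _
  obtain ⟨c, hcM, hc⟩ := h2.exists_conj h3 (by
    rw [zpowers_le]
    refine ⟨hv1M, mem_centralizer_iff.mpr ?_⟩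
    intro b hb
    exact (hv1c b hb).symm)
  obtain ⟨⟨a, ha, b, hb, e⟩, -, h4⟩ := hc v1 (mem_zpowers v1)
  have h5 : b = 1 ∨ b = u := by
    apply h.center_D hb
    intro d hd
    have h6 := mem_centralizer_iff.mp h4 (τ d) ⟨d, hd, rfl⟩
    rw [e, ← mul_assoc, ← h.comm a ha d hd, mul_assoc, mul_assoc] at h6
    have h7 := mul_left_cancel h6
    rw [← map_mul, ← map_mul] at h7
    exact ((MulAut.conj t).injective h7).symm
  have h6 : Cl M (τ u) (c * v1 * c⁻¹) := by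
    have h7 : Cl M (τ u) v1 := ⟨m⁻¹, M.inv_mem hmM, rfl⟩
    exact h7.trans ⟨c, hcM.1, rfl⟩
  rw [e] at h6
  have h7 : v1 = τ u := by
    rcases h5 with rfl | rfl
    · rw [map_one, mul_one] at h6
      exact absurd h6 (h.VDv ha).1
    · have h8 := (h.VDv ha).2 h6
      rw [h8, one_mul] at e
      have h9 : MulAut.conj c⁻¹ (τ b) = τ b := by
        apply conj_eq_self
        have h10 := mem_centralizer_iff.mp hcM.2 (τ b) ⟨b, h.uD, rfl⟩
        rw [inv_mul_eq_iff_eq_mul, ← mul_assoc, ← h10, mul_inv_cancel_right]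
      rw [← conj_inv_conj c v1, MulAut.conj_apply c v1, e, h9]
  have h8 : y * τ u = u1 := by rw [hy1, h7, mul_assoc, h.vv, mul_one]
  exact (h.yv_not hy hyA hyy).1 (h8 ▸ ⟨m⁻¹, M.inv_mem hmM, rfl⟩)

/-! ### (4.7) -/

theorem ly_Z {y : G} (hy : y ∈ D) (hyA : y ∉ A) (hyy : y * y = 1) : Cl M (u * τ u) (y * τ y) := by
  obtain ⟨k, hk, -, e, -⟩ := h.exists_h hy hyA hyy
  exact Cl.symm ⟨k, hk, e⟩

/-- (4.7) -/
theorem y_U {y : G} (hy : y ∈ D) (hyA : y ∉ A) (hyy : y * y = 1) : Cl M u y := by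
  obtain ⟨k, hkM, hkt, hkz, hkS⟩ := h.exists_h hy hyA hyy
  have h1 : MulAut.conj k y ∈ h.T := h.invol_T (h.D_le hy) hyy (hkS y (h.DS hy) (by
    rw [mul_assoc, ← h.comm y hy y hy]))
  obtain ⟨a, ha, b, hb, e⟩ := h1
  have h2 : (a * τ b) * (a * τ b) = 1 := by rw [← e, ← map_mul, hyy, map_one]
  obtain ⟨haa, hbb⟩ := h.sq_of_prod ha hb h2
  have h3 : MulAut.conj k (τ y) = b * τ a := by
    rw [z_eq hkt, e, map_mul, h.ττ, h.comm b hb a ha]
  have h4 : (a * b) * τ (b * a) = u * τ u := by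
    rw [← hkz, map_mul (MulAut.conj k), e, h3, map_mul]
    calc a * b * (τ b * τ a) = a * (b * τ b) * τ a := by group
      _ = a * (τ b * b) * τ a := by rw [h.comm b hb b hb]
      _ = a * τ b * (b * τ a) := by group
  have h5 := (h.uniq (D.mul_mem ha hb) (D.mul_mem hb ha) h.uD h.uD h4).1
  have hai : a⁻¹ = a := inv_eq_of_mul_eq_one_left haa
  have hbu : b = a * u := by rw [← h5, ← mul_assoc, haa, one_mul]
  have hyc : Cl M y (a * τ (a * u)) := ⟨k, hkM, by rw [e, hbu]⟩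
  by_cases haA : a ∈ A
  · by_cases ha1 : a = 1
    · subst ha1
      rw [one_mul, one_mul] at hyc
      exact absurd hyc.symm (h.y_notV hy hyA hyy)
    · by_cases hau : a * u = 1
      · have : a = u := by rw [← inv_eq_of_mul_eq_one_right hau, hai]
        rw [hau, map_one, mul_one, this] at hyc
        exact hyc.symm
      · exfalso
        rw [hbu] at hbb
        exact h.y_notZ hy hyA hyy ((h.clZ haA haa ha1 (A.mul_mem haA h.uA) hbb hau).trans hyc.symm)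
  · exfalso
    obtain ⟨c, hc, e1⟩ := h.swap1 ha haA haa
    have h6 : MulAut.conj c (a * u) = a := by
      rw [h.u_cent ha, ← e1, conj_conj_inv]
    have h7 : Cl M (a * τ (a * u)) (a * τ a) := by
      refine ⟨τ c, h.τM (h.AM hc), ?_⟩
      rw [map_mul, conj_eq_self (h.comm a ha c (h.AD hc)).symm]
      congr 1
      have e2 : MulAut.conj (τ c) (τ (a * u)) = τ (MulAut.conj c (a * u)) := by
        simp only [MulAut.conj_apply]; group
      rw [e2, h6]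
    exact h.y_notZ hy hyA hyy ((h.ly_Z ha haA haa).trans (hyc.trans h7).symm)

/-! ### (4.8) -/

theorem yy_notU {y y' : G} (hy : y ∈ D) (hyy : y * y = 1) (hy' : y' ∈ D)
    (hyA' : y' ∉ A) (hyy' : y' * y' = 1) : ¬ Cl M u (y * τ y') := by
  intro hc
  obtain ⟨m₀, hm₀, e₀⟩ := hc.symm
  obtain ⟨m, hmM, hm, hmT⟩ := exists_ext h.sylM (fun s hs => h.T_u hs) hm₀ e₀
  have h1 : u ∈ ⁅A ⊓ centralizer {y'}, A ⊓ centralizer {y'}⁆ :=
    h.F.swap₂ y' hyy' (fun a ha => h.Dn hy' ha) (h.sw y' hy' hyA')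
  have h1' : τ u ∈ ⁅(A ⊓ centralizer {y'}).map (MulAut.conj t).toMonoidHom,
      (A ⊓ centralizer {y'}).map (MulAut.conj t).toMonoidHom⁆ := by
    rw [← map_commutator]
    exact ⟨u, h1, rfl⟩
  have h2 : MulAut.conj m (τ u) ∈ h.J := by
    refine h.conj_comm_mem ?_ ?_ hmT h1'
    · rintro _ ⟨s, hs, rfl⟩
      exact h.τD_mem (h.AD hs.1)
    · rintro _ ⟨s, hs, rfl⟩
      show τ s * (y * τ y') = y * τ y' * τ s
      have h3 := congrArg (MulAut.conj t) (mem_centralizer_singleton_iff.mp hs.2)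
      rw [map_mul, map_mul] at h3
      rw [← mul_assoc, ← h.comm y hy s (h.AD hs.1), mul_assoc, h3, mul_assoc]
  obtain ⟨b, hb, hbb, hb1, eb⟩ := h.J_V h2 ⟨m, hmM, rfl⟩
  obtain ⟨a, haA, e⟩ := h.swap1 hy' hyA' hyy'
  have h3 : Cl M u (y * τ y' * τ u) := by
    refine hc.trans ⟨τ a⁻¹, h.τM (M.inv_mem (h.AM haA)), ?_⟩
    rw [map_mul, conj_eq_self (h.comm y hy _ (D.inv_mem (h.AD haA))).symm, mul_assoc]
    congr 1
    have e2 : MulAut.conj (τ a⁻¹) (τ y') = τ (MulAut.conj a⁻¹ y') := by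
      simp only [MulAut.conj_apply]; group
    rw [e2, e, ← h.u_cent hy', map_mul]
  have h4 : MulAut.conj m (y * τ y' * τ u) = u * τ b := by
    rw [map_mul, hm, eb]
  have h5 : Cl M u (u * τ b) := h4 ▸ h3.trans ⟨m, hmM, rfl⟩
  exact h.not_clUZ h5 (h.clZ h.uA h.uu h.u1 hb hbb hb1)

/-- `u ^ M ∩ S₀ = I(D)` -/
theorem mem_D_of_clU {g : G} (hg : g ∈ h.T) (hc : Cl M u g) : g ∈ D := by
  have hgg := cl_sq h.uu hc
  obtain ⟨a, ha, b, hb, rfl⟩ := hg
  obtain ⟨haa, hbb⟩ := h.sq_of_prod ha hb hgg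
  by_cases hb1 : b = 1
  · rw [hb1, map_one, mul_one]; exact ha
  exfalso
  by_cases hbA : b ∈ A
  · by_cases haA : a ∈ A
    · by_cases ha1 : a = 1
      · rw [ha1, one_mul] at hc
        exact h.not_clUV hc (h.clV hbA hbb hb1)
      · exact h.not_clUZ hc (h.clZ haA haa ha1 hbA hbb hb1)
    · exact (h.yb_not ha haA haa hbA hbb hb1).1 hc
  · exact h.yy_notU ha haa hb hbA hbb hc

theorem clU_of_mem_D {a : G} (ha : a ∈ D) (haa : a * a = 1) (ha1 : a ≠ 1) : Cl M u a := by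
  by_cases haA : a ∈ A
  · exact h.clU haA haa ha1
  · exact h.y_U ha haA haa

end Hyp

end Cfsg.Agent.Wreath.DFour
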