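import Cfsg.Agent.Wreath.Common
import Cfsg.Agent.StdEven.Syl

/-!
# The end of the wreath pattern (S1739): involutions outside of `J` are not conjugate to `u`

`S⁰ = C_S(u)`; `FX M₁ x` means that `x` normalises `M₁`.
-/

set_option autoImplicit false
set_option linter.unusedSectionVars false

namespace Cfsg.Agent.Wreath.DOne

open Subgroup
open Cfsg.Agent.Wreath.AData (Facts)
open Cfsg.Agent.Wreath.End
open Cfsg.Agent.StdEven.Syl

variable {G : Type*} [Group G] {t u : G} {A M₁ M₂ : Subgroup G}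

/-- `x` normalises `F` -/
def FX (F : Subgroup G) (x : G) : Prop := ∀ m ∈ F, x * m * x⁻¹ ∈ F

section facts

variable (F : Facts A M₁ M₂ u)
include F

theorem finA : Finite A := Nat.finite_of_card_ne_zero (by rw [F.card]; norm_num)

/-- the image of `M₁` or `M₂` under an element normalising `A` -/
theorem image_cases {x : G} (hx : ∀ a ∈ A, x * a * x⁻¹ ∈ A) {N : Subgroup G} (hN : N = M₁ ∨ N = M₂) :
    (∀ m ∈ N, x * m * x⁻¹ ∈ M₁) ∨ (∀ m ∈ N, x * m * x⁻¹ ∈ M₂) := by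
  have hNA : N ≤ A := by rcases hN with rfl | rfl; exacts [F.le₁, F.le₂]
  have hNs : ∀ m ∈ N, m * m = 1 := by rcases hN with rfl | rfl; exacts [F.sq₁, F.sq₂]
  have hNc : Nat.card N = 16 := by rcases hN with rfl | rfl; exacts [F.card₁, F.card₂]
  have h1 : N.map (MulAut.conj x).toMonoidHom = M₁ ∨ N.map (MulAut.conj x).toMonoidHom = M₂ := by
    refine F.only _ ?_ ?_ ?_
    · rintro _ ⟨m, hm, rfl⟩
      exact hx m (hNA hm)
    · rintro _ ⟨m, hm, rfl⟩
      rw [← map_mul, hNs m hm, map_one]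
    · rw [← Nat.card_congr (N.equivMapOfInjective (MulAut.conj x).toMonoidHom (MulAut.conj x).injective).toEquiv, hNc]
  rcases h1 with h1 | h1
  · left; intro m hm; rw [← h1]; exact ⟨m, hm, rfl⟩
  · right; intro m hm; rw [← h1]; exact ⟨m, hm, rfl⟩

/-- not both `N ^ x ≤ M₁` and `N ^ x ≤ M₂` -/
theorem not_inf {x : G} {N : Subgroup G} (hN : N = M₁ ∨ N = M₂) (h1 : ∀ m ∈ N, x * m * x⁻¹ ∈ M₁)
    (h2 : ∀ m ∈ N, x * m * x⁻¹ ∈ M₂) : False := by
  have hNc : Nat.card N = 16 := by rcases hN with rfl | rfl; exacts [F.card₁, F.card₂]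
  have hle : N.map (MulAut.conj x).toMonoidHom ≤ M₁ ⊓ M₂ := by
    rintro _ ⟨m, hm, rfl⟩
    exact ⟨h1 m hm, h2 m hm⟩
  have : Finite (M₁ ⊓ M₂ : Subgroup G) := Nat.finite_of_card_ne_zero (by rw [F.cardV]; norm_num)
  have h3 := Subgroup.card_le_of_le hle
  rw [← Nat.card_congr (N.equivMapOfInjective (MulAut.conj x).toMonoidHom (MulAut.conj x).injective).toEquiv, hNc,
    F.cardV] at h3
  omega

/-- not both `M₁ ^ x` and `M₂ ^ x` are equal to `N` -/
theorem not_eq {x : G} {N : Subgroup G} (hN : N = M₁ ∨ N = M₂) (h1 : ∀ m ∈ M₁, x * m * x⁻¹ ∈ N)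
    (h2 : ∀ m ∈ M₂, x * m * x⁻¹ ∈ N) : False := by
  have hNc : Nat.card N = 16 := by rcases hN with rfl | rfl; exacts [F.card₁, F.card₂]
  have hfin : Finite N := Nat.finite_of_card_ne_zero (by rw [hNc]; norm_num)
  have e : ∀ K : Subgroup G, Nat.card K = 16 → (∀ m ∈ K, x * m * x⁻¹ ∈ N) →
      K.map (MulAut.conj x).toMonoidHom = N := by
    intro K hK hm
    apply Subgroup.eq_of_le_of_card_ge
    · rintro _ ⟨m, hm', rfl⟩
      exact hm m hm'
    · rw [← Nat.card_congr (K.equivMapOfInjective (MulAut.conj x).toMonoidHom (MulAut.conj x).injective).toEquiv, hK,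
        hNc]
  have h3 := (e M₁ F.card₁ h1).trans (e M₂ F.card₂ h2).symm
  exact F.ne (Subgroup.map_injective (MulAut.conj x).injective h3)

/-- an element normalising `A` fixes or swaps `M₁` and `M₂` -/
theorem conj_cases {x : G} (hx : ∀ a ∈ A, x * a * x⁻¹ ∈ A) :
    ((∀ m ∈ M₁, x * m * x⁻¹ ∈ M₁) ∧ (∀ m ∈ M₂, x * m * x⁻¹ ∈ M₂)) ∨
      ((∀ m ∈ M₁, x * m * x⁻¹ ∈ M₂) ∧ (∀ m ∈ M₂, x * m * x⁻¹ ∈ M₁)) := by
  rcases image_cases F hx (Or.inl rfl : M₁ = M₁ ∨ M₁ = M₂) with h1 | h1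
  · rcases image_cases F hx (Or.inr rfl : M₂ = M₁ ∨ M₂ = M₂) with h2 | h2
    · exact (not_eq F (Or.inl rfl) h1 h2).elim
    · exact Or.inl ⟨h1, h2⟩
  · rcases image_cases F hx (Or.inr rfl : M₂ = M₁ ∨ M₂ = M₂) with h2 | h2
    · exact Or.inr ⟨h1, h2⟩
    · exact (not_eq F (Or.inr rfl) h1 h2).elim

theorem swaps {x : G} (hx : ∀ a ∈ A, x * a * x⁻¹ ∈ A) (hF : ¬ FX M₁ x) : ∀ m ∈ M₁, x * m * x⁻¹ ∈ M₂ := by
  rcases conj_cases F hx with h1 | h1
  · exact (hF h1.1).elim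
  · exact h1.1

theorem FX_mul {x y : G} (hx : ∀ a ∈ A, x * a * x⁻¹ ∈ A) (hy : ∀ a ∈ A, y * a * y⁻¹ ∈ A) :
    FX M₁ (x * y) ↔ (FX M₁ x ↔ FX M₁ y) := by
  have e : ∀ m, x * y * m * (x * y)⁻¹ = x * (y * m * y⁻¹) * x⁻¹ := fun m => by group
  rcases conj_cases F hx with h1 | h1 <;> rcases conj_cases F hy with h2 | h2
  · have h3 : FX M₁ x := h1.1
    have h4 : FX M₁ y := h2.1
    have h5 : FX M₁ (x * y) := fun m hm => by rw [e]; exact h1.1 _ (h2.1 m hm)
    exact iff_of_true h5 (iff_of_true h3 h4)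
  · have h3 : FX M₁ x := h1.1
    have h4 : ¬ FX M₁ y := fun h => not_inf F (Or.inl rfl) h h2.1
    have h5 : ¬ FX M₁ (x * y) := fun h => not_inf F (Or.inl rfl) h (fun m hm => by rw [e]; exact h1.2 _ (h2.1 m hm))
    exact iff_of_false h5 (fun h => h4 (h.1 h3))
  · have h3 : ¬ FX M₁ x := fun h => not_inf F (Or.inl rfl) h h1.1
    have h4 : FX M₁ y := h2.1
    have h5 : ¬ FX M₁ (x * y) := fun h => not_inf F (Or.inl rfl) h (fun m hm => by rw [e]; exact h1.1 _ (h2.1 m hm))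
    exact iff_of_false h5 (fun h => h3 (h.2 h4))
  · have h3 : ¬ FX M₁ x := fun h => not_inf F (Or.inl rfl) h h1.1
    have h4 : ¬ FX M₁ y := fun h => not_inf F (Or.inl rfl) h h2.1
    have h5 : FX M₁ (x * y) := fun m hm => by rw [e]; exact h1.2 _ (h2.1 m hm)
    exact iff_of_true h5 (iff_of_false h3 h4)

theorem FX_one : FX M₁ (1 : G) := fun m hm => by rw [one_mul, inv_one, mul_one]; exact hm

end facts

theorem conj_inv_mem [Finite G] {X : Subgroup G} {x : G} (hx : ∀ a ∈ X, x * a * x⁻¹ ∈ X) :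
    ∀ a ∈ X, x⁻¹ * a * x⁻¹⁻¹ ∈ X := by
  intro a ha
  rw [inv_inv]
  exact conj_inv_mem_of_mem_normalizer (mem_normalizer_of_conj_le hx) ha

theorem FX_inv [Finite G] (F : Facts A M₁ M₂ u) {x : G} (hx : ∀ a ∈ A, x * a * x⁻¹ ∈ A) : FX M₁ x⁻¹ ↔ FX M₁ x := by
  have h1 := FX_mul F hx (conj_inv_mem hx)
  rw [mul_inv_cancel] at h1
  exact (h1.1 (FX_one F)).symm

theorem conj_mul_mem {X : Subgroup G} {x y : G} (hx : ∀ a ∈ X, x * a * x⁻¹ ∈ X) (hy : ∀ a ∈ X, y * a * y⁻¹ ∈ X) :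
    ∀ a ∈ X, (x * y) * a * (x * y)⁻¹ ∈ X := by
  intro a ha
  have : (x * y) * a * (x * y)⁻¹ = x * (y * a * y⁻¹) * x⁻¹ := by group
  rw [this]; exact hx _ (hy a ha)

/-! involutions of `J` -/
section J

variable (h : Inp t u A M₁ M₂)
include h

theorem conj_left {a b : G} (hb : b ∈ A) {k : G} (hk : ∀ b ∈ A, k * (t * b * t) = (t * b * t) * k) :
    k * pr t a b * k⁻¹ = pr t (k * a * k⁻¹) b := by
  unfold pr
  calc k * (a * (t * b * t)) * k⁻¹ = k * a * ((t * b * t) * k⁻¹) := by group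
    _ = k * a * (k⁻¹ * (k * (t * b * t)) * k⁻¹) := by group
    _ = k * a * (k⁻¹ * ((t * b * t) * k) * k⁻¹) := by rw [hk b hb]
    _ = _ := by group

/-- an involution of `A` is conjugate to `u` -/
theorem conj_u_left {a : G} (ha : a ∈ A) (haa : a * a = 1) (h1 : a ≠ 1) : ∃ k : G, k * pr t a 1 * k⁻¹ = u := by
  obtain ⟨k, hk, hka, -⟩ := h.w5 a ha haa h1
  exact ⟨k, by rw [conj_left h A.one_mem hk, hka, h.pr_one_right]⟩

theorem conj_u_right {b : G} (hb : b ∈ A) (hbb : b * b = 1) (h1 : b ≠ 1) : ∃ k : G, k * pr t 1 b * k⁻¹ = u := by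
  obtain ⟨k, hk⟩ := conj_u_left h hb hbb h1
  refine ⟨k * t, ?_⟩
  rw [← hk, ← h.pr_swap A.one_mem hb, mul_inv_rev, h.t_inv]
  group

theorem conj_z {a b : G} (ha : a ∈ A) (hb : b ∈ A) (haa : a * a = 1) (hbb : b * b = 1) (ha1 : a ≠ 1) (hb1 : b ≠ 1) :
    ∃ k : G, k * pr t a b * k⁻¹ = u * (t * u * t) := by
  obtain ⟨k, hk, hka, -⟩ := h.w5 a ha haa ha1
  obtain ⟨l, hl, hlb, -⟩ := h.w5 b hb hbb hb1
  have h1 : k * pr t a b * k⁻¹ = pr t u b := by rw [conj_left h hb hk, hka]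
  have h2 : l * pr t b u * l⁻¹ = pr t u u := by rw [conj_left h h.u_mem_A hl, hlb]
  refine ⟨t * l * t * k, ?_⟩
  have e : t * l * t * k * pr t a b * (t * l * t * k)⁻¹ = t * (l * (t * (k * pr t a b * k⁻¹) * t⁻¹) * l⁻¹) * t⁻¹ := by
    group
  rw [e, h1, h.t_inv, h.pr_swap h.u_mem_A hb, h2, h.pr_swap h.u_mem_A h.u_mem_A]
  rfl

theorem pr_sq {a b : G} (ha : a ∈ A) (hb : b ∈ A) (he : pr t a b * pr t a b = 1) : a * a = 1 ∧ b * b = 1 := by
  rw [h.pr_mul ha hb ha hb] at he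
  exact h.pr_eq_one (A.mul_mem ha ha) (A.mul_mem hb hb) he

end J

section common

variable {h : Inp t u A M₁ M₂} {S : Subgroup G} (c : Common h S)
include c

/-- an element conjugate to `u` with both components nontrivial does not exist -/
theorem not_u_pr {a b : G} (ha : a ∈ A) (hb : b ∈ A) (haa : a * a = 1) (hbb : b * b = 1) (ha1 : a ≠ 1) (hb1 : b ≠ 1)
    {g : G} (hg : g * pr t a b * g⁻¹ = u) : False := by
  obtain ⟨k, hk⟩ := conj_z h ha hb haa hbb ha1 hb1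
  apply c.uz (k * g⁻¹)
  rw [← hk, ← hg]
  group

/-- an element conjugate to `z` with a trivial component does not exist -/
theorem not_z_left {a : G} (ha : a ∈ A) (haa : a * a = 1) {g : G} (hg : g * pr t a 1 * g⁻¹ = u * (t * u * t)) :
    False := by
  by_cases ha1 : a = 1
  · subst ha1
    rw [h.pr_one_one, mul_one, mul_inv_cancel] at hg
    have h1 : pr t u u = 1 := hg.symm
    exact h.facts.u_ne (h.pr_eq_one h.u_mem_A h.u_mem_A h1).1
  · obtain ⟨k, hk⟩ := conj_u_left h ha haa ha1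
    apply c.uz (g * k⁻¹)
    rw [← hg, ← hk]
    group

theorem not_z_right {b : G} (hb : b ∈ A) (hbb : b * b = 1) {g : G} (hg : g * pr t 1 b * g⁻¹ = u * (t * u * t)) :
    False := by
  by_cases hb1 : b = 1
  · subst hb1
    exact not_z_left c A.one_mem (one_mul 1) hg
  · obtain ⟨k, hk⟩ := conj_u_right h hb hbb hb1
    apply c.uz (g * k⁻¹)
    rw [← hg, ← hk]
    group

/-- an involution of `J` is conjugate to `u` or to `z` -/
theorem inv_J {y : G} (hy : y ∈ h.J) (hyy : y * y = 1) (hy1 : y ≠ 1) :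
    (∃ g : G, g * y * g⁻¹ = u) ∨ ∃ g : G, g * y * g⁻¹ = u * (t * u * t) := by
  obtain ⟨a, ha, b, hb, rfl⟩ := h.mem_J.1 hy
  obtain ⟨haa, hbb⟩ := pr_sq h ha hb hyy
  by_cases ha1 : a = 1
  · subst ha1
    have hb1 : b ≠ 1 := by rintro rfl; exact hy1 h.pr_one_one
    exact Or.inl (conj_u_right h hb hbb hb1)
  · by_cases hb1 : b = 1
    · subst hb1
      exact Or.inl (conj_u_left h ha haa ha1)
    · exact Or.inr (conj_z h ha hb haa hbb ha1 hb1)

end common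

/-- `S⁰ = C_S(u)` -/
def S0 (S : Subgroup G) (u : G) : Subgroup G := S ⊓ centralizer {u}

theorem mem_S0 {S : Subgroup G} {u x : G} : x ∈ S0 S u ↔ x ∈ S ∧ x * u = u * x := by
  unfold S0; rw [mem_inf, mem_centralizer_singleton_iff]

theorem conj_eq_iff {x y : G} : x * y * x⁻¹ = y ↔ x * y = y * x := mul_inv_eq_iff_eq_mul

section common

variable {h : Inp t u A M₁ M₂} {S : Subgroup G} (c : Common h S)
include c

theorem u_ne_v : u ≠ t * u * t := by
  intro e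
  have h1 : pr t u 1 = pr t 1 u := by rw [h.pr_one_right, h.pr_one_left]; exact e
  exact h.facts.u_ne (h.pr_inj h.u_mem_A A.one_mem A.one_mem h.u_mem_A h1).1

theorem z_ne : u * (t * u * t) ≠ 1 := by
  intro e
  have h1 : pr t u u = 1 := e
  exact h.facts.u_ne (h.pr_eq_one h.u_mem_A h.u_mem_A h1).1

theorem v_sq : (t * u * t) * (t * u * t) = 1 := by
  rw [← h.cj_mul, h.u_sq, mul_one, h.t_sq]

theorem u_v : u * (t * u * t) = (t * u * t) * u := h.comm u h.u_mem_A u h.u_mem_A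

theorem z_sq : u * (t * u * t) * (u * (t * u * t)) = 1 := by
  calc u * (t * u * t) * (u * (t * u * t)) = u * ((t * u * t) * u) * (t * u * t) := by group
    _ = u * (u * (t * u * t)) * (t * u * t) := by rw [u_v c]
    _ = (u * u) * ((t * u * t) * (t * u * t)) := by group
    _ = 1 := by rw [h.u_sq, v_sq c, one_mul]

theorem J_u {x : G} (hx : x ∈ h.J) : x * u = u * x := by
  obtain ⟨a, ha, b, hb, rfl⟩ := h.mem_J.1 hx
  have h1 : pr t a b * pr t u 1 = pr t u 1 * pr t a b := by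
    rw [h.pr_mul ha hb h.u_mem_A A.one_mem, h.pr_mul h.u_mem_A A.one_mem ha hb, h.facts.u_cent a ha, mul_one, one_mul]
  rwa [h.pr_one_right] at h1

theorem J_le_S0 : h.J ≤ S0 S u := fun _ hx => mem_S0.2 ⟨c.JS hx, J_u c hx⟩

theorem conj_v (x : G) : x * (t * u * t) * x⁻¹ = x * t * u * (x * t)⁻¹ := by
  rw [mul_inv_rev, h.t_inv]; group

theorem mul_t_mem {x : G} (hx : x ∈ S) (hx0 : x ∉ S0 S u) : x * t ∈ S0 S u := by
  rw [mem_S0] at hx0 ⊢
  have h1 : x * u * x⁻¹ = t * u * t := by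
    rcases c.uv x hx with h1 | h1
    · exact (hx0 ⟨hx, conj_eq_iff.1 h1⟩).elim
    · exact h1
  refine ⟨S.mul_mem hx c.tS, ?_⟩
  rcases c.uv (x * t) (S.mul_mem hx c.tS) with h2 | h2
  · exact conj_eq_iff.1 h2
  · exfalso
    have h3 : x * (t * u * t) * x⁻¹ = t * u * t := (conj_v c x).trans h2
    apply u_ne_v c
    have h4 := h1.trans h3.symm
    exact mul_left_cancel (mul_right_cancel h4)

theorem t_notMem : t ∉ S0 S u := by
  intro ht
  have h1 := (mem_S0.1 ht).2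
  apply u_ne_v c
  rw [h1, mul_assoc, h.t_sq, mul_one]

/-- elements of `S⁰` centralise `v` -/
theorem S0_v {x : G} (hx : x ∈ S0 S u) : x * (t * u * t) = (t * u * t) * x := by
  obtain ⟨hxS, hxu⟩ := mem_S0.1 hx
  have h0 := conj_eq_iff.2 hxu
  rcases c.uv (x * t) (S.mul_mem hxS c.tS) with h2 | h2
  · exfalso
    have h3 : x * (t * u * t) * x⁻¹ = u := (conj_v c x).trans h2
    have h4 := h3.trans h0.symm
    exact u_ne_v c (mul_left_cancel (mul_right_cancel h4)).symm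
  · have h3 : x * (t * u * t) * x⁻¹ = t * u * t := (conj_v c x).trans h2
    exact conj_eq_iff.1 h3

theorem cj_mem {x : G} (hx : x ∈ S0 S u) : t * x * t ∈ S0 S u := by
  have h1 := S0_v c hx
  rw [mem_S0] at hx ⊢
  refine ⟨S.mul_mem (S.mul_mem c.tS hx.1) c.tS, ?_⟩
  calc t * x * t * u = t * (x * (t * u * t)) * t := by
        rw [show t * (x * (t * u * t)) * t = t * x * t * u * (t * t) by group, h.t_sq, mul_one]
    _ = t * ((t * u * t) * x) * t := by rw [h1]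
    _ = (t * t) * u * (t * x * t) := by group
    _ = u * (t * x * t) := by rw [h.t_sq, one_mul]

theorem S0_A {x : G} (hx : x ∈ S0 S u) : ∀ a ∈ A, x * a * x⁻¹ ∈ A :=
  c.nA x (mem_S0.1 hx).1 (conj_eq_iff.2 (mem_S0.1 hx).2)

theorem J_FX {x : G} (hx : x ∈ h.J) : FX M₁ x := by
  obtain ⟨a, ha, b, hb, rfl⟩ := h.mem_J.1 hx
  intro m hm
  have hmA := h.facts.le₁ hm
  have h1 := h.pr_conj ha hb hmA A.one_mem
  rw [mul_one, mul_inv_cancel, h.pr_one_right, h.pr_one_right] at h1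
  rw [h1]
  exact h.facts.norm₁ a ha m hm

theorem cj_J {x : G} (hx : x ∈ h.J) : t * x * t ∈ h.J := by
  obtain ⟨a, ha, b, hb, rfl⟩ := h.mem_J.1 hx
  rw [h.pr_swap ha hb]
  exact h.pr_mem_J hb ha

/-- the elements of `J` among those of `S⁰` -/
theorem mem_J_iff {x : G} (hx : x ∈ S0 S u) : x ∈ h.J ↔ FX M₁ x ∧ FX M₁ (t * x * t) := by
  constructor
  · intro hJ
    exact ⟨J_FX c hJ, J_FX c (cj_J c hJ)⟩
  · rintro ⟨h1, h2⟩
    refine c.reg x (mem_S0.1 hx).1 (conj_eq_iff.2 (mem_S0.1 hx).2) h1 ?_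
    intro m hm
    refine ⟨_, h2 m hm, ?_⟩
    rw [mul_inv_rev, mul_inv_rev, h.t_inv]
    calc x * (t * m * t) * x⁻¹ = (t * t) * (x * (t * m * t) * x⁻¹) * (t * t) := by rw [h.t_sq, one_mul, mul_one]
      _ = t * (t * x * t * m * (t * (x⁻¹ * t))) * t := by group

variable [Finite G]

/-- `S⁰ / J` is abelian -/
theorem comm_mem_J {x y : G} (hx : x ∈ S0 S u) (hy : y ∈ S0 S u) : x * y * x⁻¹ * y⁻¹ ∈ h.J := by
  have key : ∀ x' ∈ S0 S u, ∀ y' ∈ S0 S u, FX M₁ (x' * y' * x'⁻¹ * y'⁻¹) := by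
    intro x' hx' y' hy'
    have a1 := S0_A c hx'
    have a2 := S0_A c hy'
    have a3 := S0_A c (inv_mem hx')
    have a4 := S0_A c (inv_mem hy')
    have a5 := S0_A c (mul_mem hx' hy')
    have a6 := S0_A c (mul_mem (mul_mem hx' hy') (inv_mem hx'))
    rw [FX_mul h.facts a6 a4, FX_mul h.facts a5 a3, FX_mul h.facts a1 a2, FX_inv h.facts a1, FX_inv h.facts a2]
    tauto
  have hxy : x * y * x⁻¹ * y⁻¹ ∈ S0 S u := mul_mem (mul_mem (mul_mem hx hy) (inv_mem hx)) (inv_mem hy)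
  rw [mem_J_iff c hxy]
  refine ⟨key x hx y hy, ?_⟩
  have h1 := key _ (cj_mem c hx) _ (cj_mem c hy)
  rw [← h.cj_inv, ← h.cj_inv, ← h.cj_mul, ← h.cj_mul, ← h.cj_mul] at h1
  exact h1

theorem commutator_le_J : ⁅S0 S u, S0 S u⁆ ≤ h.J := by
  rw [commutator_le]
  intro x hx y hy
  rw [commutatorElement_def]
  exact comm_mem_J c hx hy

theorem sq_mem_J {x : G} (hx : x ∈ S0 S u) : x * x ∈ h.J := by
  have hxx : x * x ∈ S0 S u := mul_mem hx hx
  rw [mem_J_iff c hxx]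
  refine ⟨(FX_mul h.facts (S0_A c hx) (S0_A c hx)).2 Iff.rfl, ?_⟩
  rw [h.cj_mul]
  exact (FX_mul h.facts (S0_A c (cj_mem c hx)) (S0_A c (cj_mem c hx))).2 Iff.rfl

/-- `S⁰` is a Sylow 2-subgroup of `C_G(u)` -/
theorem isSyl_u : IsSyl (S0 S u) (centralizer {u}) := by
  refine ⟨inf_le_right, c.pS.to_le inf_le_left, fun X hX hle hSX => le_antisymm (fun x hx => ?_) hSX⟩
  refine mem_inf.2 ⟨c.maxu X hX (fun y hy => mem_centralizer_singleton_iff.1 (hle hy)) (fun y hy hyu =>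
    hSX (mem_S0.2 ⟨hy, hyu⟩)) x hx, hle hx⟩

theorem isSyl_top : IsSyl S ⊤ := ⟨le_top, c.pS, fun X hX _ hSX => c.max X hX hSX⟩

theorem S_z {x : G} (hx : x ∈ S) : x * (u * (t * u * t)) = (u * (t * u * t)) * x := by
  have key : ∀ y ∈ S0 S u, y * (u * (t * u * t)) = (u * (t * u * t)) * y := by
    intro y hy
    rw [← mul_assoc, (mem_S0.1 hy).2, mul_assoc, S0_v c hy, ← mul_assoc]
  by_cases hx0 : x ∈ S0 S u
  · exact key x hx0
  · have h1 := key _ (mul_t_mem c hx hx0)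
    have h2 : t * (u * (t * u * t)) = (u * (t * u * t)) * t := by
      have h3 : t * (u * (t * u * t)) * t = u * (t * u * t) := by
        rw [h.cj_mul, h.cj_cj, ← u_v c]
      calc t * (u * (t * u * t)) = t * (u * (t * u * t)) * (t * t) := by rw [h.t_sq, mul_one]
        _ = (t * (u * (t * u * t)) * t) * t := by group
        _ = _ := by rw [h3]
    have h3 : x * t * (u * (t * u * t)) = x * (u * (t * u * t)) * t := by rw [mul_assoc, h2, ← mul_assoc]
    have h4 : x * (u * (t * u * t)) * t = u * (t * u * t) * x * t := by rw [← h3, h1, ← mul_assoc]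
    exact mul_right_cancel h4

theorem isSyl_z : IsSyl S (centralizer {u * (t * u * t)}) :=
  (isSyl_top c).mono (fun _ hx => mem_centralizer_singleton_iff.2 (S_z c hx)) le_top

omit c in
/-- extremal conjugation onto an element `d`, `T` a Sylow 2-subgroup of `C_G(d)` -/
theorem ext_gen {T : Subgroup G} {d : G} (hT : IsSyl T (centralizer {d})) {R : Subgroup G} (hR : IsPGroup 2 R)
    {y g : G} (hRy : ∀ x ∈ R, x * y = y * x) (hg : g * y * g⁻¹ = d) :
    ∃ k : G, k * y * k⁻¹ = d ∧ ∀ x ∈ R, k * x * k⁻¹ ∈ T := by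
  have h2 : R.map (MulAut.conj g).toMonoidHom ≤ centralizer {d} := by
    rintro _ ⟨s, hs, rfl⟩
    show g * s * g⁻¹ ∈ centralizer {d}
    rw [mem_centralizer_singleton_iff, ← hg]
    calc g * s * g⁻¹ * (g * y * g⁻¹) = g * (s * y) * g⁻¹ := by group
      _ = g * (y * s) * g⁻¹ := by rw [hRy s hs]
      _ = _ := by group
  obtain ⟨n, hn, hc⟩ := hT.exists_conj (hR.map _) h2
  refine ⟨n * g, ?_, fun x hx => ?_⟩
  · have h3 : n * g * y * (n * g)⁻¹ = n * (g * y * g⁻¹) * n⁻¹ := by group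
    rw [h3, hg]
    exact conj_eq_iff.2 (mem_centralizer_singleton_iff.1 hn)
  · have h4 := hc _ ⟨x, hx, rfl⟩
    have h3 : n * g * x * (n * g)⁻¹ = n * (g * x * g⁻¹) * n⁻¹ := by group
    rw [h3]
    exact h4

theorem ext_u {y g : G} (hg : g * y * g⁻¹ = u) :
    ∃ k : G, k * y * k⁻¹ = u ∧ ∀ x ∈ S ⊓ centralizer {y}, k * x * k⁻¹ ∈ S0 S u :=
  ext_gen (isSyl_u c) (c.pS.to_le inf_le_left) (fun _ hx => mem_centralizer_singleton_iff.1 hx.2) hg

theorem ext_z {y g : G} (hg : g * y * g⁻¹ = u * (t * u * t)) :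
    ∃ k : G, k * y * k⁻¹ = u * (t * u * t) ∧ ∀ x ∈ S ⊓ centralizer {y}, k * x * k⁻¹ ∈ S :=
  ext_gen (isSyl_z c) (c.pS.to_le inf_le_left) (fun _ hx => mem_centralizer_singleton_iff.1 hx.2) hg

/-- the components of the conjugates of `u` in `J` -/
theorem comp_u {a b : G} (ha : a ∈ A) (hb : b ∈ A) {g : G} (hg : g * pr t a b * g⁻¹ = u) :
    a * a = 1 ∧ b * b = 1 ∧ (a = 1 ∨ b = 1) := by
  have h1 : pr t a b * pr t a b = 1 := by
    have h2 : g * (pr t a b * pr t a b) * g⁻¹ = 1 := by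
      calc g * (pr t a b * pr t a b) * g⁻¹ = (g * pr t a b * g⁻¹) * (g * pr t a b * g⁻¹) := by group
        _ = 1 := by rw [hg, h.u_sq]
    have h3 := conj_eq_one_iff.1 h2
    exact h3
  obtain ⟨haa, hbb⟩ := pr_sq h ha hb h1
  refine ⟨haa, hbb, ?_⟩
  by_contra hne
  push Not at hne
  exact not_u_pr c ha hb haa hbb hne.1 hne.2 hg

/-- **(i)**: an involution of `S⁰` swapping `M₁` and `M₂`, and `M₁ᵗ` and `M₂ᵗ`, is not conjugate to `u` -/
theorem inner {y : G} (hy : y ∈ S0 S u) (hyy : y * y = 1) (h1 : ¬ FX M₁ y) (h2 : ¬ FX M₁ (t * y * t)) (g : G) :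
    g * y * g⁻¹ ≠ u := by
  intro hg
  obtain ⟨k, hk, hkS⟩ := ext_u c hg
  have F := h.facts
  set y' := t * y * t with hy'
  have hy'' : y' ∈ S0 S u := cj_mem c hy
  have hyy' : y' * y' = 1 := by rw [hy', ← h.cj_mul, hyy, mul_one, h.t_sq]
  -- the conjugates of `u` and `v`
  have com : ∀ x ∈ ⁅(S ⊓ centralizer {y} : Subgroup G), (S ⊓ centralizer {y} : Subgroup G)⁆, k * x * k⁻¹ ∈ h.J := by
    intro x hx
    have h3 : (⁅(S ⊓ centralizer {y} : Subgroup G), (S ⊓ centralizer {y} : Subgroup G)⁆).map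
        (MulAut.conj k).toMonoidHom ≤ ⁅S0 S u, S0 S u⁆ := by
      rw [map_commutator]
      exact commutator_mono (by rintro _ ⟨x, hx, rfl⟩; exact hkS x hx) (by rintro _ ⟨x, hx, rfl⟩; exact hkS x hx)
    exact commutator_le_J c (h3 ⟨x, hx, rfl⟩)
  have hu : k * u * k⁻¹ ∈ h.J := by
    apply com
    refine commutator_mono ?_ ?_ (F.swap₂ y hyy (S0_A c hy) (swaps F (S0_A c hy) h1)) <;>
    exact inf_le_inf_right _ (h.A_le_J.trans c.JS)
  have hv : k * (t * u * t) * k⁻¹ ∈ h.J := by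
    apply com
    have h3 := F.swap₂ y' hyy' (S0_A c hy'') (swaps F (S0_A c hy'') h2)
    have h4 : (A ⊓ centralizer {y'}).map (MulAut.conj t).toMonoidHom ≤ S ⊓ centralizer {y} := by
      rintro _ ⟨a, ⟨ha, hay⟩, rfl⟩
      have hay' := mem_centralizer_singleton_iff.1 hay
      show t * a * t⁻¹ ∈ _
      rw [h.t_inv]
      refine ⟨S.mul_mem (S.mul_mem c.tS (c.JS (h.A_le_J ha))) c.tS, ?_⟩
      show t * a * t ∈ centralizer {y}
      rw [mem_centralizer_singleton_iff]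
      have h5 := congrArg (fun x => t * x * t) hay'
      simp only [h.cj_mul] at h5
      rwa [hy', h.cj_cj] at h5
    have h5 : MulAut.conj t u ∈ (⁅A ⊓ centralizer {y'}, A ⊓ centralizer {y'}⁆).map (MulAut.conj t).toMonoidHom :=
      ⟨u, h3, rfl⟩
    rw [map_commutator] at h5
    have h6 := commutator_mono h4 h4 h5
    rwa [MulAut.conj_apply, h.t_inv] at h6
  -- `y` is conjugate to `yu` and `yv`
  obtain ⟨a₁, ha₁, e₁⟩ := F.swap₁ y hyy (S0_A c hy) (swaps F (S0_A c hy) h1)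
  obtain ⟨a₂, ha₂, e₂⟩ := F.swap₁ y' hyy' (S0_A c hy'') (swaps F (S0_A c hy'') h2)
  have hyi : y⁻¹ = y := inv_eq_of_mul_eq_one_left hyy
  have hyi' : y'⁻¹ = y' := inv_eq_of_mul_eq_one_left hyy'
  have c1 : a₁⁻¹ * y * a₁ = u * y := by
    calc a₁⁻¹ * y * a₁ = a₁⁻¹ * (y * a₁ * y⁻¹) * y := by group
      _ = a₁⁻¹ * (a₁ * u) * y := by rw [e₁]
      _ = u * y := by group
  have c2 : a₂⁻¹ * y' * a₂ = u * y' := by
    calc a₂⁻¹ * y' * a₂ = a₂⁻¹ * (y' * a₂ * y'⁻¹) * y' := by group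
      _ = a₂⁻¹ * (a₂ * u) * y' := by rw [e₂]
      _ = u * y' := by group
  have c3 : (t * a₂ * t)⁻¹ * y * (t * a₂ * t) = (t * u * t) * y := by
    have h5 : t * (a₂⁻¹ * y' * a₂) * t = t * (u * y') * t := by rw [c2]
    rw [h.cj_mul (a₂⁻¹ * y') a₂, h.cj_mul a₂⁻¹ y', h.cj_inv, h.cj_mul u y', show t * y' * t = y from h.cj_cj y] at h5
    exact h5
  obtain ⟨a, ha, b, hb, hab⟩ := h.mem_J.1 hu
  obtain ⟨a', ha', b', hb', hab'⟩ := h.mem_J.1 hv
  obtain ⟨haa, hbb, hor⟩ := comp_u c ha hb (g := k⁻¹) (by rw [← hab]; group)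
  obtain ⟨haa', hbb', hor'⟩ := comp_u c ha' hb' (g := t * k⁻¹) (by
    rw [← hab', mul_inv_rev, inv_inv, h.t_inv]
    calc t * k⁻¹ * (k * (t * u * t) * k⁻¹) * (k * t) = (t * t) * u * (t * t) := by group
      _ = u := by rw [h.t_sq, one_mul, mul_one])
  -- the conjugate of `z`
  have hz : pr t (a * a') (b * b') = k * (u * (t * u * t)) * k⁻¹ := by
    rw [← h.pr_mul ha hb ha' hb', ← hab, ← hab']; group
  have hzz : (a * a') * (a * a') = 1 ∧ (b * b') * (b * b') = 1 := by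
    apply pr_sq h (A.mul_mem ha ha') (A.mul_mem hb hb')
    rw [hz]
    calc k * (u * (t * u * t)) * k⁻¹ * (k * (u * (t * u * t)) * k⁻¹) = k * (u * (t * u * t) * (u * (t * u * t))) * k⁻¹ := by
          group
      _ = 1 := by rw [z_sq c]; group
  have hz' : k⁻¹ * pr t (a * a') (b * b') * k⁻¹⁻¹ = u * (t * u * t) := by rw [hz]; group
  have n1 : a * a' ≠ 1 := fun e => by
    rw [e] at hz'
    exact not_z_right c (A.mul_mem hb hb') hzz.2 hz'
  have n2 : b * b' ≠ 1 := fun e => by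
    rw [e] at hz'
    exact not_z_left c (A.mul_mem ha ha') hzz.1 hz'
  -- an element `u * (1, b)` conjugate to `u`
  have key : ∀ d ∈ A, d * d = 1 → d ≠ 1 → ∀ g : G, g * (u * pr t 1 d) * g⁻¹ ≠ u := by
    intro d hd hdd hd1 g hg
    have e : u * pr t 1 d = pr t u d := by
      conv_lhs => rw [← h.pr_one_right u]
      rw [h.pr_mul h.u_mem_A A.one_mem A.one_mem hd, mul_one, one_mul]
    rw [e] at hg
    exact not_u_pr c h.u_mem_A hd h.u_sq hdd h.facts.u_ne hd1 hg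
  have ku : ∃ g : G, g * (u * (k * u * k⁻¹)) * g⁻¹ = u := by
    refine ⟨k * a₁ * k⁻¹, ?_⟩
    have e : u * (k * u * k⁻¹) = k * (u * y) * k⁻¹ := by
      have h7 : u * y = y * u := by rw [(mem_S0.1 hy).2]
      rw [h7]
      nth_rewrite 1 [← hk]
      group
    rw [e, ← c1]
    calc k * a₁ * k⁻¹ * (k * (a₁⁻¹ * y * a₁) * k⁻¹) * (k * a₁ * k⁻¹)⁻¹ = k * y * k⁻¹ := by group
      _ = u := hk
  have kv : ∃ g : G, g * (u * (k * (t * u * t) * k⁻¹)) * g⁻¹ = u := by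
    refine ⟨k * (t * a₂ * t) * k⁻¹, ?_⟩
    have e : u * (k * (t * u * t) * k⁻¹) = k * ((t * u * t) * y) * k⁻¹ := by
      have h7 : (t * u * t) * y = y * (t * u * t) := by rw [S0_v c hy]
      rw [h7]
      nth_rewrite 1 [← hk]
      group
    rw [e, ← c3]
    generalize t * a₂ * t = d
    calc k * d * k⁻¹ * (k * (d⁻¹ * y * d) * k⁻¹) * (k * d * k⁻¹)⁻¹ = k * y * k⁻¹ := by group
      _ = u := hk
  rcases hor with rfl | rfl
  · obtain ⟨g', hg'⟩ := ku
    rw [hab] at hg'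
    have hb1 : b ≠ 1 := by
      rintro rfl
      rcases hor' with rfl | rfl
      · exact n1 (one_mul 1)
      · exact n2 (one_mul 1)
    exact key b hb hbb hb1 g' hg'
  · rcases hor' with rfl | rfl
    · obtain ⟨g', hg'⟩ := kv
      rw [hab'] at hg'
      have hb1 : b' ≠ 1 := by rintro rfl; exact n2 (one_mul 1)
      exact key b' hb' hbb' hb1 g' hg'
    · exact n2 (one_mul 1)

omit [Finite G] in
/-- elements outside of `S⁰` swap `A` and `B` -/
theorem outer_A {y : G} (hy : y ∈ S) (hy0 : y ∉ S0 S u) {a : G} (ha : a ∈ A) : ∃ b ∈ A, y * a * y⁻¹ = t * b * t := by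
  have hs := mem_S0.1 (mul_t_mem c hy hy0)
  obtain ⟨b, hb, e⟩ := c.nB _ hs.1 (conj_eq_iff.2 hs.2) a ha
  refine ⟨b, hb, ?_⟩
  rw [← e, mul_inv_rev, h.t_inv]
  calc y * a * y⁻¹ = y * 1 * a * 1 * y⁻¹ := by group
    _ = y * (t * t) * a * (t * t) * y⁻¹ := by rw [h.t_sq]
    _ = _ := by group

omit [Finite G] in
theorem V_le_comm {x : G} (hx : x ∈ M₁ ⊓ M₂) : x ∈ ⁅A, A⁆ := by
  rw [← h.facts.comV] at hx
  exact commutator_mono h.P_le h.P_le hx

omit [Finite G] in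
/-- `a * y a y⁻¹` is a commutator in `C_S(y)` for `a ∈ A'` -/
theorem delta_comm {y : G} (hy : y ∈ S) (hyy : y * y = 1) (hy0 : y ∉ S0 S u) {x : G} (hx : x ∈ ⁅A, A⁆) :
    x * (y * x * y⁻¹) ∈ ⁅(S ⊓ centralizer {y} : Subgroup G), (S ⊓ centralizer {y} : Subgroup G)⁆ := by
  have hyi : y⁻¹ = y := inv_eq_of_mul_eq_one_left hyy
  have hco : ∀ a ∈ A, ∀ a' ∈ A, (y * a * y⁻¹) * a' = a' * (y * a * y⁻¹) := by
    intro a ha a' ha'
    obtain ⟨b, hb, e⟩ := outer_A c hy hy0 ha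
    rw [e, h.comm a' ha' b hb]
  let D : A →* G :=
    { toFun := fun a => (a : G) * (y * (a : G) * y⁻¹)
      map_one' := by rw [OneMemClass.coe_one]; group
      map_mul' := by
        rintro ⟨a, ha⟩ ⟨b, hb⟩
        show a * b * (y * (a * b) * y⁻¹) = a * (y * a * y⁻¹) * (b * (y * b * y⁻¹))
        calc a * b * (y * (a * b) * y⁻¹) = a * (b * (y * a * y⁻¹)) * (y * b * y⁻¹) := by group
          _ = a * ((y * a * y⁻¹) * b) * (y * b * y⁻¹) := by rw [hco a ha b hb]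
          _ = _ := by group }
  have hD : (⊤ : Subgroup A).map D ≤ S ⊓ centralizer {y} := by
    rintro _ ⟨⟨a, ha⟩, -, rfl⟩
    show a * (y * a * y⁻¹) ∈ _
    have haS : a ∈ S := c.JS (h.A_le_J ha)
    refine ⟨S.mul_mem haS (S.mul_mem (S.mul_mem hy haS) (S.inv_mem hy)), ?_⟩
    show a * (y * a * y⁻¹) ∈ centralizer {y}
    rw [mem_centralizer_singleton_iff]
    calc a * (y * a * y⁻¹) * y = a * (y * a) := by group
      _ = y * ((y⁻¹ * a * y⁻¹⁻¹) * a) := by group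
      _ = y * ((y * a * y⁻¹) * a) := by simp only [hyi]
      _ = y * (a * (y * a * y⁻¹)) := by rw [hco a ha a ha]
  have h1 : x ∈ (⁅(⊤ : Subgroup A), (⊤ : Subgroup A)⁆).map A.subtype := by
    rw [map_commutator, ← MonoidHom.range_eq_map, A.range_subtype]
    exact hx
  obtain ⟨x', hx', rfl⟩ := h1
  have h2 : D x' ∈ (⁅(⊤ : Subgroup A), (⊤ : Subgroup A)⁆).map D := ⟨x', hx', rfl⟩
  rw [map_commutator] at h2
  exact commutator_mono hD hD h2

omit [Finite G] in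
/-- `z` is a commutator in `C_S(y)` for every involution `y ∈ S - S⁰` -/
theorem z_comm {y : G} (hy : y ∈ S) (hyy : y * y = 1) (hy0 : y ∉ S0 S u) :
    u * (t * u * t) ∈ ⁅(S ⊓ centralizer {y} : Subgroup G), (S ⊓ centralizer {y} : Subgroup G)⁆ := by
  have h1 := delta_comm c hy hyy hy0 (V_le_comm c h.facts.u_mem)
  have h2 : y * u * y⁻¹ = t * u * t := by
    rcases c.uv y hy with h3 | h3
    · exact (hy0 (mem_S0.2 ⟨hy, conj_eq_iff.1 h3⟩)).elim
    · exact h3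
  rwa [h2] at h1

/-- **(ii)**: an involution of `S - S⁰` is not conjugate to `u` -/
theorem outer {y : G} (hy : y ∈ S) (hyy : y * y = 1) (hy0 : y ∉ S0 S u) (g : G) : g * y * g⁻¹ ≠ u := by
  intro hg
  obtain ⟨k, hk, hkS⟩ := ext_u c hg
  have F := h.facts
  have hyi : y⁻¹ = y := inv_eq_of_mul_eq_one_left hyy
  have com : ∀ x ∈ ⁅(S ⊓ centralizer {y} : Subgroup G), (S ⊓ centralizer {y} : Subgroup G)⁆, k * x * k⁻¹ ∈ h.J := by
    intro x hx
    have h3 : (⁅(S ⊓ centralizer {y} : Subgroup G), (S ⊓ centralizer {y} : Subgroup G)⁆).map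
        (MulAut.conj k).toMonoidHom ≤ ⁅S0 S u, S0 S u⁆ := by
      rw [map_commutator]
      exact commutator_mono (by rintro _ ⟨x, hx, rfl⟩; exact hkS x hx) (by rintro _ ⟨x, hx, rfl⟩; exact hkS x hx)
    exact commutator_le_J c (h3 ⟨x, hx, rfl⟩)
  have hco : ∀ a ∈ A, ∀ a' ∈ A, (y * a * y⁻¹) * a' = a' * (y * a * y⁻¹) := by
    intro a ha a' ha'
    obtain ⟨b, hb, e⟩ := outer_A c hy hy0 ha
    rw [e, h.comm a' ha' b hb]
  have key : ∀ x ∈ M₁ ⊓ M₂, x ≠ 1 → ∃ b ∈ A, k * (x * (y * x * y⁻¹)) * k⁻¹ = pr t u b := by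
    intro x hx hx1
    have hxA : x ∈ A := h.V_le hx
    have hxx : x * x = 1 := F.sq₁ x hx.1
    have hxi : x⁻¹ = x := inv_eq_of_mul_eq_one_left hxx
    obtain ⟨b, hb, e⟩ := outer_A c hy hy0 hxA
    have hb1 : b ≠ 1 := by
      rintro rfl
      rw [mul_one, h.t_sq, mul_inv_eq_one] at e
      exact hx1 (mul_eq_left.1 e)
    have hbb : b * b = 1 := by
      have h1 : (t * b * t) * (t * b * t) = 1 := by
        rw [← e]
        calc y * x * y⁻¹ * (y * x * y⁻¹) = y * (x * x) * y⁻¹ := by group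
          _ = 1 := by rw [hxx]; group
      rw [← h.cj_mul] at h1
      have h2 := congrArg (fun s => t * s * t) h1
      simp only [h.cj_cj, mul_one, h.t_sq] at h2
      exact h2
    have hmem := com _ (delta_comm c hy hyy hy0 (V_le_comm c hx))
    obtain ⟨a, ha, b', hb', hab⟩ := h.mem_J.1 hmem
    -- conjugate to `z`
    obtain ⟨l, hl⟩ := conj_z h hxA hb hxx hbb hx1 hb1
    have hpr : x * (y * x * y⁻¹) = pr t x b := by rw [e]; rfl
    have hz : (l * k⁻¹) * pr t a b' * (l * k⁻¹)⁻¹ = u * (t * u * t) := by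
      rw [← hab, hpr, ← hl]; group
    have hsq : pr t a b' * pr t a b' = 1 := by
      rw [← hab, hpr]
      calc k * pr t x b * k⁻¹ * (k * pr t x b * k⁻¹) = k * (pr t x b * pr t x b) * k⁻¹ := by group
        _ = 1 := by rw [h.pr_mul hxA hb hxA hb, hxx, hbb, h.pr_one_one]; group
    obtain ⟨haa, hbb'⟩ := pr_sq h ha hb' hsq
    have ha1 : a ≠ 1 := by
      rintro rfl
      exact not_z_right c hb' hbb' hz
    have hb'1 : b' ≠ 1 := by
      rintro rfl
      exact not_z_left c ha haa hz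
    -- `u` times it is conjugate to `u`
    have hu : (k * x⁻¹ * k⁻¹) * pr t (u * a) b' * (k * x⁻¹ * k⁻¹)⁻¹ = u := by
      have e1 : pr t (u * a) b' = u * (k * (x * (y * x * y⁻¹)) * k⁻¹) := by
        rw [hab]
        conv_rhs => rw [← h.pr_one_right u]
        rw [h.pr_mul h.u_mem_A A.one_mem ha hb', one_mul]
      have e2 : u * (k * (x * (y * x * y⁻¹)) * k⁻¹) = k * (x * y * x⁻¹) * k⁻¹ := by
        nth_rewrite 1 [← hk]
        calc k * y * k⁻¹ * (k * (x * (y * x * y⁻¹)) * k⁻¹) = k * (y * (x * (y * x * y⁻¹))) * k⁻¹ := by group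
          _ = k * (y * ((y * x * y⁻¹) * x)) * k⁻¹ := by rw [hco x hxA x hxA]
          _ = k * ((y * y) * x * y⁻¹ * x) * k⁻¹ := by group
          _ = k * (x * y * x⁻¹) * k⁻¹ := by rw [hyy, hyi, hxi, one_mul]
      rw [e1, e2]
      calc k * x⁻¹ * k⁻¹ * (k * (x * y * x⁻¹) * k⁻¹) * (k * x⁻¹ * k⁻¹)⁻¹ = k * y * k⁻¹ := by group
        _ = u := hk
    have hau : u * a = 1 := by
      by_contra hne
      refine not_u_pr c (A.mul_mem h.u_mem_A ha) hb' ?_ hbb' hne hb'1 hu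
      calc u * a * (u * a) = u * (a * u) * a := by group
        _ = u * (u * a) * a := by rw [F.u_cent a ha]
        _ = (u * u) * (a * a) := by group
        _ = 1 := by rw [h.u_sq, haa, one_mul]
    have ha' : a = u := by
      have h3 : a = u⁻¹ := eq_inv_of_mul_eq_one_right hau
      rw [h3]
      exact inv_eq_of_mul_eq_one_left h.u_sq
    exact ⟨b', hb', by rw [hab, ha']⟩
  obtain ⟨x, hx, hx1, hxu⟩ : ∃ x ∈ M₁ ⊓ M₂, x ≠ 1 ∧ x ≠ u := by
    by_contra hne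
    push Not at hne
    have h1 : ((M₁ ⊓ M₂ : Subgroup G) : Set G) ⊆ {1, u} := by
      intro x hx
      by_cases hx1 : x = 1
      · exact Or.inl hx1
      · exact Or.inr (hne x hx hx1)
    have h2 := Set.ncard_le_ncard h1 (Set.toFinite _)
    have h3 : ((M₁ ⊓ M₂ : Subgroup G) : Set G).ncard = 4 := F.cardV
    have h4 : ({1, u} : Set G).ncard ≤ 2 := (Set.ncard_insert_le _ _).trans (by rw [Set.ncard_singleton])
    omega
  have hxA : x ∈ A := h.V_le hx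
  have hux : u * x ∈ M₁ ⊓ M₂ := mul_mem F.u_mem hx
  have hux1 : u * x ≠ 1 := by
    intro e
    apply hxu
    rw [eq_inv_of_mul_eq_one_right e]
    exact inv_eq_of_mul_eq_one_left h.u_sq
  obtain ⟨b₁, hb₁, e₁⟩ := key u F.u_mem F.u_ne
  obtain ⟨b₂, hb₂, e₂⟩ := key x hx hx1
  obtain ⟨b₃, hb₃, e₃⟩ := key (u * x) hux hux1
  have e : k * (u * x * (y * (u * x) * y⁻¹)) * k⁻¹ =
      (k * (u * (y * u * y⁻¹)) * k⁻¹) * (k * (x * (y * x * y⁻¹)) * k⁻¹) := by
    calc k * (u * x * (y * (u * x) * y⁻¹)) * k⁻¹ = k * (u * (x * (y * u * y⁻¹)) * (y * x * y⁻¹)) * k⁻¹ := by group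
      _ = k * (u * ((y * u * y⁻¹) * x) * (y * x * y⁻¹)) * k⁻¹ := by rw [hco u h.u_mem_A x hxA]
      _ = _ := by group
  rw [e₁, e₂, e₃, h.pr_mul h.u_mem_A hb₁ h.u_mem_A hb₂, h.u_sq] at e
  exact F.u_ne (h.pr_inj h.u_mem_A hb₃ A.one_mem (A.mul_mem hb₁ hb₂) e).1

end common

end Cfsg.Agent.Wreath.DOne
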