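import Mathlib

/-!
# The natural module of the alternating group of degree seven

`E4` is the space `F_2^4`, `H` is a group of additive permutations of `E4` isomorphic to `A_7` (generated by `s` and `p`
of order three), `E4 × E4` is the module on which `H` (diagonally, `dg`) and the swap `tau` act.
-/

set_option autoImplicit false

namespace Cfsg.Agent.Wreath

open Equiv

/-- the space `F_2^4` -/
abbrev E4 : Type := Fin 4 → ZMod 2

/-- the vector coded by the binary digits of a number -/
def vec (n : ℕ) : E4 := fun i => if n.testBit i.val then 1 else 0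

/-- the linear map with given images of the basis -/
def lin (c : Fin 4 → ℕ) (x : E4) : E4 :=
  x 0 • vec (c 0) + x 1 • vec (c 1) + x 2 • vec (c 2) + x 3 • vec (c 3)

theorem lin_add (c : Fin 4 → ℕ) (x y : E4) : lin c (x + y) = lin c x + lin c y := by
  simp only [lin, Pi.add_apply, add_smul]
  abel

/-- the automorphism with given images of the basis (and given images of the basis under the inverse) -/
def aut (c d : Fin 4 → ℕ) (h : ∀ x : E4, lin d (lin c x) = x) (h' : ∀ x : E4, lin c (lin d x) = x) : Perm E4 where
  toFun := lin c
  invFun := lin d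
  left_inv := h
  right_inv := h'

/-- order three, without fixed points: `e0 → e1 → e0 + e1`, `e2 → e3 → e2 + e3` -/
def s : Perm E4 := aut ![2, 3, 8, 12] ![3, 1, 12, 4] (by decide) (by decide)

/-- order three: `e1 → e2 → e0 + e1 + e2`, `e0` and `e3` fixed -/
def p : Perm E4 := aut ![1, 4, 7, 8] ![1, 7, 2, 8] (by decide) (by decide)

/-- the group `A_7` -/
def H : Subgroup (Perm E4) := Subgroup.closure {s, p}

/-- an involution of `H`: `e2 → e2 + e0`, `e3 → e3 + e1` -/
def w : Perm E4 := aut ![1, 2, 5, 10] ![1, 2, 5, 10] (by decide) (by decide)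

/-- the swap of the two factors -/
def tau : Perm (E4 × E4) := Equiv.prodComm E4 E4

/-- the diagonal action -/
def dg (h : Perm E4) : Perm (E4 × E4) := Equiv.prodCongr h h

/-- the action on the first factor -/
def lft (h : Perm E4) : Perm (E4 × E4) := Equiv.prodCongr h (Equiv.refl E4)

/-- Additive permutations. -/
def IsAdd {A : Type*} [Add A] (y : Perm A) : Prop := ∀ a b : A, y (a + b) = y a + y b

end Cfsg.Agent.Wreath
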