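import Cfsg.Agent.Wreath.StrongClosure
import Cfsg.Agent.TwoFusion.ClosedCommutator

/-!
# Lemma SC: the normal closures of the factors commute modulo `O(G)`
-/

set_option autoImplicit false

namespace Cfsg.Agent.Wreath.StrongClosureEnd

open Subgroup Cfsg.Agent.Wreath.StrongClosure

/-- **Lemma SC.** -/
theorem commutator_le {G : Type*} [Group G] [Finite G] {S : Sylow 2 G} {A B : Subgroup G} {u v : G}
    (H : SC S A B u v) : ⁅normalClosure (A : Set G), normalClosure (B : Set G)⁆ ≤ Cfsg.oddCore G :=
  Cfsg.Agent.TwoFusion.ClosedCommutator.commutator_le S A B H.disj H.closed H.symm.closed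

end Cfsg.Agent.Wreath.StrongClosureEnd
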